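import Mathlib.AlgebraicGeometry.Morphisms.QuasiCompact
import Mathlib.RingTheory.Ideal.MinimalPrime.Localization

/-! The closure of the image of a quasi-compact morphism consists of specializations of the image. -/

universe u

set_option backward.isDefEq.respectTransparency false

namespace Groth.Agent.LimSch

open CategoryTheory AlgebraicGeometry TopologicalSpace

theorem exists_specializes_of_mem_closure_range {X Y : Scheme.{u}} (g : X ⟶ Y) [QuasiCompact g]
    {y : Y} (hy : y ∈ closure (Set.range g)) : ∃ x : X, g x ⤳ y := by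
  obtain ⟨_, ⟨⟨V, hV, rfl⟩, hyV, -⟩⟩ :=
    Y.isBasis_affineOpens.exists_subset_of_mem_open (Set.mem_univ y) isOpen_univ
  obtain ⟨S, hSfin, hS⟩ := (isCompact_iff_finite_and_eq_biUnion_affineOpens (U := g ⁻¹ᵁ V)).mp
      (QuasiCompact.isCompact_preimage (f := g) (V : Set Y) V.2 hV.isCompact)
  have hy' : y ∈ closure (⋃ W ∈ S, g '' (W.1 : Set X)) := by
    refine closure_mono ?_ (V.2.inter_closure ⟨hyV, hy⟩)
    rintro _ ⟨hV', x, rfl⟩
    have hx : x ∈ ((g ⁻¹ᵁ V : X.Opens) : Set X) := hV'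
    rw [hS] at hx
    simp only [TopologicalSpace.Opens.coe_iSup, Set.mem_iUnion] at hx
    obtain ⟨W, hW, hxW⟩ := hx
    exact Set.mem_biUnion hW ⟨x, hxW, rfl⟩
  rw [hSfin.closure_biUnion] at hy'
  obtain ⟨W, hW, hy'⟩ := Set.mem_iUnion₂.mp hy'
  have e : W.1 ≤ g ⁻¹ᵁ V := by
    intro x hx
    refine hS.ge ?_
    exact TopologicalSpace.Opens.mem_iSup.mpr ⟨W, TopologicalSpace.Opens.mem_iSup.mpr ⟨hW, hx⟩⟩
  let φ := (g.appLE V W.1 e).hom
  have hfac : ∀ q : Spec Γ(X, W.1), g (W.2.fromSpec q) = hV.fromSpec (Spec.map (g.appLE V W.1 e) q) :=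
    fun q => by
      rw [← Scheme.Hom.comp_apply, ← Scheme.Hom.comp_apply, IsAffineOpen.SpecMap_appLE_fromSpec]
  obtain ⟨p, rfl⟩ : y ∈ Set.range hV.fromSpec := by rw [hV.range_fromSpec]; exact hyV
  have himg : g '' (W.1 : Set X) = hV.fromSpec '' Set.range (PrimeSpectrum.comap φ) := by
    rw [← W.2.range_fromSpec, ← Set.range_comp, ← Set.range_comp]
    exact congrArg Set.range (funext hfac)
  rw [himg] at hy'
  have hp : p ∈ closure (Set.range (PrimeSpectrum.comap φ)) := by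
    rw [(hV.fromSpec.isOpenEmbedding.isEmbedding.isInducing).closure_eq_preimage_closure_image]
    exact hy'
  rw [PrimeSpectrum.closure_range_comap, PrimeSpectrum.mem_zeroLocus, SetLike.coe_subset_coe] at hp
  obtain ⟨m, hm, hmp⟩ := Ideal.exists_minimalPrimes_le hp
  obtain ⟨q, hq, -, hqm⟩ := Ideal.exists_comap_eq_of_mem_minimalPrimes (I := (⊥ : Ideal Γ(X, W.1))) φ m
    (by rwa [← RingHom.ker_eq_comap_bot])
  refine ⟨W.2.fromSpec (⟨q, hq⟩ : PrimeSpectrum Γ(X, W.1)), ?_⟩
  rw [hfac]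
  refine Specializes.map ?_ hV.fromSpec.continuous
  exact (PrimeSpectrum.le_iff_specializes _ p).mp (show q.comap φ ≤ p.asIdeal from hqm.le.trans hmp)

end Groth.Agent.LimSch
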