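import Groth.Agent.LimSch.Constructible
import Mathlib.CategoryTheory.CofilteredSystem
import Mathlib.Topology.Sober

/-!
Maximal points, irreducibility and connectedness of cofiltered limits of schemes.
-/

set_option autoImplicit false
set_option backward.isDefEq.respectTransparency false

universe u

open CategoryTheory Limits AlgebraicGeometry Topology

namespace Groth.Agent.LimSch

/-- A point without proper generization. -/
def IsMaxPt {X : Type*} [TopologicalSpace X] (x : X) : Prop := ∀ z : X, z ⤳ x → z = x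

section Top

variable {X : Type*} [TopologicalSpace X] [QuasiSober X] [T0Space X]

lemma exists_isMaxPt_specializes (x : X) : ∃ z : X, IsMaxPt z ∧ z ⤳ x := by
  have hC := isIrreducible_irreducibleComponent (x := x)
  have hcl : IsClosed (irreducibleComponent x) := isClosed_irreducibleComponent
  have hg := hC.isGenericPoint_genericPoint hcl
  refine ⟨hC.genericPoint, fun z hz => ?_, hg.specializes mem_irreducibleComponent⟩
  have hsub : irreducibleComponent x ⊆ closure {z} := by
    rw [← hg.def]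
    exact closure_minimal (Set.singleton_subset_iff.mpr hz.mem_closure) isClosed_closure
  have := eq_irreducibleComponent isIrreducible_singleton.closure.2 hsub
  exact (show IsGenericPoint z (irreducibleComponent x) from this).eq hg

lemma isMaxPt_iff_mem_genericPoints (x : X) : IsMaxPt x ↔ x ∈ genericPoints X := by
  constructor
  · intro h
    obtain ⟨T, hT, hxT⟩ := exists_mem_irreducibleComponents_subset_of_isIrreducible _
      (isIrreducible_singleton (x := x)).closure
    have hg := hT.1.isGenericPoint_genericPoint (isClosed_of_mem_irreducibleComponents _ hT)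
    have := h _ (hg.specializes (hxT (subset_closure rfl)))
    rw [this] at hg
    show closure {x} ∈ irreducibleComponents X
    rw [hg.def]
    exact hT
  · intro h z hz
    have hsub : closure {x} ⊆ closure {z} :=
      closure_minimal (Set.singleton_subset_iff.mpr hz.mem_closure) isClosed_closure
    have : closure {z} = closure {x} :=
      (h.2 isIrreducible_singleton.closure hsub).antisymm hsub
    exact (show IsGenericPoint z (closure {x}) from this).eq isGenericPoint_closure

lemma finite_isMaxPt [TopologicalSpace.NoetherianSpace X] : {x : X | IsMaxPt x}.Finite := by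
  refine Set.Finite.subset (genericPoints.finite
    TopologicalSpace.NoetherianSpace.finite_irreducibleComponents) fun x hx => ?_
  exact (isMaxPt_iff_mem_genericPoints x).mp hx

/-- An open set containing all maximal points is dense. -/
lemma dense_of_isMaxPt_mem {V : Set X} (h : ∀ x, IsMaxPt x → x ∈ V) : Dense V := by
  intro x
  obtain ⟨z, hz, hzx⟩ := exists_isMaxPt_specializes x
  exact closure_mono (Set.singleton_subset_iff.mpr (h z hz)) hzx.mem_closure

/-- If there are finitely many maximal points then a dense open contains all of them. -/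
lemma isMaxPt_mem_of_dense (hfin : {x : X | IsMaxPt x}.Finite) {V : Set X} (hV : IsOpen V)
    (hd : Dense V) {x : X} (hx : IsMaxPt x) : x ∈ V := by
  let F := ⋃ z ∈ {z : X | IsMaxPt z} \ {x}, closure {z}
  have hF : IsClosed F := (hfin.subset Set.sdiff_subset).isClosed_biUnion fun _ _ => isClosed_closure
  have hxF : x ∉ F := by
    intro hxF
    obtain ⟨z, hz, hxz⟩ := Set.mem_iUnion₂.mp hxF
    exact hz.2 (hx z (specializes_iff_mem_closure.mpr hxz))
  obtain ⟨y, hyF, hyV⟩ := hd.inter_open_nonempty _ hF.isOpen_compl ⟨x, hxF⟩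
  obtain ⟨z, hz, hzy⟩ := exists_isMaxPt_specializes y
  rcases eq_or_ne z x with rfl | hne
  · exact hzy.mem_open hV hyV
  · exact absurd (Set.mem_iUnion₂.mpr ⟨z, ⟨hz, hne⟩, hzy.mem_closure⟩) hyF

end Top

variable {I : Type u} [SmallCategory I] [IsCofiltered I] {D : I ⥤ Scheme.{u}} {c : Cone D}
  [∀ (i j : I) (f : i ⟶ j), IsAffineHom (D.map f)]

lemma specializes_of_forall_π (hc : IsLimit c) {s t : c.pt}
    (h : ∀ i, c.π.app i t ⤳ c.π.app i s) : t ⤳ s := by
  obtain ⟨i⟩ := IsCofiltered.nonempty (C := I)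
  refine specializes_iff_forall_open.mpr fun U hU hs => ?_
  obtain ⟨j, -, V, -, hsV, hVU⟩ := exists_preimage_subset hc i hU hs
  exact hVU ((h j).mem_open V.2 hsV)

lemma isMaxPt_of_forall_π (hc : IsLimit c) {s : c.pt} (h : ∀ i, IsMaxPt (c.π.app i s)) :
    IsMaxPt s := fun _ hz =>
  point_ext hc fun i => h i _ (hz.map (c.π.app i).continuous)

/-- In a system with finitely many maximal points, compatible under the transition maps, maximal
points of the limit map to maximal points. -/
lemma isMaxPt_π (hc : IsLimit c) (hfin : ∀ i, {s : D.obj i | IsMaxPt s}.Finite)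
    (hsys : ∀ (i j : I) (g : i ⟶ j) (s : D.obj i), IsMaxPt s → IsMaxPt (D.map g s))
    {s : c.pt} (hs : IsMaxPt s) (i : I) : IsMaxPt (c.π.app i s) := by
  let F : I ⥤ Type u :=
  { obj := fun i => {z : D.obj i // IsMaxPt z ∧ z ⤳ c.π.app i s}
    map := fun {i j} g => TypeCat.ofHom fun z => ⟨D.map g z.1, hsys i j g _ z.2.1, by
      have := z.2.2.map (D.map g).continuous
      rwa [π_apply g s] at this⟩
    map_id := fun i => by ext z; simp
    map_comp := fun f g => by ext z; simp }
  have : ∀ i, Finite (F.obj i) := fun i =>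
    ((hfin i).subset (fun z (hz : IsMaxPt z ∧ z ⤳ c.π.app i s) => hz.1)).to_subtype
  have : ∀ i, Nonempty (F.obj i) := fun i => by
    obtain ⟨z, h1, h2⟩ := exists_isMaxPt_specializes (c.π.app i s)
    exact ⟨⟨z, h1, h2⟩⟩
  obtain ⟨x, hx⟩ := nonempty_sections_of_finite_cofiltered_system F
  obtain ⟨t, ht⟩ := exists_point_of_compatible hc (fun i => (x i).1)
    (fun g => congrArg Subtype.val (hx g))
  have := hs t (specializes_of_forall_π hc fun i => (ht i).symm ▸ (x i).2.2)
  rw [← this, ht i]
  exact (x i).2.1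

lemma isMaxPt_iff_forall_π (hc : IsLimit c) (hfin : ∀ i, {s : D.obj i | IsMaxPt s}.Finite)
    (hsys : ∀ (i j : I) (g : i ⟶ j) (s : D.obj i), IsMaxPt s → IsMaxPt (D.map g s)) (s : c.pt) :
    IsMaxPt s ↔ ∀ i, IsMaxPt (c.π.app i s) :=
  ⟨fun hs i => isMaxPt_π hc hfin hsys hs i, isMaxPt_of_forall_π hc⟩

lemma dense_preimage_and_converse (hc : IsLimit c) (hfin : ∀ i, {s : D.obj i | IsMaxPt s}.Finite)
    (hsys : ∀ (i j : I) (g : i ⟶ j) (s : D.obj i), IsMaxPt s → IsMaxPt (D.map g s))
    (i₀ : I) (V : (D.obj i₀).Opens) :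
    (Dense (V : Set (D.obj i₀)) →
        (∀ (i : I) (g : i ⟶ i₀), Dense (((D.map g) ⁻¹ᵁ V : (D.obj i).Opens) : Set (D.obj i))) ∧
          Dense (((c.π.app i₀) ⁻¹ᵁ V : c.pt.Opens) : Set c.pt)) ∧
      (Dense (((c.π.app i₀) ⁻¹ᵁ V : c.pt.Opens) : Set c.pt) → {s : c.pt | IsMaxPt s}.Finite →
          ∃ (i : I) (g : i ⟶ i₀), Dense (((D.map g) ⁻¹ᵁ V : (D.obj i).Opens) : Set (D.obj i))) := by
  refine ⟨fun h => ⟨fun i g => ?_, ?_⟩, fun h hlim => ?_⟩
  · exact dense_of_isMaxPt_mem fun x hx => isMaxPt_mem_of_dense (hfin i₀) V.2 h (hsys _ _ g x hx)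
  · exact dense_of_isMaxPt_mem fun x hx =>
      isMaxPt_mem_of_dense (hfin i₀) V.2 h (isMaxPt_π hc hfin hsys hx i₀)
  · by_contra! hne
    let F : Over i₀ ⥤ Type u :=
    { obj := fun j => {z : D.obj j.left // IsMaxPt z ∧ D.map j.hom z ∉ V}
      map := fun {j k} g => TypeCat.ofHom fun z => ⟨D.map g.left z.1, hsys _ _ g.left _ z.2.1, by
        rw [map_apply, Over.w g]; exact z.2.2⟩
      map_id := fun j => by ext z; simp
      map_comp := fun f g => by ext z; simp }
    have : ∀ j, Finite (F.obj j) := fun j =>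
      ((hfin j.left).subset (fun z (hz : IsMaxPt z ∧ D.map j.hom z ∉ V) => hz.1)).to_subtype
    have : ∀ j, Nonempty (F.obj j) := fun j => by
      by_contra hj
      refine hne j.left j.hom (dense_of_isMaxPt_mem fun x hx => ?_)
      by_contra hxV
      exact hj ⟨⟨x, hx, hxV⟩⟩
    obtain ⟨x, hx⟩ := nonempty_sections_of_finite_cofiltered_system F
    let hc' := (Functor.Initial.isLimitWhiskerEquiv (Over.forget i₀) c).symm hc
    have : ∀ (a b : Over i₀) (f : a ⟶ b), IsAffineHom ((Over.forget i₀ ⋙ D).map f) :=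
      fun a b f => inferInstanceAs (IsAffineHom (D.map f.left))
    obtain ⟨t, ht⟩ := exists_point_of_compatible hc' (fun j => (x j).1)
      (fun g => congrArg Subtype.val (hx g))
    have htmax : IsMaxPt (t : c.pt) :=
      isMaxPt_of_forall_π (c := Cone.whisker (Over.forget i₀) c) hc' fun j => (ht j).symm ▸ (x j).2.1
    have htV : c.π.app i₀ t ∈ V := isMaxPt_mem_of_dense hlim (c.π.app i₀ ⁻¹ᵁ V).2 h htmax
    refine (x (Over.mk (𝟙 i₀))).2.2 ?_
    have e := ht (Over.mk (𝟙 i₀))
    rw [← e]
    change D.map (𝟙 i₀) (c.π.app i₀ t) ∈ V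
    rw [π_apply]
    exact htV

lemma isEmpty_of_isEmpty_limit (hc : IsLimit c) (i : I) [CompactSpace (D.obj i)] [IsEmpty c.pt] :
    ∃ (j : I) (φ : j ⟶ i), IsEmpty (D.obj j) := by
  obtain ⟨j, φ, h⟩ := exists_stage_disjoint hc i (𝟙 (D.obj i)) Set.univ isClosed_univ
    (fun s => isEmptyElim s)
  exact ⟨j, φ, ⟨fun y => h y _ trivial rfl⟩⟩

lemma nonempty_of_forall_nonempty (hc : IsLimit c) (i : I) [CompactSpace (D.obj i)]
    (h : ∀ (j : I) (_ : j ⟶ i), Nonempty (D.obj j)) : Nonempty c.pt := by
  by_contra hne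
  have : IsEmpty c.pt := not_nonempty_iff.mp hne
  obtain ⟨j, φ, hj⟩ := isEmpty_of_isEmpty_limit hc i
  exact not_isEmpty_iff.mpr (h j φ) hj

section Dominant

variable (hd : ∀ (i j : I) (φ : i ⟶ j), IsDominant (D.map φ))
include hd

lemma denseRange_π (hc : IsLimit c) (i : I) : DenseRange ⇑(c.π.app i) :=
  ((isDominant_π_iff hc i).mpr fun j φ => hd j i φ).denseRange

lemma eq_empty_of_preimage_eq_empty (hc : IsLimit c) {i : I} {V : Set (D.obj i)} (hV : IsOpen V)
    (h : (⇑(c.π.app i) ⁻¹' V : Set c.pt) = ∅) : V = ∅ := by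
  by_contra hne
  obtain ⟨s, hs⟩ := (denseRange_π hd hc i).exists_mem_open hV (Set.nonempty_iff_ne_empty.mpr hne)
  exact (Set.eq_empty_iff_forall_notMem.mp h) s hs

lemma irreducibleSpace_iff (hc : IsLimit c) (i₀ : I) [CompactSpace (D.obj i₀)] :
    IrreducibleSpace c.pt ↔
      ∃ (i : I) (_ : i ⟶ i₀), ∀ (j : I) (_ : j ⟶ i), IrreducibleSpace (D.obj j) := by
  refine ⟨fun h => ⟨i₀, 𝟙 _, fun j _ => ?_⟩, fun ⟨i, φ, h⟩ => ?_⟩
  · have hd' := denseRange_π hd hc j
    have : IsIrreducible (Set.univ : Set (D.obj j)) := by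
      rw [← hd'.closure_range]
      exact (Set.image_univ ▸ (IrreducibleSpace.isIrreducible_univ c.pt).image _
        (c.π.app j).continuous.continuousOn).closure
    exact irreducibleSpace_def _ |>.mpr this
  · have : CompactSpace (D.obj i) := QuasiCompact.compactSpace_of_compactSpace (D.map φ)
    have hne : Nonempty c.pt :=
      nonempty_of_forall_nonempty hc i fun j ψ => (h j ψ).toNonempty
    refine @IrreducibleSpace.mk _ _ ⟨?_⟩ hne
    rintro U U' hU hU' ⟨s, -, hs⟩ ⟨t, -, ht⟩
    obtain ⟨a, α, V, -, hsV, hVU⟩ := exists_preimage_subset hc i hU hs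
    obtain ⟨b, β, V', -, htV, hVU'⟩ := exists_preimage_subset hc i hU' ht
    obtain ⟨k, p, q, -⟩ := IsCofilteredOrEmpty.cone_objs a b
    have := h k (p ≫ α)
    obtain ⟨y, hy⟩ := nonempty_preirreducible_inter ((V.2.preimage (D.map p).continuous))
      (V'.2.preimage (D.map q).continuous)
      ⟨c.π.app k s, show D.map p (c.π.app k s) ∈ V by rw [π_apply]; exact hsV⟩
      ⟨c.π.app k t, show D.map q (c.π.app k t) ∈ V' by rw [π_apply]; exact htV⟩
    obtain ⟨z, hz⟩ := (denseRange_π hd hc k).exists_mem_open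
      ((V.2.preimage (D.map p).continuous).inter (V'.2.preimage (D.map q).continuous)) ⟨y, hy⟩
    refine ⟨z, trivial, hVU ?_, hVU' ?_⟩
    · rw [Set.mem_preimage, ← π_apply p]; exact hz.1
    · rw [Set.mem_preimage, ← π_apply q]; exact hz.2

lemma connectedSpace_iff (hc : IsLimit c) (i₀ : I) [CompactSpace (D.obj i₀)] :
    ConnectedSpace c.pt ↔
      ∃ (i : I) (_ : i ⟶ i₀), ∀ (j : I) (_ : j ⟶ i), ConnectedSpace (D.obj j) := by
  refine ⟨fun h => ⟨i₀, 𝟙 _, fun j _ => ?_⟩, fun ⟨i, φ, h⟩ => ?_⟩
  · have hd' := denseRange_π hd hc j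
    exact { toPreconnectedSpace :=
              @DenseRange.preconnectedSpace _ _ _ _ h.toPreconnectedSpace _ hd' (c.π.app j).continuous
            toNonempty := Nonempty.map (c.π.app j) h.toNonempty }
  · have : CompactSpace (D.obj i) := QuasiCompact.compactSpace_of_compactSpace (D.map φ)
    have hne : Nonempty c.pt :=
      nonempty_of_forall_nonempty hc i fun j ψ => (h j ψ).toNonempty
    have : ∀ {i j} (f : i ⟶ j), IsAffineHom (D.map f) := fun f => inferInstance
    have := isAffineHom_π_app _ _ hc i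
    have hcs : CompactSpace c.pt := QuasiCompact.compactSpace_of_compactSpace (c.π.app i)
    refine { toPreconnectedSpace := preconnectedSpace_iff_clopen.mpr fun W hW => ?_
             toNonempty := hne }
    obtain ⟨a, α, V, -, hWV, hVW, -⟩ := exists_compact_open_between hc i hW.1.isCompact hW.2 le_rfl
      isOpen_univ (Set.subset_univ _)
    obtain ⟨b, β, V', -, hWV', hVW', -⟩ := exists_compact_open_between hc a
      hW.compl.1.isCompact hW.compl.2 le_rfl isOpen_univ (Set.subset_univ _)
    have : CompactSpace (D.obj b) := QuasiCompact.compactSpace_of_compactSpace (D.map (β ≫ α))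
    obtain ⟨k, ψ, hk⟩ := exists_stage_subset hc b IsLocallyConstructible.univ isCompact_univ
      isOpen_univ ((V.2.preimage (D.map β).continuous).union V'.2) (fun x _ => by
      rcases em (x ∈ W) with hx | hx
      · exact Or.inl (show D.map β (c.π.app b x) ∈ V by rw [π_apply]; exact hWV hx)
      · exact Or.inr (hWV' hx))
    let A : Set (D.obj k) := ⇑(D.map ψ) ⁻¹' (⇑(D.map β) ⁻¹' V)
    let A' : Set (D.obj k) := ⇑(D.map ψ) ⁻¹' V'
    have hAA : A ∩ A' = ∅ := eq_empty_of_preimage_eq_empty hd hc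
      (((V.2.preimage (D.map β).continuous).preimage (D.map ψ).continuous).inter
        (V'.2.preimage (D.map ψ).continuous)) (by
      refine Set.eq_empty_iff_forall_notMem.mpr fun x ⟨hx, hx'⟩ => ?_
      refine hVW' (show c.π.app b x ∈ V' by rw [← π_apply ψ]; exact hx') (hVW ?_)
      rw [Set.mem_preimage, ← π_apply β, ← π_apply ψ]; exact hx)
    have hcl : IsClopen A := by
      refine ⟨?_, (V.2.preimage (D.map β).continuous).preimage (D.map ψ).continuous⟩
      have : A = A'ᶜ := by
        ext y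
        refine ⟨fun hy hy' => (Set.eq_empty_iff_forall_notMem.mp hAA) y ⟨hy, hy'⟩, fun hy => ?_⟩
        rcases hk (show D.map ψ y ∈ Set.univ ∩ Set.univ from ⟨trivial, trivial⟩) with h | h
        · exact h
        · exact absurd h hy
      rw [this]
      exact (V'.2.preimage (D.map ψ).continuous).isClosed_compl
    have := h k (ψ ≫ β ≫ α)
    rcases isClopen_iff.mp hcl with hA | hA
    · left
      refine Set.eq_empty_iff_forall_notMem.mpr fun x hx => ?_
      refine (Set.eq_empty_iff_forall_notMem.mp hA) (c.π.app k x) ?_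
      change D.map β (D.map ψ (c.π.app k x)) ∈ V
      rw [π_apply, π_apply]; exact hWV hx
    · right
      refine Set.eq_univ_iff_forall.mpr fun x => hVW ?_
      have := hA.ge (Set.mem_univ (c.π.app k x))
      change D.map β (D.map ψ (c.π.app k x)) ∈ V at this
      rwa [π_apply, π_apply] at this

end Dominant

/-- If the limit is not irreducible then neither are the stages far enough. -/
lemma exists_not_irreducibleSpace (hc : IsLimit c) (i₀ : I) [CompactSpace (D.obj i₀)]
    [QuasiSeparatedSpace (D.obj i₀)] (h : ¬ IrreducibleSpace c.pt) :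
    ∃ (i : I) (_ : i ⟶ i₀), ∀ (j : I) (_ : j ⟶ i), ¬ IrreducibleSpace (D.obj j) := by
  by_cases hne : Nonempty c.pt
  swap
  · have : IsEmpty c.pt := not_nonempty_iff.mp hne
    obtain ⟨i, φ, hi⟩ := isEmpty_of_isEmpty_limit hc i₀
    exact ⟨i, φ, fun j ψ hj => hi.elim' (D.map ψ hj.toNonempty.some)⟩
  have h' : ¬ IsPreirreducible (Set.univ : Set c.pt) := fun h' => h (@IrreducibleSpace.mk _ _ ⟨h'⟩ hne)
  obtain ⟨U, U', hU, hU', ⟨s, -, hs⟩, ⟨t, -, ht⟩, hUU'⟩ : ∃ U U', IsOpen U ∧ IsOpen U' ∧
      (Set.univ ∩ U).Nonempty ∧ (Set.univ ∩ U').Nonempty ∧ Set.univ ∩ (U ∩ U') = (∅ : Set c.pt) := by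
    simpa [IsPreirreducible, Set.not_nonempty_iff_eq_empty, not_forall] using h'
  obtain ⟨a, α, V, hVa, hsV, hVU⟩ := exists_preimage_subset hc i₀ hU hs
  obtain ⟨b, β, V', hVb, htV, hVU'⟩ := exists_preimage_subset hc a hU' ht
  have : QuasiSeparatedSpace (D.obj b) := quasiSeparatedSpace_of_quasiSeparated (D.map (β ≫ α))
  obtain ⟨k, ψ, hk⟩ := exists_stage_subset hc b IsLocallyConstructible.univ
    ((QuasiSeparatedSpace.inter_isCompact _ _ (V.2.preimage (D.map β).continuous)
      (hVa.preimage (D.map β)).isCompact V'.2 hVb.isCompact))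
    ((V.2.preimage (D.map β).continuous).inter V'.2) isOpen_empty (fun x hx => by
      have h1 : x ∈ U := hVU (by rw [Set.mem_preimage, ← π_apply β]; exact hx.2.1)
      have h2 : x ∈ U' := hVU' hx.2.2
      exact ((Set.eq_empty_iff_forall_notMem.mp hUU') x ⟨trivial, h1, h2⟩).elim)
  refine ⟨k, ψ ≫ β ≫ α, fun j χ hj => ?_⟩
  obtain ⟨y, hy⟩ := nonempty_preirreducible_inter
    (((V.2.preimage (D.map β).continuous).preimage (D.map ψ).continuous).preimage (D.map χ).continuous)
    ((V'.2.preimage (D.map ψ).continuous).preimage (D.map χ).continuous)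
    ⟨c.π.app j s, by
      simp only [Set.mem_preimage, π_apply]; exact hsV⟩
    ⟨c.π.app j t, by simp only [Set.mem_preimage, π_apply]; exact htV⟩
  exact hk (show D.map ψ (D.map χ y) ∈ Set.univ ∩ (_ ∩ _) from ⟨trivial, hy.1, hy.2⟩)

/-- If the limit is not preconnected then neither are the stages far enough. -/
lemma exists_not_preconnectedSpace (hc : IsLimit c) (i₀ : I) [CompactSpace (D.obj i₀)]
    [QuasiSeparatedSpace (D.obj i₀)] (h : ¬ PreconnectedSpace c.pt) :
    ∃ (i : I) (_ : i ⟶ i₀), ∀ (j : I) (_ : j ⟶ i), ¬ PreconnectedSpace (D.obj j) := by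
  have : ∀ {i j} (f : i ⟶ j), IsAffineHom (D.map f) := fun f => inferInstance
  have := isAffineHom_π_app _ _ hc i₀
  have hcs : CompactSpace c.pt := QuasiCompact.compactSpace_of_compactSpace (c.π.app i₀)
  rw [preconnectedSpace_iff_clopen] at h
  push Not at h
  obtain ⟨W, hW, ⟨s, hs⟩, hne⟩ := h
  obtain ⟨t, ht⟩ := (Set.ne_univ_iff_exists_notMem W).mp hne
  obtain ⟨a, α, V, hVc, hWV, hVW, -⟩ := exists_compact_open_between hc i₀ hW.1.isCompact hW.2 le_rfl
    isOpen_univ (Set.subset_univ _)
  obtain ⟨b, β, V', hVc', hWV', hVW', -⟩ := exists_compact_open_between hc a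
    hW.compl.1.isCompact hW.compl.2 le_rfl isOpen_univ (Set.subset_univ _)
  have : CompactSpace (D.obj b) := QuasiCompact.compactSpace_of_compactSpace (D.map (β ≫ α))
  have : QuasiSeparatedSpace (D.obj b) := quasiSeparatedSpace_of_quasiSeparated (D.map (β ≫ α))
  obtain ⟨k, ψ, hk⟩ := exists_stage_subset hc b IsLocallyConstructible.univ isCompact_univ
    isOpen_univ ((V.2.preimage (D.map β).continuous).union V'.2) (fun x _ => by
    rcases em (x ∈ W) with hx | hx
    · exact Or.inl (show D.map β (c.π.app b x) ∈ V by rw [π_apply]; exact hWV hx)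
    · exact Or.inr (hWV' hx))
  obtain ⟨l, χ, hl⟩ := exists_stage_subset hc b IsLocallyConstructible.univ
    ((QuasiSeparatedSpace.inter_isCompact _ _ (V.2.preimage (D.map β).continuous)
      (isCompact_preimage_map β hVc V.2) V'.2 hVc'))
    ((V.2.preimage (D.map β).continuous).inter V'.2) isOpen_empty (fun x hx => by
      refine (hVW' hx.2.2 (hVW ?_)).elim
      rw [Set.mem_preimage, ← π_apply β]; exact hx.2.1)
  obtain ⟨m, p, q, hpq⟩ := IsCofiltered.cospan ψ χ
  refine ⟨m, p ≫ ψ ≫ β ≫ α, fun j ω hj => ?_⟩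
  let r : j ⟶ b := ω ≫ p ≫ ψ
  let A : Set (D.obj j) := ⇑(D.map r) ⁻¹' (⇑(D.map β) ⁻¹' V)
  let A' : Set (D.obj j) := ⇑(D.map r) ⁻¹' V'
  have hAA' : ∀ y, y ∈ A ↔ y ∉ A' := by
    intro y
    constructor
    · intro hy hy'
      refine hl (a := D.map (ω ≫ q) y) ?_
      have e : D.map χ (D.map (ω ≫ q) y) = D.map r y := by
        rw [map_apply]; simp only [r, Category.assoc, hpq]
      rw [Set.mem_preimage, e]
      exact ⟨trivial, hy, hy'⟩
    · intro hy
      have e : D.map ψ (D.map (ω ≫ p) y) = D.map r y := by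
        rw [map_apply]; simp only [r, Category.assoc]
      have := hk (show D.map ψ (D.map (ω ≫ p) y) ∈ Set.univ ∩ Set.univ from ⟨trivial, trivial⟩)
      rw [Set.mem_preimage, e] at this
      exact this.resolve_right hy
  have hcl : IsClopen A := by
    refine ⟨?_, (V.2.preimage (D.map β).continuous).preimage (D.map r).continuous⟩
    rw [show A = A'ᶜ from Set.ext hAA']
    exact (V'.2.preimage (D.map r).continuous).isClosed_compl
  rcases isClopen_iff.mp hcl with hA | hA
  · refine (Set.eq_empty_iff_forall_notMem.mp hA) (c.π.app j s) ?_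
    change D.map β (D.map r (c.π.app j s)) ∈ V
    rw [π_apply, π_apply]; exact hWV hs
  · refine ((hAA' (c.π.app j t)).mp (hA ▸ Set.mem_univ _)) ?_
    change D.map r (c.π.app j t) ∈ V'
    rw [π_apply]; exact hWV' ht

end Groth.Agent.LimSch
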