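import Groth.Agent.LimSch.Topology
import Mathlib.RingTheory.Spectrum.Prime.ConstructibleSet
import Mathlib.AlgebraicGeometry.Morphisms.FinitePresentation

/-!
Constructible subsets in cofiltered limits of schemes with affine transition maps.
-/

set_option autoImplicit false
set_option backward.isDefEq.respectTransparency false

universe u

open CategoryTheory Limits AlgebraicGeometry Topology

namespace Groth.Agent.LimSch

lemma isLocallyConstructible_compl {X : Type*} [TopologicalSpace X] {s : Set X}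
    (hs : IsLocallyConstructible s) : IsLocallyConstructible sᶜ := by
  intro x
  obtain ⟨U, hxU, hU, hsU⟩ := hs x
  exact ⟨U, hxU, hU, by simpa only [Set.preimage_compl] using hsU.compl⟩

lemma isLocallyConstructible_preimage {X Y : Scheme.{u}} (f : X ⟶ Y) {s : Set Y}
    (hs : IsLocallyConstructible s) : IsLocallyConstructible (⇑f ⁻¹' s) := by
  intro x
  obtain ⟨_, ⟨W, hW, rfl⟩, hxW, -⟩ :=
    Y.isBasis_affineOpens.exists_subset_of_mem_open (Set.mem_univ (f x)) isOpen_univ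
  obtain ⟨_, ⟨U, hU, rfl⟩, hxU, hUW⟩ :=
    X.isBasis_affineOpens.exists_subset_of_mem_open (show x ∈ f ⁻¹ᵁ W from hxW) (f ⁻¹ᵁ W).2
  have : CompactSpace W := isCompact_iff_compactSpace.mp hW.isCompact
  have : IsAffine (Scheme.Opens.toScheme W) := hW
  refine ⟨U, U.2.mem_nhds hxU, U.2, ?_⟩
  have h1 : IsConstructible (⇑(Scheme.Opens.ι W) ⁻¹' s) :=
    (hs.preimage_of_isOpenEmbedding (Scheme.Opens.ι W).isOpenEmbedding).isConstructible
  have h2 := (Scheme.Hom.resLE f W U hUW).isConstructible_preimage h1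
  have heq : (Subtype.val ⁻¹' (⇑f ⁻¹' s) : Set ↥(U : Set X)) =
      ⇑(Scheme.Hom.resLE f W U hUW) ⁻¹' (⇑(Scheme.Opens.ι W) ⁻¹' s) := by
    refine Set.ext fun y => ?_
    change f y.1 ∈ s ↔ (Scheme.Opens.ι W) (Scheme.Hom.resLE f W U hUW y) ∈ s
    rw [← Scheme.Hom.comp_apply, Scheme.Hom.resLE_comp_ι]
    rfl
  exact heq ▸ h2

lemma exists_finite_affine_cover {X : Scheme.{u}} {K : Set X} (hK : IsCompact K) (hKo : IsOpen K) :
    ∃ s : Set X.affineOpens, s.Finite ∧ K = ⋃ U ∈ s, (U.1 : Set X) := by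
  obtain ⟨s, hs, hsf, h⟩ := X.isBasis_affineOpens.exists_finite_of_isCompact (U := ⟨K, hKo⟩) hK
  refine ⟨{U | U.1 ∈ s}, hsf.preimage Subtype.val_injective.injOn, ?_⟩
  have := congr(SetLike.coe $h)
  simp only [TopologicalSpace.Opens.coe_mk, TopologicalSpace.Opens.coe_sSup] at this
  rw [this]
  ext x
  simp only [Set.mem_iUnion]
  exact ⟨fun ⟨U, hU, hx⟩ => ⟨⟨U, hs hU⟩, hU, hx⟩, fun ⟨U, hU, hx⟩ => ⟨U.1, hU, hx⟩⟩

/-- A locally constructible subset of an affine open is the image of an affine scheme. -/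
lemma exists_affine_range_eq {X : Scheme.{u}} {Z : Set X} (hZ : IsLocallyConstructible Z)
    {U : X.Opens} (hU : IsAffineOpen U) :
    ∃ (S : CommRingCat.{u}) (g : Spec S ⟶ X), Set.range g = Z ∩ U := by
  have h : IsConstructible (hU.fromSpec ⁻¹' Z) :=
    (hZ.preimage_of_isOpenEmbedding hU.fromSpec.isOpenEmbedding).isConstructible
  obtain ⟨S, _, f, hf⟩ := PrimeSpectrum.exists_range_eq_of_isConstructible h
  refine ⟨CommRingCat.of S, Spec.map (CommRingCat.ofHom f) ≫ hU.fromSpec, ?_⟩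
  have : Set.range (Spec.map (CommRingCat.ofHom f)) = hU.fromSpec ⁻¹' Z := hf
  rw [Scheme.Hom.comp_base, TopCat.coe_comp, Set.range_comp, this, ← hU.range_fromSpec]
  exact Set.image_preimage_eq_inter_range

variable {I : Type u} [SmallCategory I] {D : I ⥤ Scheme.{u}} {c : Cone D}

lemma π_apply {i j : I} (φ : j ⟶ i) (s : c.pt) : D.map φ (c.π.app j s) = c.π.app i s := by
  rw [← Scheme.Hom.comp_apply, c.w]
  rfl

lemma preimage_π_eq {i j : I} (φ : j ⟶ i) (Z : Set (D.obj i)) :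
    ⇑(c.π.app j) ⁻¹' (⇑(D.map φ) ⁻¹' Z) = (⇑(c.π.app i) ⁻¹' Z : Set c.pt) := by
  ext s
  change D.map φ (c.π.app j s) ∈ Z ↔ c.π.app i s ∈ Z
  rw [π_apply]

lemma map_apply {i j k : I} (φ : j ⟶ i) (ψ : k ⟶ j) (y : D.obj k) :
    D.map φ (D.map ψ y) = D.map (ψ ≫ φ) y := by
  rw [← Scheme.Hom.comp_apply, D.map_comp]

lemma isLocallyConstructible_preimage_map {i j : I} (φ : j ⟶ i) {Z : Set (D.obj i)}
    (hZ : IsLocallyConstructible Z) : IsLocallyConstructible (⇑(D.map φ) ⁻¹' Z) :=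
  isLocallyConstructible_preimage (D.map φ) hZ

variable [IsCofiltered I] [∀ (i j : I) (f : i ⟶ j), IsAffineHom (D.map f)]

omit [IsCofiltered I] in
lemma isCompact_preimage_map {i j : I} (φ : j ⟶ i) {K : Set (D.obj i)} (hK : IsCompact K)
    (hKo : IsOpen K) : IsCompact (⇑(D.map φ) ⁻¹' K) :=
  QuasiCompact.isCompact_preimage K hKo hK

/-- If a closed subset of a quasi-compact `T ⟶ Dᵢ` misses the limit, it misses some stage. -/
lemma exists_stage_disjoint (hc : IsLimit c) (i : I) {T : Scheme.{u}} (g : T ⟶ D.obj i)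
    [CompactSpace T] (C : Set T) (hC : IsClosed C)
    (h : ∀ (s : c.pt) (t : T), t ∈ C → c.π.app i s ≠ g t) :
    ∃ (j : I) (φ : j ⟶ i), ∀ (y : D.obj j) (t : T), t ∈ C → D.map φ y ≠ g t := by
  by_contra! hne
  let T' := (Scheme.IdealSheafData.vanishingIdeal (X := T) ⟨C, hC⟩).subscheme
  let e : T' ⟶ T := (Scheme.IdealSheafData.vanishingIdeal (X := T) ⟨C, hC⟩).subschemeι
  have he : Set.range e = C := by
    rw [Scheme.IdealSheafData.range_subschemeι, Scheme.IdealSheafData.coe_support_vanishingIdeal]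
    rfl
  have : CompactSpace T' := QuasiCompact.compactSpace_of_compactSpace e
  let g' : T' ⟶ D.obj i := e ≫ g
  let L := bcCone D c i g' _ _ (IsPullback.of_hasPullback (c.π.app i) g')
  have hL : IsLimit L := isLimitBcCone D c i g' hc _ _ _
  have hF (j : Over i) : Nonempty ((bcDiag D i g').obj j) := by
    obtain ⟨y, t, ht, hy⟩ := hne j.left j.hom
    obtain ⟨t', rfl⟩ := he.ge ht
    obtain ⟨z, -, -⟩ := Scheme.Pullback.exists_preimage_pullback (f := D.map j.hom) (g := g')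
      y t' hy
    exact ⟨z⟩
  obtain ⟨z⟩ := Scheme.nonempty_of_isLimit _ _ hL
  refine h (pullback.fst (c.π.app i) g' z) (e (pullback.snd (c.π.app i) g' z))
    (he.le ⟨_, rfl⟩) ?_
  rw [← Scheme.Hom.comp_apply, ← Scheme.Hom.comp_apply, ← Scheme.Hom.comp_apply,
    pullback.condition]

lemma exists_stage_subset_inter (hc : IsLimit c) (i : I) {Z : Set (D.obj i)}
    (hZ : IsLocallyConstructible Z) {U : (D.obj i).Opens} (hU : IsAffineOpen U)
    {V : Set (D.obj i)} (hV : IsOpen V)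
    (h : ⇑(c.π.app i) ⁻¹' (Z ∩ U) ⊆ ⇑(c.π.app i) ⁻¹' V) :
    ∃ (j : I) (φ : j ⟶ i), ⇑(D.map φ) ⁻¹' (Z ∩ U) ⊆ ⇑(D.map φ) ⁻¹' V := by
  obtain ⟨S, g, hg⟩ := exists_affine_range_eq hZ hU
  obtain ⟨j, φ, hj⟩ := exists_stage_disjoint hc i g (g ⁻¹' V)ᶜ
    (hV.preimage g.continuous).isClosed_compl fun s t ht hst => ht (by
      have : s ∈ ⇑(c.π.app i) ⁻¹' (Z ∩ U) := by rw [← hg]; exact ⟨t, hst.symm⟩
      change g t ∈ V
      rw [← hst]; exact h this)
  refine ⟨j, φ, fun y hy => ?_⟩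
  obtain ⟨t, ht⟩ := hg.ge hy
  by_contra hyV
  exact hj y t (fun htV => hyV (show D.map φ y ∈ V from ht ▸ htV)) ht.symm

/-- Inclusion of a constructible set in an open descends to a stage. -/
lemma exists_stage_subset (hc : IsLimit c) (i : I) {Z : Set (D.obj i)}
    (hZ : IsLocallyConstructible Z) {K : Set (D.obj i)} (hK : IsCompact K) (hKo : IsOpen K)
    {V : Set (D.obj i)} (hV : IsOpen V)
    (h : ⇑(c.π.app i) ⁻¹' (Z ∩ K) ⊆ ⇑(c.π.app i) ⁻¹' V) :
    ∃ (j : I) (φ : j ⟶ i), ⇑(D.map φ) ⁻¹' (Z ∩ K) ⊆ ⇑(D.map φ) ⁻¹' V := by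
  classical
  obtain ⟨s, hs, hKs⟩ := exists_finite_affine_cover hK hKo
  have := hs.to_subtype
  choose j φ hj using fun U : s => exists_stage_subset_inter hc i hZ U.1.2 hV
    ((Set.preimage_mono (Set.inter_subset_inter_right Z (by
      rw [hKs]
      exact Set.subset_biUnion_of_mem
        (u := fun V : (D.obj i).affineOpens => (V.1 : Set (D.obj i))) U.2))).trans h)
  obtain ⟨k, ψ, θ, hk⟩ := IsCofiltered.wideCospan φ
  refine ⟨k, ψ, fun y hy => ?_⟩
  obtain ⟨U, hUs, hyU⟩ : ∃ U ∈ s, D.map ψ y ∈ (U : (D.obj i).Opens) := by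
    simpa [hKs] using hy.2
  have he := map_apply (D := D) (φ ⟨U, hUs⟩) (θ ⟨U, hUs⟩) y
  rw [hk ⟨U, hUs⟩] at he
  change D.map ψ y ∈ V
  rw [← he]
  exact hj ⟨U, hUs⟩ (show D.map (φ ⟨U, hUs⟩) (D.map (θ ⟨U, hUs⟩) y) ∈ Z ∩ _ from
    he ▸ ⟨hy.1, hyU⟩)

lemma isCompact_preimage_π_inter (hc : IsLimit c) (i : I) {Z : Set (D.obj i)}
    (hZ : IsLocallyConstructible Z) {U : (D.obj i).Opens} (hU : IsAffineOpen U) :
    IsCompact (⇑(c.π.app i) ⁻¹' (Z ∩ U) : Set c.pt) := by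
  have : ∀ {i j} (f : i ⟶ j), IsAffineHom (D.map f) := fun f => inferInstance
  have := isAffineHom_π_app _ _ hc i
  obtain ⟨S, g, hg⟩ := exists_affine_range_eq hZ hU
  have hh : Set.range (pullback.fst (c.π.app i) g) = ⇑(c.π.app i) ⁻¹' (Z ∩ U) := by
    ext s
    constructor
    · rintro ⟨z, rfl⟩
      rw [Set.mem_preimage, ← Scheme.Hom.comp_apply, pullback.condition, ← hg]
      exact ⟨_, rfl⟩
    · intro hs
      obtain ⟨t, ht⟩ := hg.ge hs
      obtain ⟨z, hz, -⟩ := Scheme.Pullback.exists_preimage_pullback (f := c.π.app i) (g := g)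
        s t ht.symm
      exact ⟨z, hz⟩
  have : CompactSpace ↥(pullback (c.π.app i) g) :=
    QuasiCompact.compactSpace_of_compactSpace (pullback.snd (c.π.app i) g)
  rw [← hh]
  exact isCompact_range (pullback.fst (c.π.app i) g).continuous

lemma isCompact_preimage_π (hc : IsLimit c) (i : I) {Z : Set (D.obj i)}
    (hZ : IsLocallyConstructible Z) {K : Set (D.obj i)} (hK : IsCompact K) (hKo : IsOpen K) :
    IsCompact (⇑(c.π.app i) ⁻¹' (Z ∩ K) : Set c.pt) := by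
  obtain ⟨s, hs, hKs⟩ := exists_finite_affine_cover hK hKo
  have : (⇑(c.π.app i) ⁻¹' (Z ∩ K) : Set c.pt) = ⋃ U ∈ s, ⇑(c.π.app i) ⁻¹' (Z ∩ (U.1 : Set (D.obj i))) := by
    ext x
    simp only [Set.mem_iUnion, Set.mem_preimage, Set.mem_inter_iff]
    refine ⟨fun hx => ?_, fun ⟨U, hUs, hx, hxU⟩ =>
      ⟨hx, hKs ▸ Set.mem_biUnion hUs hxU⟩⟩
    obtain ⟨U, hUs, hxU⟩ : ∃ U ∈ s, c.π.app i x ∈ (U : (D.obj i).Opens) := by
      simpa [hKs] using hx.2
    exact ⟨U, hUs, hx.1, hxU⟩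
  rw [this]
  exact hs.isCompact_biUnion fun U _ => isCompact_preimage_π_inter hc i hZ U.2

/-- A compact set inside an open of the limit is contained in the preimage of a compact open at a
stage which is inside the open. -/
lemma exists_compact_open_between (hc : IsLimit c) (i : I) {W O : Set c.pt} (hW : IsCompact W)
    (hO : IsOpen O) (hWO : W ⊆ O) {K : Set (D.obj i)} (hKo : IsOpen K)
    (hWK : W ⊆ ⇑(c.π.app i) ⁻¹' K) :
    ∃ (j : I) (φ : j ⟶ i) (V : (D.obj j).Opens), IsCompact (V : Set (D.obj j)) ∧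
      W ⊆ ⇑(c.π.app j) ⁻¹' (V : Set (D.obj j)) ∧ ⇑(c.π.app j) ⁻¹' (V : Set (D.obj j)) ⊆ O ∧
      (V : Set (D.obj j)) ⊆ ⇑(D.map φ) ⁻¹' K := by
  classical
  have key : ∀ s : W, ∃ (j : I) (φ : j ⟶ i) (V : (D.obj j).Opens), IsAffineOpen V ∧
      c.π.app j s.1 ∈ V ∧ ⇑(c.π.app j) ⁻¹' (V : Set (D.obj j)) ⊆ O ∧
      (V : Set (D.obj j)) ⊆ ⇑(D.map φ) ⁻¹' K := by
    intro s
    obtain ⟨j, φ, V, -, hsV, hVO⟩ := exists_preimage_subset hc i hO (hWO s.2)
    obtain ⟨_, ⟨V', hV', rfl⟩, hsV', hV'V⟩ :=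
      (D.obj j).isBasis_affineOpens.exists_subset_of_mem_open
        (show c.π.app j s.1 ∈ (V : Set (D.obj j)) ∩ ⇑(D.map φ) ⁻¹' K from ⟨hsV, by
          rw [Set.mem_preimage, π_apply]; exact hWK s.2⟩)
        (V.2.inter (hKo.preimage (D.map φ).continuous))
    exact ⟨j, φ, V', hV', hsV', (Set.preimage_mono (hV'V.trans Set.inter_subset_left)).trans hVO,
      hV'V.trans Set.inter_subset_right⟩
  choose j φ V hVaff hsV hVO hVK using key
  obtain ⟨t, ht⟩ := hW.elim_finite_subcover (fun s : W => ⇑(c.π.app (j s)) ⁻¹' (V s : Set (D.obj (j s))))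
    (fun s => (V s).2.preimage (c.π.app (j s)).continuous)
    (fun s hs => Set.mem_iUnion.mpr ⟨⟨s, hs⟩, hsV ⟨s, hs⟩⟩)
  obtain ⟨k, ψ, θ, hk⟩ := IsCofiltered.wideCospan (fun s : t => φ s.1)
  refine ⟨k, ψ, ⨆ s : t, D.map (θ s) ⁻¹ᵁ V s.1, ?_, ?_, ?_, ?_⟩
  · rw [TopologicalSpace.Opens.coe_iSup]
    exact isCompact_iUnion fun s => ((hVaff s.1).preimage (D.map (θ s))).isCompact
  · intro x hx
    obtain ⟨s, hst, hxs⟩ := Set.mem_iUnion₂.mp (ht hx)
    simp only [TopologicalSpace.Opens.coe_iSup, Set.mem_preimage, Set.mem_iUnion]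
    exact ⟨⟨s, hst⟩, show D.map (θ ⟨s, hst⟩) (c.π.app k x) ∈ V s by rw [π_apply]; exact hxs⟩
  · intro x hx
    simp only [TopologicalSpace.Opens.coe_iSup, Set.mem_preimage, Set.mem_iUnion] at hx
    obtain ⟨s, hs⟩ := hx
    refine hVO s.1 ?_
    change c.π.app (j s.1) x ∈ V s.1
    rw [← π_apply (θ s)]
    exact hs
  · intro y hy
    simp only [TopologicalSpace.Opens.coe_iSup, Set.mem_iUnion] at hy
    obtain ⟨s, hs⟩ := hy
    rw [← hk s, Set.mem_preimage, ← map_apply]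
    exact hVK s.1 hs

/-- Openness of a constructible set in the limit descends. -/
lemma exists_stage_isOpen (hc : IsLimit c) (i : I) {Z : Set (D.obj i)}
    (hZ : IsLocallyConstructible Z) {K : Set (D.obj i)} (hK : IsCompact K) (hKo : IsOpen K)
    (hopen : IsOpen (⇑(c.π.app i) ⁻¹' (Z ∩ K) : Set c.pt)) :
    ∃ (j : I) (φ : j ⟶ i), IsOpen (⇑(D.map φ) ⁻¹' (Z ∩ K)) := by
  obtain ⟨j, φ, V, hVc, hWV, hVW, hVK⟩ := exists_compact_open_between hc i
    (isCompact_preimage_π hc i hZ hK hKo) hopen le_rfl hKo fun x hx => hx.2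
  -- first make `Z ∩ K ⊆ V`
  obtain ⟨k, ψ, hk⟩ := exists_stage_subset hc j (isLocallyConstructible_preimage_map φ hZ)
    (isCompact_preimage_map φ hK hKo) (hKo.preimage (D.map φ).continuous)
    V.2 (Set.Subset.trans (fun x hx => (preimage_π_eq φ (Z ∩ K)).le hx) hWV)
  -- then make `V \ Z` empty
  obtain ⟨l, χ, hl⟩ := exists_stage_subset hc k
    (isLocallyConstructible_compl (isLocallyConstructible_preimage_map (ψ ≫ φ) hZ))
    (isCompact_preimage_map ψ hVc V.2) (V.2.preimage (D.map ψ).continuous) isOpen_empty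
    (fun x hx => hx.1 (by
      change D.map (ψ ≫ φ) (c.π.app k x) ∈ Z
      rw [π_apply]
      exact (hVW (show c.π.app j x ∈ V by rw [← π_apply ψ]; exact hx.2)).1))
  refine ⟨l, χ ≫ ψ ≫ φ, ?_⟩
  have : ⇑(D.map (χ ≫ ψ ≫ φ)) ⁻¹' (Z ∩ K) =
      ((D.map χ ⁻¹ᵁ D.map ψ ⁻¹ᵁ V : (D.obj l).Opens) : Set (D.obj l)) := by
    ext y
    rw [Set.mem_preimage, ← map_apply]
    refine ⟨fun hy => ?_, fun hy => ⟨?_, ?_⟩⟩
    · refine hk (show D.map ψ (D.map χ y) ∈ ⇑(D.map φ) ⁻¹' Z ∩ ⇑(D.map φ) ⁻¹' K from ⟨?_, ?_⟩)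
      · rw [Set.mem_preimage, map_apply]; exact hy.1
      · rw [Set.mem_preimage, map_apply]; exact hy.2
    · by_contra hyZ
      exact hl (show D.map χ y ∈ (⇑(D.map (ψ ≫ φ)) ⁻¹' Z)ᶜ ∩ _ from ⟨hyZ, hy⟩)
    · rw [← map_apply]; exact hVK hy
  rw [this]
  exact (D.map χ ⁻¹ᵁ D.map ψ ⁻¹ᵁ V).2

/-- Local closedness of a constructible set in the limit descends. -/
lemma exists_stage_isLocallyClosed (hc : IsLimit c) (i : I) {Z : Set (D.obj i)}
    (hZ : IsLocallyConstructible Z) {K : Set (D.obj i)} (hK : IsCompact K) (hKo : IsOpen K)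
    (hlc : IsLocallyClosed (⇑(c.π.app i) ⁻¹' (Z ∩ K) : Set c.pt)) :
    ∃ (j : I) (φ : j ⟶ i), IsLocallyClosed (⇑(D.map φ) ⁻¹' (Z ∩ K)) := by
  obtain ⟨O, C, hO, hC, hW⟩ := hlc
  obtain ⟨j, φ, V, hVc, hWV, hVO, hVK⟩ := exists_compact_open_between hc i
    (isCompact_preimage_π hc i hZ hK hKo) hO (hW ▸ Set.inter_subset_left) hKo fun x hx => hx.2
  obtain ⟨k, ψ, hk⟩ := exists_stage_subset hc j (isLocallyConstructible_preimage_map φ hZ)
    (isCompact_preimage_map φ hK hKo) (hKo.preimage (D.map φ).continuous)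
    V.2 (Set.Subset.trans (fun x hx => (preimage_π_eq φ (Z ∩ K)).le hx) hWV)
  let V' : (D.obj k).Opens := D.map ψ ⁻¹ᵁ V
  have hV'c : IsCompact (V' : Set (D.obj k)) := isCompact_preimage_map ψ hVc V.2
  let Y : Set (D.obj k) := (⇑(D.map (ψ ≫ φ)) ⁻¹' Z)ᶜ ∩ V'
  have hYopen : IsOpen (⇑(c.π.app k) ⁻¹' Y : Set c.pt) := by
    have : (⇑(c.π.app k) ⁻¹' Y : Set c.pt) = (⇑(c.π.app j) ⁻¹' (V : Set (D.obj j))) ∩ Cᶜ := by
      ext x
      change ¬ (D.map (ψ ≫ φ) (c.π.app k x) ∈ Z) ∧ D.map ψ (c.π.app k x) ∈ V ↔ _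
      rw [π_apply, π_apply]
      constructor
      · rintro ⟨h1, h2⟩
        refine ⟨h2, fun hxC => h1 (hW.ge ⟨hVO h2, hxC⟩).1⟩
      · rintro ⟨h1, h2⟩
        refine ⟨fun hZ => h2 (hW.le ⟨hZ, ?_⟩).2, h1⟩
        rw [← π_apply φ]; exact hVK h1
    rw [this]
    exact (V.2.preimage (c.π.app j).continuous).inter hC.isOpen_compl
  obtain ⟨l, χ, hl⟩ := exists_stage_isOpen hc k
    (isLocallyConstructible_compl (isLocallyConstructible_preimage_map (ψ ≫ φ) hZ))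
    hV'c V'.2 hYopen
  refine ⟨l, χ ≫ ψ ≫ φ, ?_⟩
  have : ⇑(D.map (χ ≫ ψ ≫ φ)) ⁻¹' (Z ∩ K) =
      ((D.map χ ⁻¹ᵁ V' : (D.obj l).Opens) : Set (D.obj l)) ∩ (⇑(D.map χ) ⁻¹' Y)ᶜ := by
    ext y
    rw [Set.mem_preimage, ← map_apply]
    refine ⟨fun hy => ⟨?_, fun h => h.1 hy.1⟩, fun ⟨h1, h2⟩ => ⟨?_, ?_⟩⟩
    · refine hk (show D.map ψ (D.map χ y) ∈ ⇑(D.map φ) ⁻¹' Z ∩ ⇑(D.map φ) ⁻¹' K from ⟨?_, ?_⟩)
      · rw [Set.mem_preimage, map_apply]; exact hy.1
      · rw [Set.mem_preimage, map_apply]; exact hy.2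
    · by_contra hyZ
      exact h2 ⟨hyZ, h1⟩
    · rw [← map_apply]; exact hVK h1
  rw [this]
  exact (D.map χ ⁻¹ᵁ V').2.isLocallyClosed.inter hl.isClosed_compl.isLocallyClosed

/-- Constructible subsets of the limit come from a stage. -/
lemma exists_constructible_eq (hc : IsLimit c) (i₀ : I) [CompactSpace (D.obj i₀)]
    [QuasiSeparatedSpace (D.obj i₀)] (Z : Set c.pt) (hZ : IsConstructible Z) :
    ∃ (i : I) (_ : i ⟶ i₀) (Zi : Set (D.obj i)),
      IsConstructible Zi ∧ (⇑(c.π.app i) ⁻¹' Zi : Set c.pt) = Z := by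
  have : ∀ {i j} (f : i ⟶ j), IsAffineHom (D.map f) := fun f => inferInstance
  have := isAffineHom_π_app _ _ hc i₀
  have hc' : CompactSpace c.pt := QuasiCompact.compactSpace_of_compactSpace (c.π.app i₀)
  induction hZ using IsConstructible.empty_union_induction with
  | open_retrocompact U hUo hUc =>
    obtain ⟨j, φ, V, hVc, hUV, hVU, -⟩ :=
      exists_compact_open_between hc i₀ hUc.isCompact hUo le_rfl isOpen_univ (Set.subset_univ _)
    have : QuasiSeparatedSpace (D.obj j) := quasiSeparatedSpace_of_quasiSeparated (D.map φ)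
    exact ⟨j, φ, V, hVc.isConstructible V.2, hVU.antisymm hUV⟩
  | union s hs t ht hs' ht' =>
    obtain ⟨a, φ, A, hA, rfl⟩ := hs'
    obtain ⟨b, ψ, B, hB, rfl⟩ := ht'
    obtain ⟨k, p, q, -⟩ := IsCofilteredOrEmpty.cone_objs a b
    exact ⟨k, p ≫ φ, ⇑(D.map p) ⁻¹' A ∪ ⇑(D.map q) ⁻¹' B,
      ((D.map p).isConstructible_preimage hA).union ((D.map q).isConstructible_preimage hB),
      by rw [Set.preimage_union, preimage_π_eq, preimage_π_eq]⟩
  | compl s hs hs' =>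
    obtain ⟨a, φ, A, hA, rfl⟩ := hs'
    exact ⟨a, φ, Aᶜ, hA.compl, rfl⟩

end Groth.Agent.LimSch
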