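import Mathlib.AlgebraicGeometry.AffineTransitionLimit
import Mathlib.AlgebraicGeometry.Morphisms.Preimmersion
import Mathlib.AlgebraicGeometry.Morphisms.UniversallyOpen
import Mathlib.AlgebraicGeometry.ResidueField

/-!
Points of a cofiltered limit of schemes with affine transition maps.
-/

set_option autoImplicit false

universe u

open CategoryTheory Limits AlgebraicGeometry

namespace Groth.Agent.LimSch

variable {I : Type u} [SmallCategory I] {D : I ⥤ Scheme.{u}}

/-- A diagram of affine schemes has a limit. -/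
lemma hasLimit_of_isAffine (F : I ⥤ Scheme.{u}) [∀ i, IsAffine (F.obj i)] : HasLimit F := by
  let e : F ⟶ (F ⋙ Scheme.Γ.rightOp) ⋙ Scheme.Spec := Functor.whiskerLeft F ΓSpec.adjunction.unit
  have (i : I) : IsIso (e.app i) := IsAffine.affine
  have : IsIso e := NatIso.isIso_of_isIso_app e
  exact ⟨⟨⟨_, (IsLimit.postcomposeInvEquiv (asIso e) _).symm
      (isLimitOfPreserves Scheme.Spec (limit.isLimit (F ⋙ Scheme.Γ.rightOp)))⟩⟩⟩

variable [IsCofiltered I] {c : Cone D}

/-- A compatible family of points lifts to the limit. -/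
lemma exists_point_of_compatible (hc : IsLimit c) (x : ∀ i, D.obj i)
    (hx : ∀ {i j : I} (f : i ⟶ j), D.map f (x i) = x j) :
    ∃ s : c.pt, ∀ i, c.π.app i s = x i := by
  let r {i j : I} (f : i ⟶ j) :
      Spec ((D.obj i).residueField (x i)) ⟶ Spec ((D.obj j).residueField (x j)) :=
    Spec.map (((D.obj j).residueFieldCongr (hx f).symm).hom ≫ (D.map f).residueFieldMap (x i))
  have hr {i j : I} (f : i ⟶ j) :
      r f ≫ (D.obj j).fromSpecResidueField (x j) =
        (D.obj i).fromSpecResidueField (x i) ≫ D.map f := by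
    simp [r, Spec.map_comp]
  let F : I ⥤ Scheme.{u} :=
  { obj i := Spec ((D.obj i).residueField (x i))
    map f := r f
    map_id i := by
      rw [← cancel_mono ((D.obj i).fromSpecResidueField (x i))]
      simp [hr]
    map_comp {i j k} f g := by
      rw [← cancel_mono ((D.obj k).fromSpecResidueField (x k))]
      simp [hr, reassoc_of% (hr f)] }
  have : ∀ i, IsAffine (F.obj i) := fun i => by dsimp [F]; infer_instance
  have : HasLimit F := hasLimit_of_isAffine F
  have : ∀ i, Nonempty (F.obj i) := fun i => by dsimp [F]; infer_instance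
  have : ∀ i, CompactSpace (F.obj i) := fun i => by dsimp [F]; infer_instance
  let ι : F ⟶ D :=
  { app i := (D.obj i).fromSpecResidueField (x i)
    naturality {i j} f := hr f }
  obtain ⟨t⟩ := Scheme.nonempty_of_isLimit F _ (limit.isLimit F)
  refine ⟨hc.lift ((Cone.postcompose ι).obj (limit.cone F)) t, fun i => ?_⟩
  rw [← Scheme.Hom.comp_apply, hc.fac]
  simp [ι]
  exact Scheme.fromSpecResidueField_apply _ _

variable [∀ (i j : I) (f : i ⟶ j), IsAffineHom (D.map f)]

/-- Preimages of quasi-compact opens form a basis; hence two points of the limit with the same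
images in every stage are equal. -/
lemma point_ext (hc : IsLimit c) {s t : c.pt} (h : ∀ i, c.π.app i s = c.π.app i t) : s = t := by
  have : ∀ {i j} (f : i ⟶ j), IsAffineHom (D.map f) := fun f => inferInstance
  have hB : ∀ {U : c.pt.Opens} {x : c.pt}, x ∈ U → _ :=
    TopologicalSpace.Opens.isBasis_iff_nbhd.mp (isBasis_preimage_isAffineOpen D c hc)
  apply Inseparable.eq
  refine inseparable_iff_forall_isOpen.mpr fun U hU => ⟨fun hs => ?_, fun ht => ?_⟩
  · obtain ⟨_, ⟨i, V, -, rfl⟩, hsV, hVU⟩ := hB (U := ⟨U, hU⟩) hs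
    exact hVU (show c.π.app i t ∈ V from h i ▸ hsV)
  · obtain ⟨_, ⟨i, V, -, rfl⟩, htV, hVU⟩ := hB (U := ⟨U, hU⟩) ht
    exact hVU (show c.π.app i s ∈ V from (h i).symm ▸ htV)

/-- The underlying space of the limit is the limit of the underlying spaces. -/
lemma nonempty_isLimit_forgetToTop (hc : IsLimit c) :
    Nonempty (IsLimit (Scheme.forgetToTop.mapCone c)) := by
  have : ∀ {i j} (f : i ⟶ j), IsAffineHom (D.map f) := fun f => inferInstance
  have hbasis := isBasis_preimage_isAffineOpen D c hc
  choose P hP using fun (s : Cone (D ⋙ Scheme.forgetToTop)) (y : s.pt) =>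
    exists_point_of_compatible hc (fun i => s.π.app i y) (fun {i j} f => by
      have := congr($(s.w f) y)
      exact this)
  refine ⟨{
    lift := fun s => TopCat.ofHom ⟨P s, ?_⟩
    fac := fun s i => ?_
    uniq := fun s m hm => ?_ }⟩
  · refine (TopologicalSpace.IsTopologicalBasis.continuous_iff hbasis).mpr ?_
    · rintro _ ⟨_, ⟨i, V, -, rfl⟩, rfl⟩
      have : P s ⁻¹' ((c.π.app i ⁻¹ᵁ V : c.pt.Opens) : Set c.pt) = s.π.app i ⁻¹' (V : Set (D.obj i)) := by
        ext y
        simp [hP s y i]
      rw [this]
      exact V.2.preimage (s.π.app i).hom.continuous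
  · ext y
    exact hP s y i
  · ext y
    refine point_ext hc fun i => ?_
    refine Eq.trans ?_ (hP s y i).symm
    exact congr($(hm i) y)

set_option backward.isDefEq.respectTransparency.types false in
/-- The image of `lim Dⱼ ⟶ Dᵢ` is the intersection of the images of the transition maps. -/
lemma range_π_eq_iInter (hc : IsLimit c) (i : I) :
    Set.range ⇑(c.π.app i) = ⋂ (j : I) (φ : j ⟶ i), Set.range ⇑(D.map φ) := by
  refine subset_antisymm ?_ ?_
  · rintro _ ⟨s, rfl⟩
    simp only [Set.mem_iInter]
    exact fun j φ => ⟨c.π.app j s, by rw [← Scheme.Hom.comp_apply, c.w]⟩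
  · intro x hx
    simp only [Set.mem_iInter] at hx
    let p := (D.obj i).fromSpecResidueField x
    let G : Over i ⥤ Scheme.{u} := Over.post D ⋙ Over.pullback p ⋙ Over.forget _
    let α : G ⟶ Over.forget i ⋙ D := Functor.whiskerRight
      (Functor.whiskerLeft (Over.post D) (Over.mapPullbackAdj p).counit) (Over.forget _)
    have : IsAffineHom (pullback.snd (D.map (𝟙 i)) p) :=
      MorphismProperty.pullback_snd _ _ inferInstance
    have haff (j : Over i) : IsAffine (G.obj j) :=
      have : IsAffineHom (pullback.snd (D.map j.hom) p) :=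
        MorphismProperty.pullback_snd _ _ inferInstance
      @isAffine_of_isAffineHom _ _ (pullback.snd (D.map j.hom) p) this _
    have : HasLimit G := hasLimit_of_isAffine G
    have hne (j : Over i) : Nonempty (G.obj j) := by
      obtain ⟨y, hy⟩ := hx j.left j.hom
      obtain ⟨z, -, -⟩ := Scheme.Pullback.exists_preimage_pullback (f := D.map j.hom) (g := p)
        y default (hy.trans ((D.obj i).fromSpecResidueField_apply x _).symm)
      exact ⟨z⟩
    have hcpt (j : Over i) : CompactSpace (G.obj j) := inferInstance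
    have haf {a b : Over i} (f : a ⟶ b) : IsAffineHom (G.map f) := inferInstance
    obtain ⟨t⟩ := Scheme.nonempty_of_isLimit G _ (limit.isLimit G)
    let hc' := (Functor.Initial.isLimitWhiskerEquiv (Over.forget i) c).symm hc
    let C' := (Cone.postcompose α).obj (limit.cone G)
    refine ⟨hc'.lift C' t, ?_⟩
    rw [← Scheme.Hom.comp_apply]
    have h1 : hc'.lift C' ≫ c.π.app i =
        limit.π G (Over.mk (𝟙 i)) ≫ pullback.fst (D.map (𝟙 i)) p :=
      hc'.fac C' (Over.mk (𝟙 i))
    have h3 : pullback.fst (D.map (𝟙 i)) p = pullback.snd (D.map (𝟙 i)) p ≫ p := by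
      rw [← pullback.condition, D.map_id, Category.comp_id]
    rw [h1, h3]
    exact Scheme.fromSpecResidueField_apply x _

lemma surjective_π_iff (hc : IsLimit c) (i : I) :
    Surjective (c.π.app i) ↔ ∀ (j : I) (φ : j ⟶ i), Surjective (D.map φ) := by
  simp only [surjective_iff, ← Set.range_eq_univ, range_π_eq_iInter hc, Set.iInter_eq_univ]

end Groth.Agent.LimSch
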