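import Groth.Agent.Spectral.Limit
import Groth.Agent.LimSch.Points
import Groth.Prelude.Def_ProCons
import Mathlib.CategoryTheory.Filtered.Final

/-!
Pro-constructible and ind-constructible sets in limits of schemes.
-/

set_option autoImplicit false
universe u

open Topology TopologicalSpace CategoryTheory Limits

namespace Groth.Agent.LimSch

theorem isOpen_con_and_isClosed_con_of_isLocallyConstructible {W X : Type u} [TopologicalSpace W] [SpectralSpace W]
    [TopologicalSpace X] {U : Set X} (hU : IsOpen U) {e : W → X} (he : IsOpenEmbedding e) {K : Set W} (hK : IsOpen K)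
    (hKc : IsCompact K) (hKU : K ⊆ e ⁻¹' U) {T : Set U} (hT : IsLocallyConstructible T) :
    IsOpen[constructibleTopology W] {w | ∃ h : w ∈ K, (⟨e w, hKU h⟩ : U) ∈ T} ∧
    IsClosed[constructibleTopology W] {w | ∃ h : w ∈ K, (⟨e w, hKU h⟩ : U) ∈ T} := by
  let g : K → U := fun w => ⟨e w.1, hKU w.2⟩
  have hg : IsOpenEmbedding g := by
    refine IsOpenEmbedding.of_comp g hU.isOpenEmbedding_subtypeVal ?_
    exact he.comp hK.isOpenEmbedding_subtypeVal
  haveI : CompactSpace K := isCompact_iff_compactSpace.mp hKc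
  haveI : SpectralSpace K :=
    Spectral.spectralSpace_of_isClosed_con (Spectral.isClopen_con_of_isOpen_isCompact hK hKc).1
  have h1 : IsConstructible (g ⁻¹' T) := (hT.preimage_of_isOpenEmbedding hg).isConstructible
  have hret : IsRetrocompact K := fun V hVc hV => QuasiSeparatedSpace.inter_isCompact _ _ hK hKc hV hVc
  have h2 : IsConstructible ((Subtype.val : K → W) '' (g ⁻¹' T)) :=
    h1.image_of_isOpenEmbedding hK.isOpenEmbedding_subtypeVal (by rwa [Subtype.range_coe])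
  have heq : {w | ∃ h : w ∈ K, (⟨e w, hKU h⟩ : U) ∈ T} = (Subtype.val : K → W) '' (g ⁻¹' T) := by
    ext w
    exact ⟨fun ⟨h, hT⟩ => ⟨⟨w, h⟩, hT, rfl⟩, fun ⟨⟨w', h⟩, hT, e'⟩ => e' ▸ ⟨h, hT⟩⟩
  rw [heq]
  exact ⟨(Spectral.isClopen_con_of_isConstructible h2).2, (Spectral.isClopen_con_of_isConstructible h2).1⟩

theorem exists_pieces {W X : Type u} [TopologicalSpace W] [SpectralSpace W] [TopologicalSpace X]
    {e : W → X} (he : Continuous e) (P : Set X → Prop) (hE : ∀ x : X, ∃ U : Set X, IsOpen U ∧ x ∈ U ∧ P U) :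
    ∃ (t : Finset W) (U : W → Set X) (K : W → Set W), (∀ w, IsOpen (U w)) ∧ (∀ w, P (U w)) ∧
      (∀ w, IsOpen (K w)) ∧ (∀ w, IsCompact (K w)) ∧ (∀ w, K w ⊆ e ⁻¹' U w) ∧ ∀ w, ∃ z ∈ t, w ∈ K z := by
  choose U hU hxU hP using fun w => hE (e w)
  have hK : ∀ w : W, ∃ K : Set W, (IsOpen K ∧ IsCompact K) ∧ w ∈ K ∧ K ⊆ e ⁻¹' U w := fun w =>
    PrespectralSpace.isTopologicalBasis.exists_subset_of_mem_open (hxU w) ((hU w).preimage he)
  choose K hK hwK hKU using hK
  obtain ⟨t, ht⟩ := isCompact_univ.elim_finite_subcover K (fun w => (hK w).1)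
    fun w _ => Set.mem_iUnion.mpr ⟨w, hwK w⟩
  exact ⟨t, U, K, hU, hP, fun w => (hK w).1, fun w => (hK w).2, hKU, fun w => by
    simpa using ht (Set.mem_univ w)⟩

theorem isClosed_con_preimage_of_pro {W X : Type u} [TopologicalSpace W] [SpectralSpace W] [TopologicalSpace X]
    {e : W → X} (he : IsOpenEmbedding e) {E : Set X} (hE : ProCons.IsProConstructible E) :
    IsClosed[constructibleTopology W] (e ⁻¹' E) := by
  obtain ⟨t, U, K, hU, hP, hK, hKc, hKU, ht⟩ := exists_pieces he.continuous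
    (fun U => ∃ S : Set (Set ↥U), (∀ T ∈ S, IsLocallyConstructible T) ∧ (Subtype.val ⁻¹' E : Set ↥U) = ⋂₀ S) hE
  choose S hS hSE using hP
  have heq : e ⁻¹' E = ⋃ z ∈ t, (K z ∩ ⋂ T ∈ S z, {w | ∃ h : w ∈ K z, (⟨e w, hKU z h⟩ : U z) ∈ T}) := by
    ext w
    simp only [Set.mem_preimage, Set.mem_iUnion, Set.mem_inter_iff, Set.mem_iInter, exists_prop]
    constructor
    · intro hw
      obtain ⟨z, hz, hwz⟩ := ht w
      have h : (⟨e w, hKU z hwz⟩ : U z) ∈ (Subtype.val ⁻¹' E : Set (U z)) := hw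
      rw [hSE] at h
      exact ⟨z, hz, hwz, fun T hT => ⟨hwz, h T hT⟩⟩
    · rintro ⟨z, -, hwz, h⟩
      have : (⟨e w, hKU z hwz⟩ : U z) ∈ ⋂₀ S z := fun T hT => (h T hT).2
      rw [← hSE] at this
      exact this
  rw [heq]
  refine @Set.Finite.isClosed_biUnion W W (constructibleTopology W) _ _ t.finite_toSet fun z _ => ?_
  refine @IsClosed.inter W _ _ (constructibleTopology W) (Spectral.isClopen_con_of_isOpen_isCompact (hK z) (hKc z)).1 ?_
  exact @isClosed_biInter W (Set ↥(U z)) (constructibleTopology W) _ _ fun T hT =>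
    (isOpen_con_and_isClosed_con_of_isLocallyConstructible (hU z) he (hK z) (hKc z) (hKU z) (hS z T hT)).2

theorem isOpen_con_preimage_of_ind {W X : Type u} [TopologicalSpace W] [SpectralSpace W] [TopologicalSpace X]
    {e : W → X} (he : IsOpenEmbedding e) {E : Set X} (hE : ProCons.IsIndConstructible E) :
    IsOpen[constructibleTopology W] (e ⁻¹' E) := by
  obtain ⟨t, U, K, hU, hP, hK, hKc, hKU, ht⟩ := exists_pieces he.continuous
    (fun U => ∃ S : Set (Set ↥U), (∀ T ∈ S, IsLocallyConstructible T) ∧ (Subtype.val ⁻¹' E : Set ↥U) = ⋃₀ S) hE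
  choose S hS hSE using hP
  have heq : e ⁻¹' E = ⋃ z ∈ t, ⋃ T ∈ S z, {w | ∃ h : w ∈ K z, (⟨e w, hKU z h⟩ : U z) ∈ T} := by
    ext w
    simp only [Set.mem_preimage, Set.mem_iUnion, exists_prop, Set.mem_setOf_eq]
    constructor
    · intro hw
      obtain ⟨z, hz, hwz⟩ := ht w
      have h : (⟨e w, hKU z hwz⟩ : U z) ∈ (Subtype.val ⁻¹' E : Set (U z)) := hw
      rw [hSE] at h
      obtain ⟨T, hT, hwT⟩ := h
      exact ⟨z, hz, T, hT, hwz, hwT⟩
    · rintro ⟨z, -, T, hT, hwz, hwT⟩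
      have : (⟨e w, hKU z hwz⟩ : U z) ∈ ⋃₀ S z := ⟨T, hT, hwT⟩
      rw [← hSE] at this
      exact this
  rw [heq]
  exact @isOpen_biUnion W W (constructibleTopology W) _ _ fun z _ =>
    @isOpen_biUnion W (Set ↥(U z)) (constructibleTopology W) _ _ fun T hT =>
      (isOpen_con_and_isClosed_con_of_isLocallyConstructible (hU z) he (hK z) (hKc z) (hKU z) (hS z T hT)).1

open AlgebraicGeometry in
/-- A decreasing family of sets closed in the constructible topology which is non-empty at every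
stage over `i₀` has a point in the limit. -/
theorem exists_stage_subset_of_proCons {I : Type u} [SmallCategory I] [IsCofiltered I]
    {D : I ⥤ Scheme.{u}} {c : Cone D} (hc : IsLimit c) [∀ (i j : I) (f : i ⟶ j), IsAffineHom (D.map f)]
    (i₀ : I) [CompactSpace (D.obj i₀)] (E F : ∀ i : I, Set (D.obj i))
    (hE : ∀ i, ProCons.IsProConstructible (E i)) (hF : ∀ i, ProCons.IsIndConstructible (F i))
    (hEm : ∀ (i j : I) (φ : i ⟶ j), E i ⊆ ⇑(D.map φ) ⁻¹' E j)
    (hFm : ∀ (i j : I) (φ : i ⟶ j), ⇑(D.map φ) ⁻¹' F j ⊆ F i)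
    (h : (⋂ i, ⇑(c.π.app i) ⁻¹' E i : Set c.pt) ⊆ (⋃ i, ⇑(c.π.app i) ⁻¹' F i : Set c.pt)) :
    ∃ (i : I) (_ : i ⟶ i₀), ∀ (j : I) (_ : j ⟶ i), E j ⊆ F j := by
  classical
  by_contra! hcon
  have hne : ∀ j : Over i₀, (E j.left \ F j.left).Nonempty := by
    intro j
    obtain ⟨k, ψ, hk⟩ := hcon j.left j.hom
    obtain ⟨y, hyE, hyF⟩ := Set.not_subset.mp hk
    exact ⟨D.map ψ y, hEm _ _ ψ hyE, fun hm => hyF (hFm _ _ ψ hm)⟩
  obtain ⟨s, hsfin, hcov⟩ := isCompact_iff_finite_and_eq_biUnion_affineOpens (U := (⊤ : (D.obj i₀).Opens)).mp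
    isCompact_univ
  -- one affine open meets all stages
  obtain ⟨V, -, hV⟩ : ∃ V ∈ s, ∀ j : Over i₀,
      ((E j.left \ F j.left) ∩ ⇑(D.map j.hom) ⁻¹' (V.1 : Set (D.obj i₀))).Nonempty := by
    by_contra! hbad
    choose j hj using hbad
    let O : Finset (Over i₀) := hsfin.toFinset.attach.image fun V => j V.1 (hsfin.mem_toFinset.mp V.2)
    obtain ⟨k, hk⟩ := IsCofiltered.inf_objs_exists O
    obtain ⟨y, hy⟩ := hne k
    have hyT : D.map k.hom y ∈ (⊤ : (D.obj i₀).Opens) := trivial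
    rw [hcov] at hyT
    simp only [TopologicalSpace.Opens.mem_iSup] at hyT
    obtain ⟨V, hV, hyV⟩ := hyT
    obtain ⟨a⟩ := hk (X := j V hV) (Finset.mem_image.mpr ⟨⟨V, hsfin.mem_toFinset.mpr hV⟩, Finset.mem_attach _ _, rfl⟩)
    refine Set.notMem_empty (D.map a.left y) ?_
    rw [← hj V hV]
    refine ⟨⟨hEm _ _ a.left hy.1, fun hm => hy.2 (hFm _ _ a.left hm)⟩, ?_⟩
    show D.map (j V hV).hom (D.map a.left y) ∈ V.1
    rw [← Scheme.Hom.comp_apply, ← D.map_comp, Over.w a]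
    exact hyV
  let D' : Over i₀ ⥤ Scheme.{u} := opensDiagram D i₀ V.1
  let G : Over i₀ ⥤ TopCat.{u} := D' ⋙ Scheme.forgetToTop
  have haff : ∀ j, IsAffine (D'.obj j) := fun j =>
    have : IsAffineHom (D.map j.hom) := inferInstance
    V.2.preimage (D.map j.hom)
  have hspec : ∀ j, SpectralSpace (G.obj j) := fun j => by
    have := haff j
    show SpectralSpace (D'.obj j)
    exact {}
  have hsm : ∀ {j k : Over i₀} (a : j ⟶ k), IsSpectralMap (G.map a : G.obj j → G.obj k) := fun {j k} a => by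
    have := haff j
    have := haff k
    exact ⟨(D'.map a).continuous, fun U hU hUc =>
      (D'.map a).isCompact_preimage (U := ⟨U, hU⟩) hUc⟩
  let e : ∀ j : Over i₀, G.obj j → D.obj j.left := fun j => (D.map j.hom ⁻¹ᵁ V.1).ι
  have he : ∀ j, IsOpenEmbedding (e j) := fun j => (D.map j.hom ⁻¹ᵁ V.1).ι.isOpenEmbedding
  have hnat : ∀ {j k : Over i₀} (a : j ⟶ k) (x : G.obj j), e k (G.map a x) = D.map a.left (e j x) := by
    intro j k a x
    exact Scheme.Hom.coe_resLE_apply (D.map a.left) _ x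
  obtain ⟨x, hx⟩ := Spectral.nonempty_limit_closed (limit.isLimit G) hspec hsm
    (fun j => e j ⁻¹' (E j.left) ∩ (e j ⁻¹' (F j.left))ᶜ)
    (fun j => by
      obtain ⟨y, hy, hyV⟩ := hV j
      exact ⟨⟨y, hyV⟩, hy.1, hy.2⟩)
    (fun j => by
      have := hspec j
      exact @IsClosed.inter _ _ _ (constructibleTopology (G.obj j)) (isClosed_con_preimage_of_pro (he j) (hE _))
        (@IsOpen.isClosed_compl _ (constructibleTopology (G.obj j)) _ (isOpen_con_preimage_of_ind (he j) (hF _))))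
    (fun {j k} a y hy => by
      refine ⟨?_, ?_⟩
      · show e k (G.map a y) ∈ E k.left
        rw [hnat]; exact hEm _ _ a.left hy.1
      · show e k (G.map a y) ∉ F k.left
        rw [hnat]; exact fun hm => hy.2 (hFm _ _ a.left hm))
  obtain ⟨q, hq⟩ := exists_point_of_compatible (D := Over.forget i₀ ⋙ D) (c := c.whisker (Over.forget i₀))
    ((Functor.Initial.isLimitWhiskerEquiv (Over.forget i₀) c).symm hc)
    (fun j => e j ((limit.cone G).π.app j x))
    (fun {j k} a => by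
      show D.map a.left _ = _
      rw [← hnat, Spectral.cone_w (limit.cone G) a x])
  have hq' : ∀ j : Over i₀, c.π.app j.left q ∈ E j.left ∧ c.π.app j.left q ∉ F j.left := fun j => by
    have h1 : c.π.app j.left q = e j ((limit.cone G).π.app j x) := hq j
    rw [h1]; exact hx j
  have hall : ∀ i : I, c.π.app i q ∈ E i ∧ c.π.app i q ∉ F i := by
    intro i
    let a := IsCofiltered.minToRight i₀ i
    obtain ⟨h1, h2⟩ := hq' (Over.mk (IsCofiltered.minToLeft i₀ i))
    have h3 : D.map a (c.π.app (IsCofiltered.min i₀ i) q) = c.π.app i q := by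
      rw [← Scheme.Hom.comp_apply, c.w]
    exact ⟨h3 ▸ hEm _ _ a h1, fun hm => h2 (hFm _ _ a (h3.symm ▸ hm : D.map a _ ∈ F i))⟩
  obtain ⟨i, hi⟩ := Set.mem_iUnion.mp (h (Set.mem_iInter.mpr fun i => (hall i).1))
  exact (hall i).2 hi

end Groth.Agent.LimSch
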