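import Groth.Agent.LimSch.DescendObj
import Groth.Agent.LimSch.ProConsStage
import Groth.Agent.ProConsLib.Scheme
import Mathlib.AlgebraicGeometry.Morphisms.UniversallyOpen

/-!
Coverings of a cofiltered limit by open maps of finite presentation come from a stage.
-/

set_option autoImplicit false
universe u

open CategoryTheory Limits AlgebraicGeometry TopologicalSpace

namespace Groth.Agent.LimSch

variable {I : Type u} [SmallCategory I] [IsCofiltered I]

/-- Open coverings of finite presentation of a limit descend, together with a property of their members. -/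
theorem exists_cover_stage_aux (Q : MorphismProperty Scheme.{u}) [Q.IsStableUnderBaseChange]
    (hQ : Descends.{u} Q @LocallyOfFinitePresentation)
    (hQo : ∀ {X Y : Scheme.{u}} (f : X ⟶ Y), LocallyOfFinitePresentation f → Q f → IsOpenMap ⇑f)
    (D : I ⥤ Scheme.{u}) (c : Cone D) (hc : IsLimit c) [∀ (i j : I) (t : i ⟶ j), IsAffineHom (D.map t)]
    [∀ i, CompactSpace (D.obj i)] [∀ i, QuasiSeparatedSpace (D.obj i)] {ι : Type u}
    (U : ι → Scheme.{u}) (u : ∀ a, U a ⟶ c.pt) [∀ a, LocallyOfFinitePresentation (u a)]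
    [∀ a, QuasiCompact (u a)] [∀ a, QuasiSeparated (u a)] (hu : ∀ a, Q (u a))
    (hcov : ∀ x : c.pt, ∃ (a : ι) (y : U a), u a y = x) :
    ∃ (i : I) (n : ℕ) (V : Fin n → Scheme.{u}) (v : ∀ j, V j ⟶ D.obj i) (a : Fin n → ι) (e : ∀ j, U (a j) ⟶ V j),
      (∀ j, Q (v j) ∧ LocallyOfFinitePresentation (v j) ∧ QuasiCompact (v j) ∧ QuasiSeparated (v j)) ∧
      (∀ x : D.obj i, ∃ (j : Fin n) (y : V j), v j y = x) ∧
      ∀ j, IsPullback (e j) (u (a j)) (v j) (c.π.app i) := by
  classical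
  obtain ⟨i₀⟩ := IsCofiltered.nonempty (C := I)
  haveI := isAffineHom_π_app D c hc i₀
  haveI : CompactSpace c.pt := QuasiCompact.compactSpace_of_compactSpace (c.π.app i₀)
  obtain ⟨T, hT⟩ := isCompact_univ.elim_finite_subcover (fun a => Set.range (u a))
    (fun a => (hQo _ inferInstance (hu a)).isOpen_range) (fun x _ => by
      obtain ⟨a, y, hy⟩ := hcov x
      exact Set.mem_iUnion.mpr ⟨a, y, hy⟩)
  let a : Fin T.card → ι := fun j => (T.equivFin.symm j).1
  -- each member at its own stage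
  have hmod : ∀ j, ∃ (i : I) (V : Scheme.{u}) (v : V ⟶ D.obj i) (e : U (a j) ⟶ V), Q v ∧
      LocallyOfFinitePresentation v ∧ QuasiCompact v ∧ QuasiSeparated v ∧
      IsPullback e (u (a j)) v (c.π.app i) := by
    intro j
    obtain ⟨i, V, v, e, _, _, _, h⟩ := exists_model hc (u (a j))
    obtain ⟨k, φ, hk⟩ := hQ D c hc i v ‹_› e (u (a j)) h (hu _)
    obtain ⟨e', he'⟩ := isPullback_stage D c hc h φ
    exact ⟨k, _, _, e', hk, inferInstance, inferInstance, inferInstance, he'⟩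
  choose i V v e hQv h1 h2 h3 hsq using hmod
  obtain ⟨k, hk⟩ := IsCofiltered.inf_objs_exists (Finset.univ.image i)
  let φ : ∀ j, k ⟶ i j := fun j => (hk (Finset.mem_image_of_mem i (Finset.mem_univ j))).some
  let W : ∀ j, Set ↥(D.obj k) := fun j => Set.range (pullback.snd (v j) (D.map (φ j)))
  have hW : ∀ j, IsOpen (W j) := fun j => by
    haveI := h1 j
    exact (hQo _ inferInstance (MorphismProperty.pullback_snd _ _ (hQv j))).isOpen_range
  have hWc : (⇑(c.π.app k) ⁻¹' ⋃ j, W j : Set c.pt) = Set.univ := by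
    refine Set.eq_univ_of_forall fun x => ?_
    obtain ⟨b, hbT, y, rfl⟩ := Set.mem_iUnion₂.mp (hT (Set.mem_univ x))
    obtain ⟨j, rfl⟩ : ∃ j, a j = b := ⟨T.equivFin ⟨b, hbT⟩, by simp [a]⟩
    obtain ⟨e', he'⟩ := isPullback_stage D c hc (hsq j) (φ j)
    exact Set.mem_iUnion.mpr ⟨j, e' y, congr($(he'.w) y)⟩
  let F : ∀ l : Over k, Set ↥((Over.forget k ⋙ D).obj l) := fun l => ⇑(D.map l.hom) ⁻¹' ⋃ j, W j
  haveI : ∀ (l m : Over k) (t : l ⟶ m), IsAffineHom ((Over.forget k ⋙ D).map t) :=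
    fun l m t => inferInstanceAs (IsAffineHom (D.map t.left))
  haveI : CompactSpace ↥((Over.forget k ⋙ D).obj (Over.mk (𝟙 k))) := inferInstanceAs (CompactSpace ↥(D.obj k))
  obtain ⟨l, -, hl⟩ := exists_stage_subset_of_proCons ((Functor.Initial.isLimitWhiskerEquiv (Over.forget k) c).symm hc)
    (Over.mk (𝟙 k)) (fun _ => Set.univ) F (fun _ => ProConsLib.isPro_iff_compl.2 (by
      rw [Set.compl_univ]; exact ProConsLib.isInd_of_isOpen isOpen_empty))
    (fun l => ProConsLib.isInd_of_isOpen ((isOpen_iUnion hW).preimage (D.map l.hom).continuous))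
    (fun _ _ _ => Set.subset_univ _)
    (fun l m t x hx => by
      have e1 : D.map t.left ≫ D.map m.hom = D.map l.hom := by rw [← D.map_comp, Over.w t]
      simp only [F, Set.mem_preimage, ← e1, Scheme.Hom.comp_apply] at hx ⊢
      exact hx)
    (fun s _ => Set.mem_iUnion.mpr ⟨Over.mk (𝟙 k), by
      simp only [F, Over.mk_hom, Set.mem_preimage]
      erw [D.map_id]
      exact hWc.ge (Set.mem_univ s)⟩)
  let vk := fun j => pullback.snd (v j) (D.map (φ j))
  let vl := fun j => pullback.snd (vk j) (D.map l.hom)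
  have hsl : ∀ j, ∃ e', IsPullback e' (u (a j)) (vl j) (c.π.app l.left) := fun j => by
    obtain ⟨e', he'⟩ := isPullback_stage D c hc (hsq j) (φ j)
    exact isPullback_stage D c hc he' l.hom
  choose el hel using hsl
  refine ⟨l.left, T.card, _, vl, a, el, fun j => ?_, fun x => ?_, hel⟩
  · haveI := h1 j; haveI := h2 j; haveI := h3 j
    exact ⟨MorphismProperty.pullback_snd _ _ (MorphismProperty.pullback_snd _ _ (hQv j)), inferInstance,
      inferInstance, inferInstance⟩
  · obtain ⟨j, y, hy⟩ := Set.mem_iUnion.mp (hl l (𝟙 l) (Set.mem_univ x))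
    obtain ⟨z, -, hz⟩ := Scheme.exists_preimage_of_isPullback (IsPullback.of_hasPullback (vk j) (D.map l.hom)) y x hy
    exact ⟨j, z, hz⟩

/-- The same, assuming only one stage quasi-compact and quasi-separated. -/
theorem exists_cover_stage (Q : MorphismProperty Scheme.{u}) [Q.IsStableUnderBaseChange]
    (hQ : Descends.{u} Q @LocallyOfFinitePresentation)
    (hQo : ∀ {X Y : Scheme.{u}} (f : X ⟶ Y), LocallyOfFinitePresentation f → Q f → IsOpenMap ⇑f)
    (D : I ⥤ Scheme.{u}) (c : Cone D) (hc : IsLimit c) [∀ (i j : I) (t : i ⟶ j), IsAffineHom (D.map t)] (i₀ : I)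
    [CompactSpace (D.obj i₀)] [QuasiSeparatedSpace (D.obj i₀)] {ι : Type u}
    (U : ι → Scheme.{u}) (u : ∀ a, U a ⟶ c.pt) [∀ a, LocallyOfFinitePresentation (u a)]
    [∀ a, QuasiCompact (u a)] [∀ a, QuasiSeparated (u a)] (hu : ∀ a, Q (u a))
    (hcov : ∀ x : c.pt, ∃ (a : ι) (y : U a), u a y = x) :
    ∃ (i : I) (n : ℕ) (V : Fin n → Scheme.{u}) (v : ∀ j, V j ⟶ D.obj i) (a : Fin n → ι) (e : ∀ j, U (a j) ⟶ V j),
      (∀ j, Q (v j) ∧ LocallyOfFinitePresentation (v j) ∧ QuasiCompact (v j) ∧ QuasiSeparated (v j)) ∧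
      (∀ x : D.obj i, ∃ (j : Fin n) (y : V j), v j y = x) ∧
      ∀ j, IsPullback (e j) (u (a j)) (v j) (c.π.app i) := by
  haveI : ∀ (l m : Over i₀) (t : l ⟶ m), IsAffineHom ((Over.forget i₀ ⋙ D).map t) :=
    fun l m t => inferInstanceAs (IsAffineHom (D.map t.left))
  haveI : ∀ l : Over i₀, CompactSpace ↥((Over.forget i₀ ⋙ D).obj l) :=
    fun l => QuasiCompact.compactSpace_of_compactSpace (D.map l.hom)
  haveI : ∀ l : Over i₀, QuasiSeparatedSpace ↥((Over.forget i₀ ⋙ D).obj l) :=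
    fun l => quasiSeparatedSpace_of_quasiSeparated (D.map l.hom)
  obtain ⟨l, n, V, v, a, e, h1, h2, h3⟩ := exists_cover_stage_aux Q hQ hQo (Over.forget i₀ ⋙ D) (c.whisker _)
    ((Functor.Initial.isLimitWhiskerEquiv (Over.forget i₀) c).symm hc) U u hu hcov
  exact ⟨l.left, n, V, v, a, e, h1, h2, h3⟩

/-- Schemes of finite presentation over a limit come from a stage, one stage being qcqs. -/
theorem exists_model' (D : I ⥤ Scheme.{u}) (c : Cone D) (hc : IsLimit c)
    [∀ (i j : I) (t : i ⟶ j), IsAffineHom (D.map t)] (i₀ : I)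
    [CompactSpace (D.obj i₀)] [QuasiSeparatedSpace (D.obj i₀)] {X : Scheme.{u}} (f : X ⟶ c.pt)
    [LocallyOfFinitePresentation f] [QuasiCompact f] [QuasiSeparated f] :
    ∃ (i : I) (_ : i ⟶ i₀) (Xi : Scheme.{u}) (fi : Xi ⟶ D.obj i) (g : X ⟶ Xi),
      LocallyOfFinitePresentation fi ∧ QuasiCompact fi ∧ QuasiSeparated fi ∧ IsPullback g f fi (c.π.app i) := by
  haveI : ∀ (l m : Over i₀) (t : l ⟶ m), IsAffineHom ((Over.forget i₀ ⋙ D).map t) :=
    fun l m t => inferInstanceAs (IsAffineHom (D.map t.left))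
  haveI : ∀ l : Over i₀, CompactSpace ↥((Over.forget i₀ ⋙ D).obj l) :=
    fun l => QuasiCompact.compactSpace_of_compactSpace (D.map l.hom)
  haveI : ∀ l : Over i₀, QuasiSeparatedSpace ↥((Over.forget i₀ ⋙ D).obj l) :=
    fun l => quasiSeparatedSpace_of_quasiSeparated (D.map l.hom)
  obtain ⟨l, Xi, fi, g, h1, h2, h3, h4⟩ := exists_model (D := Over.forget i₀ ⋙ D) (c := c.whisker _)
    ((Functor.Initial.isLimitWhiskerEquiv (Over.forget i₀) c).symm hc) f
  exact ⟨l.left, l.hom, Xi, fi, g, h1, h2, h3, h4⟩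

end Groth.Agent.LimSch
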