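import Groth.Agent.LimSch.DescendsSmooth
import Groth.Agent.GenFlat.Descent
import Groth.Agent.GenFlat.Limit
import Mathlib.AlgebraicGeometry.Morphisms.Flat

/-!
Descent of flatness along cofiltered limits with affine transition morphisms.
-/

set_option autoImplicit false

universe u

open CategoryTheory Limits AlgebraicGeometry TensorProduct

namespace Groth.Agent.LimSch

/-- If the base change of a finitely presented algebra to a filtered colimit is flat, so is the base
change to some stage. -/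
theorem exists_flat_colim_stage {A₀ : Type u} [CommRing A₀] {ι : Type u} [Nonempty ι] {G : ι → Type u}
    [∀ j, CommRing (G j)] [∀ j, Algebra A₀ (G j)] {A : Type u} [CommRing A] [Algebra A₀ A]
    {g : ∀ j, G j →ₐ[A₀] A} (hd : EtSmColim.Directed g) (hs : ∀ a : A, ∃ j, ∃ x : G j, g j x = a)
    (hk : ∀ j (x : G j), g j x = 0 → ∃ l, ∃ a : EtSmColim.Step g j l, a.hom x = 0)
    (C₀ : Type u) [CommRing C₀] [Algebra A₀ C₀] [Algebra.FinitePresentation A₀ C₀]
    (h : Module.Flat A (A ⊗[A₀] C₀)) : ∃ j, Module.Flat (G j) (G j ⊗[A₀] C₀) := by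
  classical
  let P := Algebra.Presentation.ofFinitePresentation A₀ C₀
  let S₀ : Subalgebra ℤ A₀ := Algebra.adjoin ℤ P.coeffs
  have : P.HasCoeffs S₀ := ⟨by simp [S₀, Subalgebra.algebraMap_eq]⟩
  let M₀ := P.ModelOfHasCoeffs S₀
  let e₀ : A₀ ⊗[S₀] M₀ ≃ₐ[A₀] C₀ := P.tensorModelOfHasCoeffsEquiv S₀
  have : Algebra.FiniteType ℤ S₀ := Algebra.FiniteType.adjoin_of_finite P.finite_coeffs
  have : IsNoetherianRing S₀ := Algebra.FiniteType.isNoetherianRing ℤ S₀
  have cb : ∀ (T : Type u) [CommRing T] [Algebra A₀ T],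
      Nonempty (T ⊗[A₀] C₀ ≃ₗ[T] T ⊗[S₀] M₀) := fun T _ _ =>
    ⟨((Algebra.TensorProduct.congr (AlgEquiv.refl : T ≃ₐ[T] T) e₀.symm).trans
      (Algebra.TensorProduct.cancelBaseChange S₀ A₀ T T M₀)).toLinearEquiv⟩
  have hflat : Module.Flat A (A ⊗[S₀] M₀) := Module.Flat.of_linearEquiv (cb A).some.symm
  obtain ⟨s, hsS⟩ := GenFlat.exists_flat_subalgebra S₀ M₀ A
  let T : Subalgebra S₀ A := Algebra.adjoin S₀ (s : Set A)
  have : Algebra.FiniteType S₀ T := Algebra.FiniteType.adjoin_of_finite s.finite_toSet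
  have : Module.Flat T (T ⊗[S₀] M₀) := hsS T Algebra.subset_adjoin inferInstance
  have : Algebra.FinitePresentation S₀ T := Algebra.FinitePresentation.of_finiteType.mp inferInstance
  obtain ⟨n, π, hπ, K, hK⟩ := ‹Algebra.FinitePresentation S₀ T›
  -- lift the generators
  obtain ⟨i₀⟩ := ‹Nonempty ι›
  let B := EtSmColim.baseSys (g := g) hs hk
  obtain ⟨j, -, y, hy⟩ := B.lift_finset hd (Finset.univ : Finset (Fin n)) i₀
    fun k => ((π (MvPolynomial.X k) : T) : A)
  have hy' : ∀ k, g j (y k) = ((π (MvPolynomial.X k) : T) : A) := fun k => hy k (Finset.mem_univ k)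
  let φ : MvPolynomial (Fin n) S₀ →ₐ[S₀] G j := MvPolynomial.aeval y
  have hφ : ((g j).restrictScalars S₀).comp φ = T.val.comp π :=
    MvPolynomial.algHom_ext fun k => by simp [φ, hy']
  -- kill the relations
  obtain ⟨l, a, ha⟩ := B.kill_finset K (i := j) (fun p => φ p) fun p hp => by
    have h0 : π p = 0 := RingHom.mem_ker.mp (hK ▸ Ideal.subset_span hp : p ∈ RingHom.ker π.toRingHom)
    show g j (φ p) = 0
    have := AlgHom.congr_fun hφ p
    simp only [AlgHom.comp_apply, AlgHom.restrictScalars_apply, h0, map_zero] at this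
    exact this
  let φ' : MvPolynomial (Fin n) S₀ →ₐ[S₀] G l := (a.hom.restrictScalars S₀).comp φ
  have hker : RingHom.ker π.toRingHom ≤ RingHom.ker φ'.toRingHom := by
    rw [← hK, Ideal.span_le]
    exact fun p hp => RingHom.mem_ker.mpr (ha p hp)
  let e := Ideal.quotientKerAlgEquivOfSurjective hπ
  let ψ : T →ₐ[S₀] G l := (Ideal.Quotient.liftₐ _ φ' fun p hp => RingHom.mem_ker.mp (hker hp)).comp e.symm.toAlgHom
  letI : Algebra T (G l) := ψ.toRingHom.toAlgebra
  have : IsScalarTower S₀ T (G l) := IsScalarTower.of_algebraMap_eq fun x => (ψ.commutes x).symm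
  have hfl : Module.Flat (G l) (G l ⊗[S₀] M₀) :=
    Module.Flat.of_linearEquiv (Algebra.TensorProduct.cancelBaseChange S₀ T (G l) (G l) M₀).toLinearEquiv.symm
  exact ⟨l, Module.Flat.of_linearEquiv (cb (G l)).some⟩

/-- Flatness descends, over systems of affines. -/
theorem descendsAff_flat : DescendsAff.{u} @Flat @LocallyOfFinitePresentation :=
  descendsAff_of_affine @Flat fun {I} _ _ D c hc _ _ i X₀ _ f₀ _ X q f hsq hf => by
    have := isAffine_pt D c hc i
    have : IsAffine X := IsAffine.of_isPullback hsq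
    obtain ⟨j, φ, hj⟩ := exists_stage_of_colim D c hc f₀ q f hsq (fun R S _ _ _ => Module.Flat R S)
      (fun A₀ _ ι _ G _ _ A _ _ g hd hs hk C₀ _ _ _ h => exists_flat_colim_stage hd hs hk C₀ h)
      (fun R S S' _ _ _ _ _ e h => Module.Flat.of_linearEquiv e.symm.toLinearEquiv)
      (letI := f.appTop.hom.toAlgebra
       (HasRingHomProperty.iff_of_isAffine (P := @Flat)).1 hf)
    exact ⟨j, φ, (HasRingHomProperty.iff_of_isAffine (P := @Flat)).2 hj⟩

/-- Flatness descends. -/
theorem descends_flat : Descends.{u} @Flat @LocallyOfFinitePresentation := descendsAff_flat.descends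

end Groth.Agent.LimSch
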