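import Groth.Agent.LimSch.Descends
import Mathlib.AlgebraicGeometry.Morphisms.Finite
import Mathlib.AlgebraicGeometry.Morphisms.IsIso
import Mathlib.Algebra.Polynomial.Lifts

/-!
Descent along limits: isomorphisms, affine, separated, closed immersions, finite morphisms.
-/

set_option autoImplicit false
set_option backward.isDefEq.respectTransparency false

universe u

open CategoryTheory Limits AlgebraicGeometry

namespace Groth.Agent.LimSch

variable {I : Type u} [SmallCategory I] [IsCofiltered I] (D : I ⥤ Scheme.{u}) (c : Cone D) (hc : IsLimit c)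
  [∀ (i j : I) (f : i ⟶ j), IsAffineHom (D.map f)]

include hc in
lemma isAffine_pt (i : I) [IsAffine (D.obj i)] : IsAffine c.pt := by
  have : ∀ {i j : I} (f : i ⟶ j), IsAffineHom (D.map f) := fun f => inferInstance
  have : IsAffineHom (c.π.app i) := isAffineHom_π_app D c hc i
  exact isAffine_of_isAffineHom (c.π.app i)

/-- Affineness descends. -/
theorem descendsAff_isAffineHom : DescendsAff.{u} @IsAffineHom ⊤ := by
  intro I _ _ D c hc _ _ i X₀ f₀ _ _ _ X q f hsq hf
  have : CompactSpace X₀ := QuasiCompact.compactSpace_of_compactSpace f₀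
  have : QuasiSeparatedSpace X₀ := quasiSeparatedSpace_of_quasiSeparated f₀
  have := isAffine_pt D c hc i
  have : IsAffine (bcCone D c i f₀ f q hsq.flip).pt := isAffine_of_isAffineHom f
  have : ∀ {j k : Over i} (a : j ⟶ k), IsAffineHom ((bcDiag D i f₀).map a) := fun a => inferInstance
  obtain ⟨j, hj⟩ := Scheme.exists_isAffine_of_isLimit (bcDiag D i f₀) _ (isLimitBcCone D c i f₀ hc f q hsq.flip)
  have : IsAffine (pullback (D.map j.hom) f₀) := hj
  have : IsAffine (pullback f₀ (D.map j.hom)) := IsAffine.of_isIso (pullbackSymmetry f₀ (D.map j.hom)).hom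
  exact ⟨j.left, j.hom, isAffineHom_of_isAffine _⟩

theorem descends_isAffineHom : Descends.{u} @IsAffineHom ⊤ := descendsAff_isAffineHom.descends

/-- Isomorphisms descend, for morphisms locally of finite presentation. -/
theorem descendsAff_isomorphisms :
    DescendsAff (MorphismProperty.isomorphisms Scheme.{u}) @LocallyOfFinitePresentation := by
  intro I _ _ D c hc _ _ i X₀ f₀ _ _ hlfp X q f hsq (hf : IsIso f)
  have : LocallyOfFinitePresentation f₀ := hlfp
  have : CompactSpace X₀ := QuasiCompact.compactSpace_of_compactSpace f₀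
  have : QuasiSeparatedSpace X₀ := quasiSeparatedSpace_of_quasiSeparated f₀
  -- a section at a finite stage
  let D₁ : Over i ⥤ Scheme.{u} := Over.forget i ⋙ D
  have hc₁ : IsLimit (c.whisker (Over.forget i)) :=
    (Functor.Initial.isLimitWhiskerEquiv (Over.forget i) c).symm hc
  let t₁ : D₁ ⟶ (Functor.const (Over i)).obj (D.obj i) :=
    { app := fun j => D.map j.hom
      naturality := fun j k a => by simp [D₁, ← D.map_comp] }
  have : ∀ {j k : Over i} (a : j ⟶ k), IsAffineHom (D₁.map a) := fun a => inferInstanceAs (IsAffineHom (D.map a.left))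
  have : ∀ j, CompactSpace (D₁.obj j) := fun j => inferInstanceAs (CompactSpace (D.obj j.left))
  have : ∀ j, QuasiSeparatedSpace (D₁.obj j) := fun j => inferInstanceAs (QuasiSeparatedSpace (D.obj j.left))
  obtain ⟨k, g, hg₁, hg₂⟩ := Scheme.exists_π_app_comp_eq_of_locallyOfFinitePresentation D₁ t₁ f₀
    (c.whisker (Over.forget i)) hc₁ (inv f ≫ q) (by
      ext j : 2
      show c.π.app j.left ≫ D.map j.hom = (inv f ≫ q) ≫ f₀
      rw [c.w, Category.assoc, hsq.w, IsIso.inv_hom_id_assoc])
  -- the section becomes a two-sided inverse further on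
  let D₂ := bcDiag D i f₀
  have : ∀ {a b : Over i} (e : a ⟶ b), IsAffineHom (D₂.map e) := fun e => inferInstance
  have : ∀ j, CompactSpace (D₂.obj j) := fun j => inferInstance
  let t₂ : D₂ ⟶ (Functor.const (Over i)).obj (D.obj i) :=
    bcSnd D i f₀ ≫ (Functor.const (Over i)).map f₀
  obtain ⟨l, ψ, hl⟩ := Scheme.exists_hom_comp_eq_comp_of_locallyOfFiniteType D₂ t₂ f₀
    (bcCone D c i f₀ f q hsq.flip) (isLimitBcCone D c i f₀ hc f q hsq.flip) (i := k)
    (pullback.snd _ _) (pullback.fst _ _ ≫ g)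
    rfl (by
      show pullback.snd _ _ ≫ f₀ = (pullback.fst _ _ ≫ g) ≫ f₀
      rw [Category.assoc, hg₂]
      exact pullback.condition.symm)
    (by
      show pullback.lift (f ≫ c.π.app k.left) q _ ≫ pullback.snd _ _ =
        pullback.lift (f ≫ c.π.app k.left) q _ ≫ pullback.fst _ _ ≫ g
      rw [pullback.lift_snd, pullback.lift_fst_assoc, Category.assoc]
      change q = f ≫ (c.whisker (Over.forget i)).π.app k ≫ g
      rw [hg₁, IsIso.hom_inv_id_assoc])
  refine ⟨l.left, l.hom, ⟨pullback.lift (D.map ψ.left ≫ g) (𝟙 _) ?_, ?_, pullback.lift_snd _ _ _⟩⟩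
  · rw [Category.assoc, hg₂, Category.id_comp]
    show D.map ψ.left ≫ D.map k.hom = _
    rw [← D.map_comp, Over.w ψ]
  · have h1 := congrArg ((pullbackSymmetry f₀ (D.map l.hom)).hom ≫ ·) hl
    simp only [D₂, bcDiag, limit.lift_π, PullbackCone.mk_π_app, limit.lift_π_assoc, cospan_left,
      Category.assoc, pullbackSymmetry_hom_comp_snd, pullbackSymmetry_hom_comp_fst_assoc] at h1
    refine pullback.hom_ext ?_ ?_
    · rw [Category.assoc, pullback.lift_fst, Category.id_comp]
      exact h1.symm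
    · rw [Category.assoc, pullback.lift_snd, Category.comp_id, Category.id_comp]

theorem descends_isomorphisms :
    Descends (MorphismProperty.isomorphisms Scheme.{u}) @LocallyOfFinitePresentation :=
  descendsAff_isomorphisms.descends

/-- A stable property holds at one common further stage for finitely many parameters. -/
lemma exists_stage_forall {α : Type*} {i : I} (G : Finset α) (p : α → ∀ {j : I}, (j ⟶ i) → Prop)
    (hmono : ∀ a {j k : I} (φ : j ⟶ i) (ψ : k ⟶ j), p a φ → p a (ψ ≫ φ))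
    (h : ∀ a ∈ G, ∃ (j : I) (φ : j ⟶ i), p a φ) :
    ∃ (j : I) (φ : j ⟶ i), ∀ a ∈ G, p a φ := by
  classical
  induction G using Finset.induction with
  | empty => exact ⟨i, 𝟙 i, by simp⟩
  | insert a G _ ih =>
    obtain ⟨j₁, φ₁, h₁⟩ := h a (Finset.mem_insert_self _ _)
    obtain ⟨j₂, φ₂, h₂⟩ := ih fun b hb => h b (Finset.mem_insert_of_mem hb)
    obtain ⟨k, ψ₁, ψ₂, e⟩ := IsCofiltered.cospan φ₁ φ₂
    refine ⟨k, ψ₁ ≫ φ₁, fun b hb => ?_⟩
    rcases Finset.mem_insert.mp hb with rfl | hb
    · exact hmono _ _ _ h₁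
    · rw [e]; exact hmono _ _ _ (h₂ b hb)

omit [IsCofiltered I] [∀ (i j : I) (f : i ⟶ j), IsAffineHom (D.map f)] in
/-- Replace the morphism by its base change to a stage. -/
lemma isPullback_stage (_hc : IsLimit c) {i : I} {X₀ X : Scheme.{u}} {f₀ : X₀ ⟶ D.obj i} {q : X ⟶ X₀} {f : X ⟶ c.pt}
    (hsq : IsPullback q f f₀ (c.π.app i)) {j : I} (φ : j ⟶ i) :
    ∃ q', IsPullback q' f (pullback.snd f₀ (D.map φ)) (c.π.app j) := by
  refine ⟨pullback.lift q (f ≫ c.π.app j) (by rw [Category.assoc, c.w]; exact hsq.w), ?_⟩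
  refine IsPullback.of_right ?_ (pullback.lift_snd _ _ _) (IsPullback.of_hasPullback f₀ (D.map φ))
  rw [pullback.lift_fst, c.w]
  exact hsq

omit [IsCofiltered I] [∀ (i j : I) (f : i ⟶ j), IsAffineHom (D.map f)] in
lemma exists_pullback_map {i : I} {X₀ : Scheme.{u}} (f₀ : X₀ ⟶ D.obj i) {j k : I} (φ : j ⟶ i) (ψ : k ⟶ j) :
    ∃ m : pullback f₀ (D.map (ψ ≫ φ)) ⟶ pullback f₀ (D.map φ),
      m ≫ pullback.fst _ _ = pullback.fst _ _ ∧ m ≫ pullback.snd _ _ = pullback.snd _ _ ≫ D.map ψ :=
  ⟨pullback.lift (pullback.fst _ _) (pullback.snd _ _ ≫ D.map ψ)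
      (by rw [Category.assoc, ← D.map_comp]; exact pullback.condition),
    pullback.lift_fst _ _ _, pullback.lift_snd _ _ _⟩

include hc in
/-- A relation that holds on the limit holds at a stage. -/
lemma exists_stage_appTop_eq {i : I} [IsAffine (D.obj i)] {X₀ X : Scheme.{u}} [IsAffine X₀] {f₀ : X₀ ⟶ D.obj i}
    {q : X ⟶ X₀} {f : X ⟶ c.pt} (hsq : IsPullback q f f₀ (c.π.app i)) {j : I} (φ : j ⟶ i)
    (s : Γ(pullback f₀ (D.map φ), ⊤))
    (hs : (pullback.lift q (f ≫ c.π.app j) (by rw [Category.assoc, c.w]; exact hsq.w) :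
      X ⟶ pullback f₀ (D.map φ)).appTop s = 0) :
    ∃ (k : I) (ψ : k ⟶ j), ∀ m : pullback f₀ (D.map (ψ ≫ φ)) ⟶ pullback f₀ (D.map φ),
      m ≫ pullback.fst _ _ = pullback.fst _ _ → m ≫ pullback.snd _ _ = pullback.snd _ _ ≫ D.map ψ →
      m.appTop s = 0 := by
  let e := pullbackSymmetry f₀ (D.map φ)
  have : ∀ {a b : Over i} (u : a ⟶ b), IsAffineHom ((bcDiag D i f₀).map u) := fun u => inferInstance
  have : CompactSpace ((bcDiag D i f₀).obj (Over.mk φ)) := inferInstance
  obtain ⟨l, u, hl⟩ := exists_appTop_map_eq_zero_of_isLimit (bcDiag D i f₀) _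
    (isLimitBcCone D c i f₀ hc f q hsq.flip) (i := Over.mk φ) (e.inv.appTop s) (by
      show (e.inv.appTop ≫ ((bcCone D c i f₀ f q hsq.flip).π.app (Over.mk φ)).appTop).hom s = 0
      rw [← Scheme.Hom.comp_appTop]
      have : (bcCone D c i f₀ f q hsq.flip).π.app (Over.mk φ) ≫ e.inv =
          pullback.lift q (f ≫ c.π.app j) (by rw [Category.assoc, c.w]; exact hsq.w) := by
        apply pullback.hom_ext
        · simp [e, bcCone]
        · simp [e, bcCone]
      rw [this]; exact hs)
  refine ⟨l.left, u.left, fun m hm₁ hm₂ => ?_⟩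
  have hu : u.left ≫ φ = l.hom := Over.w u
  let v : pullback f₀ (D.map (u.left ≫ φ)) ⟶ pullback (D.map l.hom) f₀ :=
    pullback.lift (pullback.snd _ _) (pullback.fst _ _) (by rw [← hu]; exact pullback.condition.symm)
  have hv : m = v ≫ (bcDiag D i f₀).map u ≫ e.inv := by
    apply pullback.hom_ext
    · simp [hm₁, e, v, bcDiag]
    · simp [hm₂, e, v, bcDiag]
  rw [hv, Scheme.Hom.comp_appTop, Scheme.Hom.comp_appTop, CommRingCat.comp_apply, CommRingCat.comp_apply]
  exact (congrArg v.appTop.hom hl).trans (map_zero _)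

lemma generated_by_pullback {A B S : Scheme.{u}} [IsAffine A] [IsAffine B] [IsAffine S] (f : A ⟶ S) (g : B ⟶ S)
    (T : Subring Γ(pullback f g, ⊤)) (h1 : ∀ a, (pullback.fst f g).appTop a ∈ T)
    (h2 : ∀ b, (pullback.snd f g).appTop b ∈ T) : T = ⊤ := by
  have hpo := isPushout_appTop_of_isPullback (IsPullback.of_hasPullback f g)
  let incl : CommRingCat.of T ⟶ Γ(pullback f g, ⊤) := CommRingCat.ofHom T.subtype
  let h : Γ(pullback f g, ⊤) ⟶ CommRingCat.of T := hpo.desc
    (CommRingCat.ofHom ((pullback.fst f g).appTop.hom.codRestrict T h1))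
    (CommRingCat.ofHom ((pullback.snd f g).appTop.hom.codRestrict T h2))
    (CommRingCat.hom_ext (RingHom.ext fun s => Subtype.ext (congrArg (fun e => e.hom s) hpo.w)))
  have : h ≫ incl = 𝟙 _ := by
    apply hpo.hom_ext
    · rw [IsPushout.inl_desc_assoc, Category.comp_id]; rfl
    · rw [IsPushout.inr_desc_assoc, Category.comp_id]; rfl
  refine top_le_iff.mp fun x _ => ?_
  have hx : incl.hom (h.hom x) = x := congrArg (fun e => e.hom x) this
  exact hx ▸ (h.hom x).2

lemma exists_generators {A S : Scheme.{u}} [IsAffine A] [IsAffine S] (f : A ⟶ S) [LocallyOfFiniteType f] :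
    ∃ G : Finset Γ(A, ⊤), ∀ T : Subring Γ(A, ⊤), (∀ s, f.appTop s ∈ T) → (∀ a ∈ G, a ∈ T) → T = ⊤ := by
  have h : f.appTop.hom.FiniteType := (HasRingHomProperty.iff_of_isAffine (P := @LocallyOfFiniteType)).mp ‹_›
  let _ := f.appTop.hom.toAlgebra
  obtain ⟨G, hG⟩ := (h : Algebra.FiniteType Γ(S, ⊤) Γ(A, ⊤)).out
  refine ⟨G, fun T h1 h2 => top_le_iff.mp fun x _ => ?_⟩
  suffices ∀ x ∈ Algebra.adjoin Γ(S, ⊤) (G : Set Γ(A, ⊤)), x ∈ T from this x (hG.ge trivial)
  intro x hx
  induction hx using Algebra.adjoin_induction with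
  | mem b hb => exact h2 b hb
  | algebraMap r => exact h1 r
  | add p q _ _ hp hq => exact add_mem hp hq
  | mul p q _ _ hp hq => exact mul_mem hp hq

/-- Closed immersions descend, for morphisms locally of finite type. -/
theorem descendsAff_isClosedImmersion : DescendsAff.{u} @IsClosedImmersion @LocallyOfFiniteType := by
  intro I _ _ D c hc _ _ i X₀ f₀ _ _ hlft X q f hsq hf
  obtain ⟨j, φ, hj⟩ := descendsAff_isAffineHom D c hc i f₀ trivial q f hsq (inferInstance : IsAffineHom f)
  suffices key : ∀ {i : I} {X₀ X : Scheme.{u}} [IsAffine X₀] (f₀ : X₀ ⟶ D.obj i) (q : X ⟶ X₀) (f : X ⟶ c.pt),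
      LocallyOfFiniteType f₀ → IsPullback q f f₀ (c.π.app i) → IsClosedImmersion f →
      ∃ (k : I) (ψ : k ⟶ i), IsClosedImmersion (pullback.snd f₀ (D.map ψ)) by
    obtain ⟨q', hsq'⟩ := isPullback_stage D c hc hsq φ
    have : IsAffine (pullback f₀ (D.map φ)) := isAffine_of_isAffineHom (pullback.snd f₀ (D.map φ))
    have : LocallyOfFiniteType f₀ := hlft
    obtain ⟨k, ψ, hk⟩ := key (pullback.snd f₀ (D.map φ)) q' f inferInstance hsq' hf
    refine ⟨k, ψ ≫ φ, ?_⟩
    exact of_isPullback_comp (P := @IsClosedImmersion)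
      (IsPullback.of_hasPullback (pullback.snd f₀ (D.map φ)) (D.map ψ) |>.paste_horiz
        (IsPullback.of_hasPullback f₀ (D.map φ))) (𝟙 _) (a' := pullback.fst _ _)
      (by rw [Category.id_comp, ← D.map_comp]; exact IsPullback.of_hasPullback _ _) hk
  intro i X₀ X _ f₀ q f hlft hsq hf
  have := hlft
  obtain ⟨G, hG⟩ := exists_generators f₀
  have := isAffine_pt D c hc i
  have : IsAffine X := isAffine_of_isAffineHom f
  have hsurj : Function.Surjective f.appTop := by
    rw [HasAffineProperty.iff_of_isAffine (P := @IsClosedImmersion)] at hf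
    exact hf.2
  obtain ⟨k, ψ, hk⟩ := exists_stage_forall (i := i) G
    (fun a j φ => ∃ r, (pullback.snd f₀ (D.map φ)).appTop r = (pullback.fst f₀ (D.map φ)).appTop a)
    (fun a j k φ ψ ⟨r, hr⟩ => by
      obtain ⟨m, hm₁, hm₂⟩ := exists_pullback_map D f₀ φ ψ
      refine ⟨(D.map ψ).appTop r, ?_⟩
      rw [← CommRingCat.comp_apply, ← Scheme.Hom.comp_appTop, ← hm₂, Scheme.Hom.comp_appTop, CommRingCat.comp_apply,
        hr, ← CommRingCat.comp_apply, ← Scheme.Hom.comp_appTop, hm₁])
    (fun a _ => by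
      obtain ⟨r, hr⟩ := hsurj (q.appTop a)
      have : ∀ {i j : I} (f : i ⟶ j), IsAffineHom (D.map f) := fun f => inferInstance
      obtain ⟨j₀, t, ht⟩ := exists_appTop_π_eq_of_isLimit D c hc r
      obtain ⟨j, φ, ψ₀, -⟩ : ∃ (j : I) (_ : j ⟶ i) (_ : j ⟶ j₀), True :=
        ⟨_, IsCofiltered.minToLeft i j₀, IsCofiltered.minToRight i j₀, trivial⟩
      let L : X ⟶ pullback f₀ (D.map φ) :=
        pullback.lift q (f ≫ c.π.app j) (by rw [Category.assoc, c.w]; exact hsq.w)
      obtain ⟨k, ψ, hk⟩ := exists_stage_appTop_eq D c hc hsq φ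
        ((pullback.snd f₀ (D.map φ)).appTop ((D.map ψ₀).appTop t) - (pullback.fst f₀ (D.map φ)).appTop a) (by
          change L.appTop _ = 0
          rw [map_sub, ← CommRingCat.comp_apply, ← CommRingCat.comp_apply, ← Scheme.Hom.comp_appTop,
            ← CommRingCat.comp_apply, ← Scheme.Hom.comp_appTop, ← Scheme.Hom.comp_appTop, pullback.lift_snd,
            pullback.lift_fst, Category.assoc, c.w, Scheme.Hom.comp_appTop, CommRingCat.comp_apply, ← hr, ht]
          exact sub_self _)
      obtain ⟨m, hm₁, hm₂⟩ := exists_pullback_map D f₀ φ ψ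
      refine ⟨k, ψ ≫ φ, (D.map ψ).appTop ((D.map ψ₀).appTop t), ?_⟩
      have := hk m hm₁ hm₂
      rw [map_sub, sub_eq_zero] at this
      rw [← CommRingCat.comp_apply, ← Scheme.Hom.comp_appTop, ← hm₂, Scheme.Hom.comp_appTop, CommRingCat.comp_apply,
        this, ← CommRingCat.comp_apply, ← Scheme.Hom.comp_appTop, hm₁])
  refine ⟨k, ψ, IsClosedImmersion.of_surjective_of_isAffine _ ?_⟩
  have hrange : (pullback.snd f₀ (D.map ψ)).appTop.hom.range = ⊤ := by
    refine generated_by_pullback f₀ (D.map ψ) _ (fun a => ?_) (fun b => ⟨b, rfl⟩)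
    have := hG ((pullback.snd f₀ (D.map ψ)).appTop.hom.range.comap (pullback.fst f₀ (D.map ψ)).appTop.hom)
      (fun s => ⟨(D.map ψ).appTop s, by
        rw [← CommRingCat.comp_apply, ← CommRingCat.comp_apply, ← Scheme.Hom.comp_appTop, ← Scheme.Hom.comp_appTop,
          pullback.condition]⟩)
      (fun a ha => hk a ha)
    exact this.ge trivial
  exact fun x => hrange.ge (Subring.mem_top x)

theorem descends_isClosedImmersion : Descends.{u} @IsClosedImmersion @LocallyOfFiniteType :=
  descendsAff_isClosedImmersion.descends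

/-- Separatedness descends. -/
theorem descends_isSeparated : Descends.{u} @IsSeparated ⊤ := by
  have h : Descends.{u} (MorphismProperty.diagonal @IsClosedImmersion) ⊤ :=
    Descends.diagonal (P := @IsClosedImmersion) (H := @LocallyOfFiniteType) @descends_isClosedImmersion.{u} (fun f _ => inferInstance)
  rwa [← IsSeparated.isSeparated_eq_diagonal_isClosedImmersion] at h

/-- Finiteness descends, for morphisms locally of finite type. -/
theorem descendsAff_isFinite : DescendsAff.{u} @IsFinite @LocallyOfFiniteType := by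
  intro I _ _ D c hc _ _ i X₀ f₀ _ _ hlft X q f hsq hf
  obtain ⟨j, φ, hj⟩ := descendsAff_isAffineHom D c hc i f₀ trivial q f hsq (inferInstance : IsAffineHom f)
  suffices key : ∀ {i : I} {X₀ X : Scheme.{u}} [IsAffine X₀] (f₀ : X₀ ⟶ D.obj i) (q : X ⟶ X₀) (f : X ⟶ c.pt),
      LocallyOfFiniteType f₀ → IsPullback q f f₀ (c.π.app i) → IsFinite f →
      ∃ (k : I) (ψ : k ⟶ i), IsFinite (pullback.snd f₀ (D.map ψ)) by
    obtain ⟨q', hsq'⟩ := isPullback_stage D c hc hsq φ
    have : IsAffine (pullback f₀ (D.map φ)) := isAffine_of_isAffineHom (pullback.snd f₀ (D.map φ))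
    have : LocallyOfFiniteType f₀ := hlft
    obtain ⟨k, ψ, hk⟩ := key (pullback.snd f₀ (D.map φ)) q' f inferInstance hsq' hf
    refine ⟨k, ψ ≫ φ, ?_⟩
    exact of_isPullback_comp (P := @IsFinite)
      (IsPullback.of_hasPullback (pullback.snd f₀ (D.map φ)) (D.map ψ) |>.paste_horiz
        (IsPullback.of_hasPullback f₀ (D.map φ))) (𝟙 _) (a' := pullback.fst _ _)
      (by rw [Category.id_comp, ← D.map_comp]; exact IsPullback.of_hasPullback _ _) hk
  intro i X₀ X _ f₀ q f hlft hsq hf
  have := hlft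
  obtain ⟨G, hG⟩ := exists_generators f₀
  have := isAffine_pt D c hc i
  have : IsAffine X := isAffine_of_isAffineHom f
  have hint : f.appTop.hom.IsIntegral := by
    rw [HasAffineProperty.iff_of_isAffine (P := @IsFinite)] at hf
    exact RingHom.IsIntegral.of_finite hf.2
  have haff : ∀ {i j : I} (f : i ⟶ j), IsAffineHom (D.map f) := fun f => inferInstance
  obtain ⟨k, ψ, hk⟩ := exists_stage_forall (i := i) G
    (fun a j φ => (pullback.snd f₀ (D.map φ)).appTop.hom.IsIntegralElem ((pullback.fst f₀ (D.map φ)).appTop a))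
    (fun a j k φ ψ ⟨p, hp, hpa⟩ => by
      obtain ⟨m, hm₁, hm₂⟩ := exists_pullback_map D f₀ φ ψ
      refine ⟨p.map (D.map ψ).appTop.hom, hp.map _, ?_⟩
      have := congrArg m.appTop.hom hpa
      rw [map_zero, Polynomial.hom_eval₂, ← CommRingCat.hom_comp, ← Scheme.Hom.comp_appTop, hm₂,
        Scheme.Hom.comp_appTop, CommRingCat.hom_comp, ← Polynomial.eval₂_map] at this
      rw [← CommRingCat.comp_apply, ← Scheme.Hom.comp_appTop, hm₁] at this
      exact this)
    (fun a _ => by
      obtain ⟨p, hp, hpa⟩ := hint (q.appTop a)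
      classical
      obtain ⟨j, φ, hcoef⟩ := exists_stage_forall (i := i) (p.support.image p.coeff)
        (fun r j _ => ∃ t, (c.π.app j).appTop t = r)
        (fun r j k φ ψ ⟨t, ht⟩ => ⟨(D.map ψ).appTop t, by
          rw [← CommRingCat.comp_apply, ← Scheme.Hom.comp_appTop, c.w]; exact ht⟩)
        (fun r _ => by
          obtain ⟨j₀, t, ht⟩ := exists_appTop_π_eq_of_isLimit D c hc r
          refine ⟨_, IsCofiltered.minToLeft i j₀, (D.map (IsCofiltered.minToRight i j₀)).appTop t, ?_⟩
          rw [← CommRingCat.comp_apply, ← Scheme.Hom.comp_appTop, c.w]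
          exact ht.symm)
      have hlifts : p ∈ Polynomial.lifts (c.π.app j).appTop.hom := by
        rw [Polynomial.lifts_iff_coeff_lifts]
        intro n
        by_cases hn : n ∈ p.support
        · exact hcoef _ (Finset.mem_image_of_mem _ hn)
        · exact ⟨0, by rw [map_zero, Polynomial.notMem_support_iff.mp hn]⟩
      obtain ⟨P', hP', hP'm⟩ : ∃ P' : Polynomial Γ(D.obj j, ⊤), P'.map (c.π.app j).appTop.hom = p ∧ P'.Monic := by
        change p ∈ Polynomial.lifts (R := Γ(D.obj j, ⊤)) (S := Γ(c.pt, ⊤)) (c.π.app j).appTop.hom at hlifts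
        change ∃ P' : Polynomial Γ(D.obj j, ⊤), Polynomial.map (S := Γ(c.pt, ⊤)) (c.π.app j).appTop.hom P' = p ∧ P'.Monic
        rcases subsingleton_or_nontrivial Γ(c.pt, ⊤) with hsub | hnt
        · exact ⟨1, Subsingleton.elim _ _, Polynomial.monic_one⟩
        · obtain ⟨P', h1, -, h2⟩ := Polynomial.lifts_and_degree_eq_and_monic hlifts hp
          exact ⟨P', h1, h2⟩
      let L : X ⟶ pullback f₀ (D.map φ) :=
        pullback.lift q (f ≫ c.π.app j) (by rw [Category.assoc, c.w]; exact hsq.w)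
      obtain ⟨k, ψ, hk⟩ := exists_stage_appTop_eq D c hc hsq φ
        (P'.eval₂ (pullback.snd f₀ (D.map φ)).appTop.hom ((pullback.fst f₀ (D.map φ)).appTop a)) (by
          change L.appTop.hom _ = 0
          rw [Polynomial.hom_eval₂, ← CommRingCat.hom_comp, ← Scheme.Hom.comp_appTop, pullback.lift_snd,
            ← CommRingCat.comp_apply, ← Scheme.Hom.comp_appTop, pullback.lift_fst, Scheme.Hom.comp_appTop,
            CommRingCat.hom_comp, ← Polynomial.eval₂_map, hP', hpa])
      obtain ⟨m, hm₁, hm₂⟩ := exists_pullback_map D f₀ φ ψ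
      refine ⟨k, ψ ≫ φ, P'.map (D.map ψ).appTop.hom, hP'm.map _, ?_⟩
      have := hk m hm₁ hm₂
      change m.appTop.hom _ = 0 at this
      rw [Polynomial.hom_eval₂, ← CommRingCat.hom_comp, ← Scheme.Hom.comp_appTop, hm₂, Scheme.Hom.comp_appTop,
        CommRingCat.hom_comp, ← Polynomial.eval₂_map, ← CommRingCat.comp_apply, ← Scheme.Hom.comp_appTop, hm₁] at this
      exact this)
  refine ⟨k, ψ, ?_⟩
  rw [HasAffineProperty.iff_of_isAffine (P := @IsFinite)]
  refine ⟨inferInstance, RingHom.IsIntegral.to_finite ?_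
    ((HasRingHomProperty.iff_of_isAffine (P := @LocallyOfFiniteType)).mp inferInstance)⟩
  let _ := (pullback.snd f₀ (D.map ψ)).appTop.hom.toAlgebra
  have htop : (integralClosure Γ(D.obj k, ⊤) Γ(pullback f₀ (D.map ψ), ⊤)).toSubring = ⊤ := by
    refine generated_by_pullback f₀ (D.map ψ) _ (fun a => ?_) (fun b => isIntegral_algebraMap)
    have := hG ((integralClosure Γ(D.obj k, ⊤) Γ(pullback f₀ (D.map ψ), ⊤)).toSubring.comap
        (pullback.fst f₀ (D.map ψ)).appTop.hom)
      (fun s => by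
        show _ ∈ integralClosure _ _
        rw [← CommRingCat.comp_apply, ← Scheme.Hom.comp_appTop, pullback.condition, Scheme.Hom.comp_appTop]
        exact isIntegral_algebraMap)
      (fun a ha => hk a ha)
    exact this.ge trivial
  exact fun x => htop.ge (Subring.mem_top x)

theorem descends_isFinite : Descends.{u} @IsFinite @LocallyOfFiniteType := descendsAff_isFinite.descends

end Groth.Agent.LimSch
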