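import Groth.Agent.LimSch.Pullback

/-!
Topological properties of cofiltered limits of schemes with affine transition maps.
-/

set_option autoImplicit false
set_option backward.isDefEq.respectTransparency false

universe u

open CategoryTheory Limits AlgebraicGeometry

namespace Groth.Agent.LimSch

variable {I : Type u} [SmallCategory I] [IsCofiltered I] {D : I ⥤ Scheme.{u}} {c : Cone D}
  [∀ (i j : I) (f : i ⟶ j), IsAffineHom (D.map f)]

/-- A nonempty quasi-compact open at a stage whose preimages in all stages are nonempty has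
nonempty preimage in the limit. -/
lemma preimage_nonempty (hc : IsLimit c) {i : I} {U : (D.obj i).Opens}
    (hU : IsCompact (U : Set (D.obj i)))
    (hne : ∀ (j : I) (φ : j ⟶ i), ((D.map φ ⁻¹ᵁ U : (D.obj j).Opens) : Set (D.obj j)).Nonempty) :
    ((c.π.app i ⁻¹ᵁ U : c.pt.Opens) : Set c.pt).Nonempty := by
  have : ∀ {i j} (f : i ⟶ j), IsAffineHom (D.map f) := fun f => inferInstance
  have (j : Over i) : CompactSpace ↥((opensDiagram D i U).obj j) :=
    isCompact_iff_compactSpace.mp (QuasiCompact.isCompact_preimage (f := (D.map j.hom)) _ U.2 hU)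
  have (j : Over i) : Nonempty ↥((opensDiagram D i U).obj j) := (hne j.left j.hom).to_subtype
  exact Set.nonempty_coe_sort.mp
    (Scheme.nonempty_of_isLimit _ _ (isLimitOpensCone D c hc i U))

lemma isDominant_π_iff (hc : IsLimit c) (i : I) :
    IsDominant (c.π.app i) ↔ ∀ (j : I) (φ : j ⟶ i), IsDominant (D.map φ) := by
  refine ⟨fun h j φ => ?_, fun h => ?_⟩
  · have : IsDominant (c.π.app j ≫ D.map φ) := by rwa [c.w φ]
    exact .of_comp (c.π.app j) _
  · refine ⟨dense_iff_inter_open.mpr fun V hV ⟨x, hx⟩ => ?_⟩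
    obtain ⟨_, ⟨U, hU : IsAffineOpen U, rfl⟩, hxU, hUV⟩ :=
      (D.obj i).isBasis_affineOpens.exists_subset_of_mem_open hx hV
    obtain ⟨s, hs⟩ := preimage_nonempty hc hU.isCompact fun j φ => by
      obtain ⟨y, hy⟩ := (h j φ).denseRange.exists_mem_open U.2 ⟨x, hxU⟩
      exact ⟨y, hy⟩
    exact ⟨_, hUV hs, s, rfl⟩

/-- Every point of the limit has a neighbourhood basis of preimages of affine opens of the stages
above a given one. -/
lemma exists_preimage_subset (hc : IsLimit c) (i : I) {U : Set c.pt} (hU : IsOpen U) {s : c.pt}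
    (hs : s ∈ U) : ∃ (j : I) (_ : j ⟶ i) (V : (D.obj j).Opens), IsAffineOpen V ∧
      c.π.app j s ∈ V ∧ ⇑(c.π.app j) ⁻¹' (V : Set (D.obj j)) ⊆ U := by
  have : ∀ {i j} (f : i ⟶ j), IsAffineHom (D.map f) := fun f => inferInstance
  obtain ⟨_, ⟨k, V, hV, rfl⟩, hsV, hVU⟩ :=
    TopologicalSpace.Opens.isBasis_iff_nbhd.mp (isBasis_preimage_isAffineOpen D c hc)
      (U := ⟨U, hU⟩) hs
  obtain ⟨j, fi, fk, -⟩ := IsCofilteredOrEmpty.cone_objs i k
  refine ⟨j, fi, D.map fk ⁻¹ᵁ V, hV.preimage _, ?_, ?_⟩
  · change D.map fk (c.π.app j s) ∈ V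
    rw [← Scheme.Hom.comp_apply, c.w]
    exact hsV
  · intro t ht
    apply hVU
    change c.π.app k t ∈ V
    rw [← c.w fk, Scheme.Hom.comp_apply]
    exact ht

lemma isOpenMap_π_iff (hc : IsLimit c) (i : I)
    (hs : ∀ (j : I) (_ : j ⟶ i), Surjective (c.π.app j)) :
    IsOpenMap ⇑(c.π.app i) ↔ ∀ (j : I) (φ : j ⟶ i), IsOpenMap ⇑(D.map φ) := by
  refine ⟨fun h j φ V hV => ?_, fun h U hU => ?_⟩
  · have := h _ (hV.preimage (c.π.app j).continuous)
    convert this using 1
    have hcomp : ⇑(c.π.app i) = ⇑(D.map φ) ∘ ⇑(c.π.app j) := by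
      funext s; rw [Function.comp_apply, ← Scheme.Hom.comp_apply, c.w]; rfl
    rw [hcomp, Set.image_comp, Set.image_preimage_eq _ (hs j φ).surj]
  · rw [isOpen_iff_forall_mem_open]
    rintro _ ⟨s, hsU, rfl⟩
    obtain ⟨j, φ, V, -, hsV, hVU⟩ := exists_preimage_subset hc i hU hsU
    refine ⟨⇑(D.map φ) '' V, ?_, h j φ _ V.2, c.π.app j s, hsV, ?_⟩
    · rintro _ ⟨y, hy, rfl⟩
      obtain ⟨t, rfl⟩ := (hs j φ).surj y
      exact ⟨t, hVU hy, by rw [← Scheme.Hom.comp_apply, c.w]; rfl⟩
    · rw [← Scheme.Hom.comp_apply, c.w]; rfl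

lemma universallyOpen_π_iff (hc : IsLimit c) (i : I)
    (hs : ∀ (j : I) (_ : j ⟶ i), Surjective (c.π.app j)) :
    UniversallyOpen (c.π.app i) ↔ ∀ (j : I) (φ : j ⟶ i), UniversallyOpen (D.map φ) := by
  refine ⟨fun h j φ => ⟨?_⟩, fun h => ⟨?_⟩⟩
  · intro X' T q g f' sq
    -- `f' : X' ⟶ T` is the base change of `D.map φ`; precompose with the surjective base change
    let p : pullback q (c.π.app j) ⟶ X' := pullback.fst _ _
    have hp : Surjective p := by
      have := hs j φ
      exact MorphismProperty.pullback_fst (P := @Surjective) _ _ this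
    have sq' : IsPullback (p ≫ f') (pullback.snd q (c.π.app j)) g (c.π.app i) := by
      rw [← c.w φ]
      exact (IsPullback.of_hasPullback q (c.π.app j)).paste_horiz sq
    have hopen := h.universally_isOpenMap _ _ _ sq'
    intro V hV
    have := hopen _ (hV.preimage p.continuous)
    convert this using 1
    have : ⇑(p ≫ f') = ⇑f' ∘ ⇑p := by funext s; rfl
    rw [this, Set.image_comp, Set.image_preimage_eq _ hp.surj]
  · intro X' T q g f' sq
    let C := bcCone D c i g q f' sq.flip
    have hC : IsLimit C := isLimitBcCone D c i g hc q f' sq.flip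
    let o : Over i := Over.mk (𝟙 i)
    have hsur : ∀ (j : Over i) (_ : j ⟶ o), Surjective (C.π.app j) := fun j _ => by
      have := hs j.left j.hom
      suffices hsq : IsPullback q (C.π.app j) (c.π.app j.left) ((bcFst D i g).app j) from
        MorphismProperty.of_isPullback (P := @Surjective) hsq this
      refine (IsPullback.of_right (h₁₁ := C.π.app j) (h₂₁ := c.π.app j.left) (v₁₁ := q)
        ?_ ?_ (isPullback_bcDiag D i g j).flip).flip
      · change IsPullback (pullback.lift (q ≫ c.π.app j.left) f' _ ≫ pullback.snd _ _) q g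
          (c.π.app j.left ≫ D.map j.hom)
        erw [pullback.lift_snd, c.w j.hom]
        exact sq
      · exact (pullback.lift_fst _ _ _)
    have hopen : IsOpenMap ⇑(C.π.app o) := by
      refine (isOpenMap_π_iff hC o hsur).mpr fun j ψ => ?_
      have := h j.left ψ.left
      have : UniversallyOpen ((bcDiag D i g).map ψ) :=
        MorphismProperty.of_isPullback (P := @UniversallyOpen) (isPullback_bcDiag_map D i g ψ).flip this
      exact ((bcDiag D i g).map ψ).isOpenMap
    have hi : IsIso ((bcSnd D i g).app o) := by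
      have : IsIso (D.map o.hom) := by dsimp [o]; infer_instance
      exact MorphismProperty.of_isPullback (P := MorphismProperty.isomorphisms Scheme.{u})
        (isPullback_bcDiag D i g o) this
    have hf' : f' = C.π.app o ≫ (bcSnd D i g).app o := (pullback.lift_snd _ _ _).symm
    have : ⇑f' = ⇑((bcSnd D i g).app o) ∘ ⇑(C.π.app o) := by
      funext s; rw [hf']; rfl
    change IsOpenMap ⇑f'
    rw [this]
    exact ((bcSnd D i g).app o).isOpenEmbedding.isOpenMap.comp hopen

end Groth.Agent.LimSch
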