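import Groth.Agent.LimSch.Sections
import Groth.Agent.LimSch.Topology

set_option autoImplicit false
set_option backward.isDefEq.respectTransparency false

universe u

open CategoryTheory Limits AlgebraicGeometry

namespace Groth.Agent.LimSch

lemma isReduced_of_flat_surjective {X Y : Scheme.{u}} (f : X ⟶ Y) [Flat f] [Surjective f]
    [IsReduced X] : IsReduced Y := by
  have (y : Y) : _root_.IsReduced (Y.presheaf.stalk y) := by
    obtain ⟨x, rfl⟩ := f.surjective y
    algebraize [(f.stalkMap x).hom]
    have : Module.Flat (Y.presheaf.stalk (f x)) (X.presheaf.stalk x) := Flat.stalkMap f x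
    have : IsLocalHom (algebraMap (Y.presheaf.stalk (f x)) (X.presheaf.stalk x)) :=
      inferInstanceAs (IsLocalHom (f.stalkMap x).hom)
    have : Module.FaithfullyFlat (Y.presheaf.stalk (f x)) (X.presheaf.stalk x) :=
      .of_flat_of_isLocalHom
    exact isReduced_of_injective (f.stalkMap x).hom
      (RingHom.FaithfullyFlat.injective (f := (f.stalkMap x).hom) (by assumption))
  exact isReduced_of_isReduced_stalk _

variable {I : Type u} [SmallCategory I] [IsCofiltered I] {D : I ⥤ Scheme.{u}} {c : Cone D}
  [∀ (i j : I) (f : i ⟶ j), IsAffineHom (D.map f)]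

lemma isReduced_iff_of_flat_surjective (hc : IsLimit c)
    (hf : ∀ (i j : I) (φ : i ⟶ j), Flat (D.map φ) ∧ Surjective (D.map φ)) :
    IsReduced c.pt ↔ ∀ i, IsReduced (D.obj i) := by
  refine ⟨fun h i => ?_, fun h => isReduced_of_cofinal hc fun i => ⟨i, 𝟙 i, h i⟩⟩
  have := flat_π hc i fun j φ => (hf j i φ).1
  have := (surjective_π_iff hc i).mpr fun j φ => (hf j i φ).2
  exact @isReduced_of_flat_surjective _ _ (c.π.app i) _ _ h

end Groth.Agent.LimSch
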