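import Groth.Agent.LimSch.DescendsCores

/-!
Descent along limits: morphisms between schemes of finite presentation over a stage.
-/

set_option autoImplicit false
set_option backward.isDefEq.respectTransparency false

universe u

open CategoryTheory Limits AlgebraicGeometry

namespace Groth.Agent.LimSch

variable {I : Type u} [SmallCategory I] [IsCofiltered I] (D : I ⥤ Scheme.{u}) (c : Cone D) (hc : IsLimit c)
  [∀ (i j : I) (f : i ⟶ j), IsAffineHom (D.map f)] {i : I} {Xi Yi : Scheme.{u}} {xi : Xi ⟶ D.obj i}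
  {yi : Yi ⟶ D.obj i} {X : Scheme.{u}} {qX : X ⟶ Xi} {pX : X ⟶ c.pt}

include hc in
/-- A morphism from the limit into a scheme of finite presentation over a stage comes from a stage. -/
lemma exists_hom_stage (hX : IsPullback qX pX xi (c.π.app i)) [CompactSpace Xi] [QuasiSeparatedSpace Xi]
    [LocallyOfFinitePresentation yi] (m : X ⟶ Yi) (hm : m ≫ yi = pX ≫ c.π.app i) :
    ∃ (j : I) (φ : j ⟶ i) (g : pullback xi (D.map φ) ⟶ Yi),
      g ≫ yi = pullback.snd xi (D.map φ) ≫ D.map φ ∧
        pullback.lift qX (pX ≫ c.π.app j) (by rw [Category.assoc, c.w]; exact hX.w) ≫ g = m := by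
  have : ∀ {a b : Over i} (u : a ⟶ b), IsAffineHom ((bcDiag D i xi).map u) := fun u => inferInstance
  have : ∀ j, CompactSpace ((bcDiag D i xi).obj j) := fun j => inferInstance
  have : ∀ j, QuasiSeparatedSpace ((bcDiag D i xi).obj j) := fun j => inferInstance
  obtain ⟨l, g, hg₁, hg₂⟩ := Scheme.exists_π_app_comp_eq_of_locallyOfFinitePresentation (bcDiag D i xi)
    (bcSnd D i xi ≫ (Functor.const (Over i)).map xi) yi (bcCone D c i xi pX qX hX.flip)
    (isLimitBcCone D c i xi hc pX qX hX.flip) m (by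
      ext j : 2
      show pullback.lift (pX ≫ c.π.app j.left) qX _ ≫ pullback.snd _ _ ≫ xi = m ≫ yi
      rw [pullback.lift_snd_assoc, hm, hX.w])
  refine ⟨l.left, l.hom, (pullbackSymmetry xi (D.map l.hom)).hom ≫ g, ?_, ?_⟩
  · rw [Category.assoc, hg₂]
    show (pullbackSymmetry _ _).hom ≫ pullback.snd _ _ ≫ xi = _
    rw [pullbackSymmetry_hom_comp_snd_assoc, pullback.condition]
  · rw [← hg₁, ← Category.assoc]
    congr 1
    show _ = pullback.lift (pX ≫ c.π.app l.left) qX _
    apply pullback.hom_ext <;> simp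

include hc in
/-- Two morphisms into a scheme locally of finite type over a stage which agree on the limit agree at
a stage. -/
lemma exists_stage_hom_eq (hX : IsPullback qX pX xi (c.π.app i)) [CompactSpace Xi]
    [LocallyOfFiniteType yi] (g₁ g₂ : Xi ⟶ Yi) (hg : g₁ ≫ yi = g₂ ≫ yi) (h : qX ≫ g₁ = qX ≫ g₂) :
    ∃ (j : I) (φ : j ⟶ i), pullback.fst xi (D.map φ) ≫ g₁ = pullback.fst xi (D.map φ) ≫ g₂ := by
  have : ∀ {a b : Over i} (u : a ⟶ b), IsAffineHom ((bcDiag D i xi).map u) := fun u => inferInstance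
  have : ∀ j, CompactSpace ((bcDiag D i xi).obj j) := fun j => inferInstance
  let o : Over i := Over.mk (𝟙 i)
  obtain ⟨l, e, he⟩ := Scheme.exists_hom_comp_eq_comp_of_locallyOfFiniteType (bcDiag D i xi)
    (bcSnd D i xi ≫ (Functor.const (Over i)).map (g₁ ≫ yi)) yi (bcCone D c i xi pX qX hX.flip)
    (isLimitBcCone D c i xi hc pX qX hX.flip) (i := o) (pullback.snd _ _ ≫ g₁) (pullback.snd _ _ ≫ g₂)
    (Category.assoc _ _ _).symm (by rw [Category.assoc, ← hg]; rfl)
    (by
      show pullback.lift (pX ≫ c.π.app o.left) qX _ ≫ pullback.snd _ _ ≫ g₁ =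
        pullback.lift (pX ≫ c.π.app o.left) qX _ ≫ pullback.snd _ _ ≫ g₂
      rw [pullback.lift_snd_assoc, pullback.lift_snd_assoc, h])
  refine ⟨l.left, l.hom, ?_⟩
  have := congrArg ((pullbackSymmetry xi (D.map l.hom)).hom ≫ ·) he
  have hs : (bcDiag D i xi).map e ≫ pullback.snd (D.map o.hom) xi = pullback.snd _ _ := pullback.lift_snd _ _ _
  simp only [reassoc_of% hs, pullbackSymmetry_hom_comp_snd_assoc] at this
  exact this

end Groth.Agent.LimSch
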