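import Groth.Agent.LimSch.DescendsCores
import Mathlib.AlgebraicGeometry.Morphisms.Etale
import Groth.Agent.EtSmColim.Smooth
import Mathlib.AlgebraicGeometry.Morphisms.Smooth
import Mathlib.AlgebraicGeometry.Morphisms.FormallyUnramified
import Mathlib.Algebra.Category.Ring.Constructions

/-!
Descent of smooth and unramified morphisms along cofiltered limits with affine transition morphisms.
-/

set_option autoImplicit false
set_option backward.isDefEq.respectTransparency false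

universe u

open CategoryTheory Limits AlgebraicGeometry TensorProduct

namespace Groth.Agent.LimSch

attribute [local instance] Algebra.TensorProduct.rightAlgebra

section Algebra

variable (A₀ R C₀ : Type u) [CommRing A₀] [CommRing R] [CommRing C₀] [Algebra A₀ R] [Algebra A₀ C₀]

theorem formallySmooth_baseChange_trans (T : Type u) [CommRing T] [Algebra A₀ T] [Algebra R T] [IsScalarTower A₀ R T]
    [Algebra.FormallySmooth R (R ⊗[A₀] C₀)] : Algebra.FormallySmooth T (T ⊗[A₀] C₀) :=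
  Algebra.FormallySmooth.of_equiv (A := T ⊗[R] (R ⊗[A₀] C₀))
    (Algebra.TensorProduct.cancelBaseChange A₀ R T T C₀)

theorem formallyUnramified_baseChange_trans (T : Type u) [CommRing T] [Algebra A₀ T] [Algebra R T] [IsScalarTower A₀ R T]
    [Algebra.FormallyUnramified R (R ⊗[A₀] C₀)] : Algebra.FormallyUnramified T (T ⊗[A₀] C₀) :=
  Algebra.FormallyUnramified.of_equiv (A := T ⊗[R] (R ⊗[A₀] C₀))
    (Algebra.TensorProduct.cancelBaseChange A₀ R T T C₀)

theorem formallySmooth_lid_iff :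
    Algebra.FormallySmooth R (R ⊗[A₀] C₀) ↔
      Algebra.FormallySmooth (A₀ ⊗[A₀] R) ((A₀ ⊗[A₀] R) ⊗[A₀] C₀) := by
  constructor
  · intro h
    exact formallySmooth_baseChange_trans A₀ R C₀ (A₀ ⊗[A₀] R)
  · intro h
    let : Algebra (A₀ ⊗[A₀] R) R := (Algebra.TensorProduct.lid A₀ R).toAlgHom.toRingHom.toAlgebra
    have ht : IsScalarTower A₀ (A₀ ⊗[A₀] R) R :=
      IsScalarTower.of_algebraMap_eq (R := A₀) (S := A₀ ⊗[A₀] R) (A := R) fun a =>
        ((Algebra.TensorProduct.lid A₀ R).toAlgHom.commutes a).symm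
    exact @formallySmooth_baseChange_trans A₀ (A₀ ⊗[A₀] R) C₀ _ _ _ _ _ R _ _ _ ht h

theorem formallyUnramified_lid_iff :
    Algebra.FormallyUnramified R (R ⊗[A₀] C₀) ↔
      Algebra.FormallyUnramified (A₀ ⊗[A₀] R) ((A₀ ⊗[A₀] R) ⊗[A₀] C₀) := by
  constructor
  · intro h
    exact formallyUnramified_baseChange_trans A₀ R C₀ (A₀ ⊗[A₀] R)
  · intro h
    let : Algebra (A₀ ⊗[A₀] R) R := (Algebra.TensorProduct.lid A₀ R).toAlgHom.toRingHom.toAlgebra
    have ht : IsScalarTower A₀ (A₀ ⊗[A₀] R) R :=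
      IsScalarTower.of_algebraMap_eq (R := A₀) (S := A₀ ⊗[A₀] R) (A := R) fun a =>
        ((Algebra.TensorProduct.lid A₀ R).toAlgHom.commutes a).symm
    exact @formallyUnramified_baseChange_trans A₀ (A₀ ⊗[A₀] R) C₀ _ _ _ _ _ R _ _ _ ht h

end Algebra

/-- Global sections of a pullback of affines, as a tensor product. -/
theorem exists_algEquiv_of_isPullback {P X Z W : Scheme.{u}} [IsAffine X] [IsAffine Z] [IsAffine W]
    {fst : P ⟶ X} {snd : P ⟶ W} {f : X ⟶ Z} {b : W ⟶ Z} (h : IsPullback fst snd f b) :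
    letI := f.appTop.hom.toAlgebra
    letI := b.appTop.hom.toAlgebra
    letI := snd.appTop.hom.toAlgebra
    Nonempty ((Γ(W, ⊤) ⊗[Γ(Z, ⊤)] Γ(X, ⊤)) ≃ₐ[Γ(W, ⊤)] Γ(P, ⊤)) := by
  let := f.appTop.hom.toAlgebra
  let := b.appTop.hom.toAlgebra
  let := snd.appTop.hom.toAlgebra
  let := fst.appTop.hom.toAlgebra
  let : Algebra Γ(Z, ⊤) Γ(P, ⊤) := (snd ≫ b).appTop.hom.toAlgebra
  have h1 : IsScalarTower Γ(Z, ⊤) Γ(W, ⊤) Γ(P, ⊤) := .of_algebraMap_eq fun z => by
    change (snd ≫ b).appTop.hom z = _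
    rw [Scheme.Hom.comp_appTop]; rfl
  have h2 : IsScalarTower Γ(Z, ⊤) Γ(X, ⊤) Γ(P, ⊤) := .of_algebraMap_eq fun z => by
    change (snd ≫ b).appTop.hom z = _
    rw [← h.w, Scheme.Hom.comp_appTop]; rfl
  have hp : Algebra.IsPushout Γ(Z, ⊤) Γ(W, ⊤) Γ(X, ⊤) Γ(P, ⊤) :=
    CommRingCat.isPushout_iff_isPushout.1 (isPushout_appTop_of_isPullback h).flip
  exact ⟨Algebra.IsPushout.equiv Γ(Z, ⊤) Γ(W, ⊤) Γ(X, ⊤) Γ(P, ⊤)⟩

variable {I : Type u} [SmallCategory I] [IsCofiltered I] (D : I ⥤ Scheme.{u}) (c : Cone D) (hc : IsLimit c)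
  [∀ (i j : I) (f : i ⟶ j), IsAffineHom (D.map f)] [∀ j, IsAffine (D.obj j)]

include hc in
/-- The common setup: reduction of a ring property of the base change to the limit to a stage. -/
theorem exists_stage_of_colim {i : I} {X₀ : Scheme.{u}} [IsAffine X₀] (f₀ : X₀ ⟶ D.obj i)
    [LocallyOfFinitePresentation f₀] {X : Scheme.{u}} (q : X ⟶ X₀) (f : X ⟶ c.pt)
    (hsq : IsPullback q f f₀ (c.π.app i))
    (P : ∀ (R S : Type u) [CommRing R] [CommRing S] [Algebra R S], Prop)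
    (hP : ∀ (A₀ : Type u) [CommRing A₀] (ι : Type u) [Nonempty ι] (G : ι → Type u) [∀ j, CommRing (G j)]
      [∀ j, Algebra A₀ (G j)] (A : Type u) [CommRing A] [Algebra A₀ A] (g : ∀ j, G j →ₐ[A₀] A)
      (_ : EtSmColim.Directed g) (_ : ∀ a : A, ∃ j, ∃ x : G j, g j x = a)
      (_ : ∀ j (x : G j), g j x = 0 → ∃ l, ∃ a : EtSmColim.Step g j l, a.hom x = 0)
      (C₀ : Type u) [CommRing C₀] [Algebra A₀ C₀] [Algebra.FinitePresentation A₀ C₀],
      P A (A ⊗[A₀] C₀) → ∃ j, P (G j) (G j ⊗[A₀] C₀))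
    (hPe : ∀ (R S S' : Type u) [CommRing R] [CommRing S] [CommRing S'] [Algebra R S] [Algebra R S']
      (_ : S ≃ₐ[R] S'), P R S → P R S')
    (hf : @P Γ(c.pt, ⊤) Γ(X, ⊤) _ _ f.appTop.hom.toAlgebra) :
    ∃ (j : I) (φ : j ⟶ i),
      @P Γ(D.obj j, ⊤) Γ(pullback f₀ (D.map φ), ⊤) _ _ (pullback.snd f₀ (D.map φ)).appTop.hom.toAlgebra := by
  have := isAffine_pt D c hc i
  let _ := f₀.appTop.hom.toAlgebra
  have : Algebra.FinitePresentation Γ(D.obj i, ⊤) Γ(X₀, ⊤) :=
    (HasRingHomProperty.iff_of_isAffine (P := @LocallyOfFinitePresentation)).mp ‹_›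
  let _ : Algebra Γ(D.obj i, ⊤) Γ(c.pt, ⊤) := (c.π.app i).appTop.hom.toAlgebra
  let _ : ∀ l : Over i, Algebra Γ(D.obj i, ⊤) Γ(D.obj l.left, ⊤) := fun l => (D.map l.hom).appTop.hom.toAlgebra
  let g : ∀ l : Over i, Γ(D.obj l.left, ⊤) →ₐ[Γ(D.obj i, ⊤)] Γ(c.pt, ⊤) := fun l =>
    { toRingHom := (c.π.app l.left).appTop.hom
      commutes' := fun r => by
        change ((D.map l.hom).appTop ≫ (c.π.app l.left).appTop).hom r = (c.π.app i).appTop.hom r
        rw [← Scheme.Hom.comp_appTop]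
        exact congrArg (fun h => h.appTop.hom r) (c.w l.hom) }
  have step : ∀ {l m : Over i} (u : m ⟶ l), ∃ a : EtSmColim.Step (G := fun l : Over i => Γ(D.obj l.left, ⊤)) g l m, ∀ x, a.hom x = (D.map u.left).appTop.hom x :=
    fun {l m} u => ⟨⟨{ toRingHom := (D.map u.left).appTop.hom
                       commutes' := fun r => by
                        change ((D.map l.hom).appTop ≫ (D.map u.left).appTop).hom r = (D.map m.hom).appTop.hom r
                        rw [← Scheme.Hom.comp_appTop, ← D.map_comp, Over.w u] },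
      AlgHom.ext fun x => by
        change ((D.map u.left).appTop ≫ (c.π.app m.left).appTop).hom x = (c.π.app l.left).appTop.hom x
        rw [← Scheme.Hom.comp_appTop]
        exact congrArg (fun h => h.appTop.hom x) (c.w u.left)⟩, fun _ => rfl⟩
  have hd : EtSmColim.Directed (G := fun l : Over i => Γ(D.obj l.left, ⊤)) g := fun a b => by
    obtain ⟨m, u, v, -⟩ := IsCofilteredOrEmpty.cone_objs a b
    exact ⟨m, ⟨(step u).choose⟩, ⟨(step v).choose⟩⟩
  have haff : ∀ {a b : I} (e : a ⟶ b), IsAffineHom (D.map e) := fun e => inferInstance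
  have hsurj : ∀ a : Γ(c.pt, ⊤), ∃ l, ∃ x, g l x = a := by
    intro a
    obtain ⟨j, t, rfl⟩ := exists_appTop_π_eq_of_isLimit D c hc a
    let m := IsCofiltered.min i j
    refine ⟨Over.mk (IsCofiltered.minToLeft i j), (D.map (IsCofiltered.minToRight i j)).appTop t, ?_⟩
    change ((D.map (IsCofiltered.minToRight i j)).appTop ≫ (c.π.app (IsCofiltered.min i j)).appTop).hom t = _
    rw [← Scheme.Hom.comp_appTop]
    exact congrArg (fun h => h.appTop.hom t) (c.w _)
  have hker : ∀ l x, g l x = 0 → ∃ m, ∃ a : EtSmColim.Step (G := fun l : Over i => Γ(D.obj l.left, ⊤)) g l m, a.hom x = 0 := by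
    intro l x hx
    obtain ⟨j, v, hv⟩ := exists_appTop_map_eq_zero_of_isLimit D c hc (i := l.left) x hx
    obtain ⟨a, ha⟩ := step (Over.homMk v rfl : Over.mk (v ≫ l.hom) ⟶ l)
    exact ⟨Over.mk (v ≫ l.hom), a, (ha x).trans hv⟩
  have : Nonempty (Over i) := ⟨Over.mk (𝟙 i)⟩
  obtain ⟨e⟩ := exists_algEquiv_of_isPullback hsq
  obtain ⟨l, hl⟩ := hP Γ(D.obj i, ⊤) (Over i) (fun l => Γ(D.obj l.left, ⊤)) Γ(c.pt, ⊤) g hd hsurj hker Γ(X₀, ⊤)
    (letI := f.appTop.hom.toAlgebra; hPe _ _ _ e.symm hf)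
  obtain ⟨e'⟩ := exists_algEquiv_of_isPullback (IsPullback.of_hasPullback f₀ (D.map l.hom))
  let := (pullback.snd f₀ (D.map l.hom)).appTop.hom.toAlgebra
  exact ⟨l.left, l.hom, hPe _ _ _ e' hl⟩

omit [IsCofiltered I] in
/-- Descent over systems of affines may be checked on affine sources. -/
theorem descendsAff_of_affine (P : MorphismProperty Scheme.{u}) [IsZariskiLocalAtSource P]
    [P.IsStableUnderBaseChange]
    (core : ∀ {I : Type u} [SmallCategory I] [IsCofiltered I] (D : I ⥤ Scheme.{u}) (c : Cone D) (_ : IsLimit c)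
      [∀ (i j : I) (f : i ⟶ j), IsAffineHom (D.map f)] [∀ j, IsAffine (D.obj j)] (i : I)
      {X₀ : Scheme.{u}} [IsAffine X₀] (f₀ : X₀ ⟶ D.obj i) [LocallyOfFinitePresentation f₀]
      {X : Scheme.{u}} (q : X ⟶ X₀) (f : X ⟶ c.pt), IsPullback q f f₀ (c.π.app i) → P f →
      ∃ (j : I) (φ : j ⟶ i), P (pullback.snd f₀ (D.map φ))) :
    DescendsAff.{u} P @LocallyOfFinitePresentation := by
  intro I _ _ D c hc _ _ i X₀ f₀ _ _ hlfp X q f hsq hf
  have : LocallyOfFinitePresentation f₀ := hlfp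
  have : CompactSpace X₀ := QuasiCompact.compactSpace_of_compactSpace f₀
  obtain ⟨s, hsfin, hcov⟩ := isCompact_iff_finite_and_eq_biUnion_affineOpens (U := (⊤ : X₀.Opens)).mp
    isCompact_univ
  obtain ⟨k, φ, hk⟩ := exists_stage_forall (i := i) hsfin.toFinset
    (fun (U : X₀.affineOpens) j φ => P (pullback.snd (U.1.ι ≫ f₀) (D.map φ)))
    (fun U j k φ ψ h => of_isPullback_comp (IsPullback.of_hasPullback (U.1.ι ≫ f₀) (D.map φ)) (D.map ψ)
      (a' := pullback.fst _ _) (by rw [← D.map_comp]; exact IsPullback.of_hasPullback _ _) h)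
    (fun U _ => by
      have : IsAffine (U.1 : Scheme.{u}) := U.2
      exact core D c hc i (U.1.ι ≫ f₀) (q ∣_ U.1) ((q ⁻¹ᵁ U.1).ι ≫ f)
        ((isPullback_morphismRestrict q U.1).paste_vert hsq) (IsZariskiLocalAtSource.comp hf _))
  refine ⟨k, φ, (IsZariskiLocalAtSource.iff_of_iSup_eq_top (fun U : s => pullback.fst f₀ (D.map φ) ⁻¹ᵁ U.1.1) ?_).2
    fun U => ?_⟩
  · rw [← Scheme.Hom.preimage_iSup]
    have : (⨆ V : s, V.1.1) = ⊤ := by rw [hcov, iSup_subtype']
    rw [this]; rfl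
  · have h := (isPullback_morphismRestrict (pullback.fst f₀ (D.map φ)) U.1.1).paste_vert
      (IsPullback.of_hasPullback f₀ (D.map φ))
    rw [← h.isoPullback_hom_snd]
    exact (MorphismProperty.cancel_left_of_respectsIso P _ _).2 (hk U.1 (hsfin.mem_toFinset.2 U.2))

omit [IsCofiltered I] in
/-- Smoothness descends. -/
theorem descendsAff_smooth : DescendsAff.{u} @Smooth @LocallyOfFinitePresentation :=
  descendsAff_of_affine @Smooth fun {I} _ _ D c hc _ _ i X₀ _ f₀ _ X q f hsq hf => by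
    have := isAffine_pt D c hc i
    have : IsAffine X := IsAffine.of_isPullback hsq
    obtain ⟨j, φ, hj⟩ := exists_stage_of_colim D c hc f₀ q f hsq (fun R S _ _ _ => Algebra.FormallySmooth R S)
      (fun A₀ _ ι _ G _ _ A _ _ g hd hs hk C₀ _ _ _ h => by
        obtain ⟨j, hj⟩ := EtSmColim.exists_formallySmooth hd hs hk A₀ C₀ ((formallySmooth_lid_iff A₀ A C₀).1 h)
        exact ⟨j, (formallySmooth_lid_iff A₀ (G j) C₀).2 (hj j (EtSmColim.Step.refl j))⟩)
      (fun R S S' _ _ _ _ _ e h => Algebra.FormallySmooth.of_equiv e)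
      (letI := f.appTop.hom.toAlgebra
       ((HasRingHomProperty.iff_of_isAffine (P := @Smooth)).1 hf : Algebra.Smooth _ _).formallySmooth)
    refine ⟨j, φ, (HasRingHomProperty.iff_of_isAffine (P := @Smooth)).2 ?_⟩
    letI := (pullback.snd f₀ (D.map φ)).appTop.hom.toAlgebra
    exact (⟨hj, (HasRingHomProperty.iff_of_isAffine (P := @LocallyOfFinitePresentation)).1 inferInstance⟩ :
      Algebra.Smooth _ _)

omit [IsCofiltered I] in
/-- Unramifiedness descends. -/
theorem descendsAff_formallyUnramified : DescendsAff.{u} @FormallyUnramified @LocallyOfFinitePresentation :=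
  descendsAff_of_affine @FormallyUnramified fun {I} _ _ D c hc _ _ i X₀ _ f₀ _ X q f hsq hf => by
    have := isAffine_pt D c hc i
    have : IsAffine X := IsAffine.of_isPullback hsq
    obtain ⟨j, φ, hj⟩ := exists_stage_of_colim D c hc f₀ q f hsq (fun R S _ _ _ => Algebra.FormallyUnramified R S)
      (fun A₀ _ ι _ G _ _ A _ _ g hd hs hk C₀ _ _ _ h => by
        have : Algebra.FinitePresentation A₀ C₀ := inferInstance
        obtain ⟨i₁⟩ := ‹Nonempty ι›
        obtain ⟨j, -, hj⟩ := EtSmColim.exists_formallyUnramified hd hs hk A₀ C₀ i₁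
          ((formallyUnramified_lid_iff A₀ A C₀).1 h)
        exact ⟨j, (formallyUnramified_lid_iff A₀ (G j) C₀).2 hj⟩)
      (fun R S S' _ _ _ _ _ e h => Algebra.FormallyUnramified.of_equiv e)
      ((HasRingHomProperty.iff_of_isAffine (P := @FormallyUnramified)).1 hf)
    exact ⟨j, φ, (HasRingHomProperty.iff_of_isAffine (P := @FormallyUnramified)).2 hj⟩

omit [IsCofiltered I] in
/-- Etaleness descends. -/
theorem descendsAff_etale : DescendsAff.{u} @Etale @LocallyOfFinitePresentation := by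
  intro I _ _ D c hc _ _ i X₀ f₀ _ _ hlfp X q f hsq hf
  obtain ⟨j₁, φ₁, h₁⟩ := descendsAff_smooth D c hc i f₀ hlfp q f hsq (inferInstance : Smooth f)
  obtain ⟨j₂, φ₂, h₂⟩ := descendsAff_formallyUnramified D c hc i f₀ hlfp q f hsq (inferInstance : FormallyUnramified f)
  obtain ⟨k, ψ₁, ψ₂, e⟩ := IsCofiltered.cospan φ₁ φ₂
  have : Smooth (pullback.snd f₀ (D.map (ψ₁ ≫ φ₁))) :=
    of_isPullback_comp (P := @Smooth) (IsPullback.of_hasPullback f₀ (D.map φ₁)) (D.map ψ₁)
      (a' := pullback.fst _ _) (by rw [← D.map_comp]; exact IsPullback.of_hasPullback _ _) h₁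
  have : FormallyUnramified (pullback.snd f₀ (D.map (ψ₁ ≫ φ₁))) := by
    rw [e]
    exact of_isPullback_comp (P := @FormallyUnramified) (IsPullback.of_hasPullback f₀ (D.map φ₂)) (D.map ψ₂)
      (a' := pullback.fst _ _) (by rw [← D.map_comp]; exact IsPullback.of_hasPullback _ _) h₂
  exact ⟨k, ψ₁ ≫ φ₁, Etale.iff_flat_and_formallyUnramified.2 ⟨inferInstance, inferInstance, inferInstance⟩⟩

end Groth.Agent.LimSch
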