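import Groth.Agent.LimSch.Topology
import Mathlib.AlgebraicGeometry.AffineSpace
import Mathlib.AlgebraicGeometry.Morphisms.Immersion
import Mathlib.RingTheory.Adjoin.FG

/-!
Open maps and cofiltered limits; universal openness can be tested on affine spaces.
-/

set_option autoImplicit false
set_option backward.isDefEq.respectTransparency false

universe u

open CategoryTheory Limits AlgebraicGeometry

namespace Groth.Agent.LimSch

lemma image_preimage_of_isPullback {P X Y S : Scheme.{u}} {g' : P ⟶ X} {f' : P ⟶ Y} {f : X ⟶ S}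
    {g : Y ⟶ S} (h : IsPullback g' f' f g) (W : Set X) :
    ⇑f' '' (⇑g' ⁻¹' W) = ⇑g ⁻¹' (⇑f '' W) := by
  ext y
  constructor
  · rintro ⟨p, hp, rfl⟩
    exact ⟨g' p, hp, by rw [← Scheme.Hom.comp_apply, ← Scheme.Hom.comp_apply, h.w]⟩
  · rintro ⟨x, hx, hxy⟩
    obtain ⟨p, hp₁, hp₂⟩ := Scheme.exists_preimage_of_isPullback h x y hxy
    exact ⟨p, show g' p ∈ W from hp₁ ▸ hx, hp₂⟩

/-- Open maps stay open after base change along a morphism inducing the topology. -/
lemma isOpenMap_of_isPullback_of_isInducing {P X Y S : Scheme.{u}} {g' : P ⟶ X} {f' : P ⟶ Y}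
    {f : X ⟶ S} {g : Y ⟶ S} (h : IsPullback g' f' f g) (hf : IsOpenMap ⇑f)
    (hg' : Topology.IsInducing ⇑g') : IsOpenMap ⇑f' := by
  intro U hU
  obtain ⟨W, hW, rfl⟩ := hg'.isOpen_iff.mp hU
  rw [image_preimage_of_isPullback h W]
  exact (hf W hW).preimage g.continuous

variable {I : Type u} [SmallCategory I] [IsCofiltered I]

/-- A morphism from a limit which is at cofinally many stages a base change of an open map is
open. -/
lemma isOpenMap_of_stages {D : I ⥤ Scheme.{u}} {c : Cone D}
    [∀ (i j : I) (f : i ⟶ j), IsAffineHom (D.map f)] (hc : IsLimit c) (i₀ : I) {Y : Scheme.{u}}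
    (f : c.pt ⟶ Y)
    (h : ∀ (j : I) (_ : j ⟶ i₀), ∃ (Yj : Scheme.{u}) (fj : D.obj j ⟶ Yj) (q : Y ⟶ Yj),
      IsPullback (c.π.app j) f fj q ∧ IsOpenMap ⇑fj) : IsOpenMap ⇑f := by
  intro U hU
  rw [isOpen_iff_forall_mem_open]
  rintro _ ⟨x, hxU, rfl⟩
  obtain ⟨j, φ, V, -, hxV, hVU⟩ := exists_preimage_subset hc i₀ hU hxU
  obtain ⟨Yj, fj, q, hsq, hopen⟩ := h j φ
  refine ⟨⇑q ⁻¹' (⇑fj '' V), ?_, (hopen _ V.2).preimage q.continuous,
    ⟨c.π.app j x, hxV, by rw [← Scheme.Hom.comp_apply, ← Scheme.Hom.comp_apply, hsq.w]; rfl⟩⟩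
  rw [← image_preimage_of_isPullback hsq]
  exact Set.image_mono hVU

section Subalgebras

variable {ι : Type u} [Preorder ι] [IsDirected ι (· ≤ ·)] [Nonempty ι] {A B : Type u} [CommRing A]
  [CommRing B] [Algebra A B] (S : ι → Subalgebra A B) (hS : Monotone S)

/-- The diagram of the spectra of a monotone family of subalgebras. -/
noncomputable def subalgDiag : ιᵒᵖ ⥤ Scheme.{u} :=
  ({ obj := fun i => CommRingCat.of (S i)
     map := fun f => CommRingCat.ofHom (Subalgebra.inclusion (hS f.le)).toRingHom } :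
    ι ⥤ CommRingCat.{u}).op ⋙ Scheme.Spec

/-- The cone over `subalgDiag` with point `Spec B`. -/
noncomputable def subalgCone : Cone (subalgDiag S hS) where
  pt := Spec (CommRingCat.of B)
  π :=
  { app := fun i => Spec.map (CommRingCat.ofHom (S i.unop).val.toRingHom)
    naturality := fun i j f => by
      simp only [subalgDiag, Functor.const_obj_obj, Functor.const_obj_map, Category.id_comp,
        Functor.comp_map, Functor.op_map, Scheme.Spec_map, Quiver.Hom.unop_op, ← Spec.map_comp]
      rfl }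

/-- `Spec B` is the limit of the spectra of a monotone exhausting family of subalgebras. -/
noncomputable def isLimitSubalgCone (hcov : ∀ b : B, ∃ i, b ∈ S i) :
    IsLimit (subalgCone S hS) := by
  let F : ι ⥤ CommRingCat.{u} :=
    { obj := fun i => CommRingCat.of (S i)
      map := fun f => CommRingCat.ofHom (Subalgebra.inclusion (hS f.le)).toRingHom }
  let cc : Cocone F :=
  { pt := CommRingCat.of B
    ι := { app := fun i => CommRingCat.ofHom (S i).val.toRingHom } }
  have hcol : IsColimit cc := by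
    have : ReflectsColimit F (forget CommRingCat.{u}) := reflectsColimit_of_reflectsIsomorphisms F _
    refine isColimitOfReflects (forget CommRingCat.{u}) (Types.FilteredColimit.isColimitOf _ _
      (fun b => ?_) fun i j xi xj h => ?_)
    · obtain ⟨i, hi⟩ := hcov b
      exact ⟨i, ⟨b, hi⟩, rfl⟩
    · obtain ⟨k, hik, hjk⟩ := exists_ge_ge i j
      exact ⟨k, homOfLE hik, homOfLE hjk, Subtype.ext h⟩
  have hlim := isLimitOfPreserves Scheme.Spec hcol.op
  exact IsLimit.ofIsoLimit hlim (Cone.ext (Iso.refl _) (fun j => (Category.id_comp _).symm))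

lemma isAffineHom_subalgDiag (i j : ιᵒᵖ) (f : i ⟶ j) : IsAffineHom ((subalgDiag S hS).map f) := by
  have : IsAffine ((subalgDiag S hS).obj i) := by dsimp [subalgDiag]; infer_instance
  have : IsAffine ((subalgDiag S hS).obj j) := by dsimp [subalgDiag]; infer_instance
  infer_instance

end Subalgebras

/-- A morphism which is open after base change to all affine spaces over the target is
universally open. -/
lemma universallyOpen_of_affineSpace {X Y : Scheme.{u}} (f : X ⟶ Y)
    (h : ∀ n : ℕ, 0 < n →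
      IsOpenMap ⇑(pullback.snd f (AffineSpace (ULift.{u} (Fin n)) Y ↘ Y))) :
    UniversallyOpen f := by
  -- reduce to base change along an affine scheme mapping into an affine open
  suffices key : ∀ (A B : CommRingCat.{u}) (o : Spec A ⟶ Y) [IsOpenImmersion o] (φ : A ⟶ B),
      IsOpenMap ⇑(pullback.snd f (Spec.map φ ≫ o)) by
    refine ⟨fun X' T q g f' sq => ?_⟩
    intro U hU
    rw [isOpen_iff_forall_mem_open]
    rintro _ ⟨x, hxU, rfl⟩
    obtain ⟨_, ⟨V, hV, rfl⟩, hV', -⟩ :=
      Y.isBasis_affineOpens.exists_subset_of_mem_open (Set.mem_univ (g (f' x))) isOpen_univ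
    obtain ⟨_, ⟨W, hW, rfl⟩, hxW, hWV⟩ :=
      T.isBasis_affineOpens.exists_subset_of_mem_open (show f' x ∈ g ⁻¹ᵁ V from hV') (g ⁻¹ᵁ V).2
    let φ : Γ(Y, V) ⟶ Γ(T, W) := g.appLE V W hWV
    have hφ : Spec.map φ ≫ hV.fromSpec = hW.fromSpec ≫ g := (hV.SpecMap_appLE_fromSpec _ hW hWV)
    have hopen := key _ _ hV.fromSpec φ
    let P := pullback f (Spec.map φ ≫ hV.fromSpec)
    let e : P ⟶ X' := sq.lift (pullback.snd _ _ ≫ hW.fromSpec) (pullback.fst _ _) (by
      rw [Category.assoc, ← hφ, pullback.condition])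
    have hP : IsPullback e (pullback.snd _ _) f' hW.fromSpec := by
      refine IsPullback.of_right (h₁₂ := q) (h₂₂ := g) (v₁₃ := f) ?_ (sq.lift_fst _ _ _) sq.flip
      rw [← hφ, sq.lift_snd]
      exact IsPullback.of_hasPullback _ _
    have hfW : x ∈ Set.range e := by
      obtain ⟨w, hw⟩ := hW.range_fromSpec.ge hxW
      obtain ⟨p, hp, -⟩ := Scheme.exists_preimage_of_isPullback hP x w hw.symm
      exact ⟨p, hp⟩
    obtain ⟨p, hp⟩ := hfW
    refine ⟨⇑hW.fromSpec '' (⇑(pullback.snd f (Spec.map φ ≫ hV.fromSpec)) '' (⇑e ⁻¹' U)), ?_,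
      hW.fromSpec.isOpenEmbedding.isOpenMap _ (hopen _ (hU.preimage e.continuous)), ?_⟩
    · rintro _ ⟨_, ⟨z, hz, rfl⟩, rfl⟩
      exact ⟨e z, hz, by rw [← Scheme.Hom.comp_apply, ← Scheme.Hom.comp_apply, hP.w]⟩
    · refine ⟨_, ⟨p, show e p ∈ U from hp ▸ hxU, rfl⟩, ?_⟩
      rw [← hp, ← Scheme.Hom.comp_apply, ← Scheme.Hom.comp_apply, hP.w]
  intro A B o _ φ
  algebraize [φ.hom]
  let S : Finset B → Subalgebra A B := fun s => Algebra.adjoin A (s : Set B)
  have hS : Monotone S := fun s t hst => Algebra.adjoin_mono hst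
  have hcov : ∀ b : B, ∃ s, b ∈ S s := fun b => ⟨{b}, Algebra.subset_adjoin (by simp)⟩
  let C := subalgCone S hS
  have hC : IsLimit C := isLimitSubalgCone S hS hcov
  have := isAffineHom_subalgDiag S hS
  let str (s : (Finset B)ᵒᵖ) : (subalgDiag S hS).obj s ⟶ Y :=
    Spec.map (CommRingCat.ofHom (algebraMap A (S s.unop))) ≫ o
  have hstr (s : (Finset B)ᵒᵖ) : C.π.app s ≫ str s = Spec.map φ ≫ o := by
    change Spec.map (CommRingCat.ofHom (S s.unop).val.toRingHom) ≫
      Spec.map (CommRingCat.ofHom (algebraMap A (S s.unop))) ≫ o = _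
    rw [← Spec.map_comp_assoc]
    rfl
  have hstage (s : (Finset B)ᵒᵖ) : IsOpenMap ⇑(pullback.snd f (str s)) := by
    classical
    let n := s.unop.card + 1
    let v : ULift.{u} (Fin n) → S s.unop := fun k =>
      if hk : k.down.1 < s.unop.card then
        ⟨(s.unop.equivFin.symm ⟨k.down.1, hk⟩).1,
          Algebra.subset_adjoin (s.unop.equivFin.symm ⟨k.down.1, hk⟩).2⟩
      else 0
    let α : MvPolynomial (ULift.{u} (Fin n)) A →ₐ[A] S s.unop := MvPolynomial.aeval v
    have hα : Function.Surjective α := by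
      have : (⊤ : Subalgebra A B) ⊓ S s.unop ≤ α.range.map (S s.unop).val := by
        rw [top_inf_eq]
        refine Algebra.adjoin_le fun b hb => ?_
        refine ⟨v ⟨⟨(s.unop.equivFin ⟨b, hb⟩).1, by omega⟩⟩, ⟨MvPolynomial.X _, MvPolynomial.aeval_X _ _⟩, ?_⟩
        simp [v]
      intro x
      obtain ⟨y, ⟨z, hz⟩, hyx⟩ := this ⟨trivial, x.2⟩
      exact ⟨z, hz.trans (Subtype.ext hyx)⟩
    let cl : (subalgDiag S hS).obj s ⟶ 𝔸(ULift.{u} (Fin n); Spec A) :=
      Spec.map (CommRingCat.ofHom α.toRingHom) ≫ (AffineSpace.SpecIso _ A).inv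
    have : IsClosedImmersion (Spec.map (CommRingCat.ofHom α.toRingHom)) :=
      IsClosedImmersion.spec_of_surjective _ hα
    let t := cl ≫ AffineSpace.map _ o
    have ho : IsOpenImmersion (AffineSpace.map (ULift.{u} (Fin n)) o) :=
      MorphismProperty.of_isPullback (P := @IsOpenImmersion) (AffineSpace.isPullback_map o).flip
        inferInstance
    have : IsImmersion t := by
      have : IsClosedImmersion cl := inferInstance
      have : IsImmersion cl := inferInstance
      exact inferInstance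
    have ht : t ≫ (𝔸(ULift.{u} (Fin n); Y) ↘ Y) = str s := by
      simp only [t, cl, str, Category.assoc, AffineSpace.map_over, AffineSpace.SpecIso_inv_over_assoc]
      rw [← Spec.map_comp_assoc]
      congr 2
      ext a
      exact α.commutes a
    let F' := pullback.snd f (𝔸(ULift.{u} (Fin n); Y) ↘ Y)
    let e : pullback f (str s) ⟶ pullback f (𝔸(ULift.{u} (Fin n); Y) ↘ Y) :=
      pullback.lift (pullback.fst _ _) (pullback.snd _ _ ≫ t)
        (by rw [Category.assoc, ht, pullback.condition])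
    have hsq : IsPullback e (pullback.snd f (str s)) F' t := by
      refine IsPullback.of_right (h₁₂ := pullback.fst _ _) (h₂₂ := (𝔸(ULift.{u} (Fin n); Y) ↘ Y))
        (v₁₃ := f) ?_ (pullback.lift_snd _ _ _) (IsPullback.of_hasPullback _ _)
      rw [pullback.lift_fst, ht]
      exact IsPullback.of_hasPullback _ _
    have : IsImmersion e := MorphismProperty.of_isPullback (P := @IsImmersion) hsq.flip inferInstance
    exact isOpenMap_of_isPullback_of_isInducing hsq (h n (by omega)) e.isEmbedding.isInducing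
  let i₀ : (Finset B)ᵒᵖ := Opposite.op ∅
  let g := pullback.snd f (str i₀)
  let p : pullback f (Spec.map φ ≫ o) ⟶ pullback f (str i₀) :=
    pullback.lift (pullback.fst _ _) (pullback.snd _ _ ≫ C.π.app i₀)
      (by rw [Category.assoc, hstr, pullback.condition])
  have hp : IsPullback (pullback.snd f (Spec.map φ ≫ o)) p (C.π.app i₀) g := by
    refine IsPullback.flip ?_
    refine IsPullback.of_right (h₁₂ := pullback.fst f (str i₀)) (h₂₂ := str i₀) (v₁₃ := f) ?_
      (pullback.lift_snd _ _ _) (IsPullback.of_hasPullback _ _)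
    rw [pullback.lift_fst, hstr]
    exact IsPullback.of_hasPullback _ _
  let L := bcCone (subalgDiag S hS) C i₀ g _ _ hp
  have hL : IsLimit L := isLimitBcCone (subalgDiag S hS) C i₀ g hC _ _ hp
  refine isOpenMap_of_stages hL (Over.mk (𝟙 i₀)) (pullback.snd f (Spec.map φ ≫ o)) fun j _ => ?_
  refine ⟨_, pullback.fst ((subalgDiag S hS).map j.hom) g, C.π.app j.left, ?_, ?_⟩
  · refine IsPullback.of_right (h₁₂ := pullback.snd _ g) (h₂₂ := (subalgDiag S hS).map j.hom)
      (v₁₃ := g) ?_ (pullback.lift_fst _ _ _) (IsPullback.of_hasPullback _ _).flip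
    change IsPullback (pullback.lift _ p _ ≫ pullback.snd _ _) _ g _
    rw [pullback.lift_snd, C.w j.hom]
    exact hp.flip
  · have hj : (subalgDiag S hS).map j.hom ≫ str i₀ = str j.left := by
      change Spec.map _ ≫ Spec.map (CommRingCat.ofHom (algebraMap A (S i₀.unop))) ≫ o = _
      rw [← Spec.map_comp_assoc]
      rfl
    have hbig : IsPullback (pullback.snd ((subalgDiag S hS).map j.hom) g ≫ pullback.fst f (str i₀))
        (pullback.fst ((subalgDiag S hS).map j.hom) g) f (str j.left) := by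
      rw [← hj]
      exact (IsPullback.of_hasPullback _ g).flip.paste_horiz (IsPullback.of_hasPullback f (str i₀))
    intro U hU
    have : ⇑(pullback.fst ((subalgDiag S hS).map j.hom) g) '' U =
        ⇑(pullback.snd f (str j.left)) '' (⇑hbig.isoPullback.hom '' U) := by
      rw [← Set.image_comp]
      refine Set.image_congr' fun x => ?_
      rw [Function.comp_apply, ← Scheme.Hom.comp_apply, hbig.isoPullback_hom_snd]
    refine (congrArg IsOpen this).mpr ?_
    exact hstage _ _ (hbig.isoPullback.hom.isOpenEmbedding.isOpenMap _ hU)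

end Groth.Agent.LimSch
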