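import Groth.Agent.LimSch.CurveTestAlg2
import Groth.Agent.LimSch.ClosureRange
import Groth.Agent.LimSch.Constructible
import Groth.Agent.NoethPts.Basic
import Groth.Agent.ConstrSets.Basic
import Mathlib.AlgebraicGeometry.Morphisms.FinitePresentation
import Mathlib.AlgebraicGeometry.IdealSheaf.Subscheme

/-!
Test curves over Nagata schemes: a quasi-compact morphism of schemes of finite type over a Nagata scheme which lifts
test curves is closed.
-/

set_option autoImplicit false
set_option backward.isDefEq.respectTransparency false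

universe u

open CategoryTheory Limits AlgebraicGeometry TopologicalSpace

namespace Groth.Agent.LimSch.CurveTest

/-- Finiteness of the residue field of a point closed in its fibre. -/
lemma exists_finite_residueField {R T : Type u} [CommRing R] [CommRing T] [Algebra R T] [IsNoetherianRing T]
    [Algebra.FiniteType R T] (p : Ideal R) (Q₀ : Ideal T) [Q₀.IsPrime] (hQ₀ : Q₀.comap (algebraMap R T) = p) :
    ∃ (L : Type u) (_ : Field L) (_ : Algebra R L) (_ : Algebra T L), IsScalarTower R T L ∧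
      (∀ z : L, ∃ a b : T, algebraMap T L b ≠ 0 ∧ z * algebraMap T L b = algebraMap T L a) ∧
      RingHom.ker (algebraMap R L) = p ∧
      Module.Finite (Subfield.closure (Set.range (algebraMap R L))) L := by
  classical
  obtain ⟨Q, ⟨hQ, hQp⟩, hmax⟩ := set_has_maximal_iff_noetherian.mpr inferInstance
    {Q : Ideal T | Q.IsPrime ∧ Q.comap (algebraMap R T) = p} ⟨Q₀, ‹_›, hQ₀⟩
  let L := FractionRing (T ⧸ Q)
  have hker : RingHom.ker (algebraMap R L) = p := by
    rw [← hQp]
    ext r
    rw [RingHom.mem_ker, IsScalarTower.algebraMap_apply R (T ⧸ Q) L,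
      map_eq_zero_iff _ (IsFractionRing.injective (T ⧸ Q) L), IsScalarTower.algebraMap_apply R T (T ⧸ Q)]
    exact Ideal.Quotient.eq_zero_iff_mem
  refine ⟨L, inferInstance, inferInstance, inferInstance, inferInstance, fun z => ?_, hker, ?_⟩
  · obtain ⟨a, b, hb, rfl⟩ := IsFractionRing.div_surjective (A := T ⧸ Q) z
    obtain ⟨a, rfl⟩ := Ideal.Quotient.mk_surjective a
    obtain ⟨b, rfl⟩ := Ideal.Quotient.mk_surjective b
    have hb' := IsFractionRing.to_map_ne_zero_of_mem_nonZeroDivisors (K := L) hb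
    exact ⟨a, b, hb', div_mul_cancel₀ _ hb'⟩
  let F := Subfield.closure (Set.range (algebraMap R L))
  have hF : ∀ x : F, ∃ a b : R, algebraMap R L b ≠ 0 ∧ (x : L) * algebraMap R L b = algebraMap R L a := by
    rintro ⟨x, hx⟩
    obtain ⟨a, ha, b, hb, rfl⟩ := Subfield.mem_closure_iff.mp hx
    rw [← RingHom.coe_range, Subring.closure_eq] at ha hb
    obtain ⟨a, rfl⟩ := ha
    obtain ⟨b, rfl⟩ := hb
    by_cases h : algebraMap R L b = 0
    · exact ⟨0, 1, by simp, by simp [h]⟩
    · exact ⟨a, b, h, div_mul_cancel₀ _ h⟩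
  obtain ⟨G, hG⟩ := (‹Algebra.FiniteType R T›).out
  let S : Subalgebra F L := Algebra.adjoin F (algebraMap T L '' (G : Set T))
  have : Algebra.FiniteType F S := (Subalgebra.fg_iff_finiteType S).mp
    (Subalgebra.fg_def.mpr ⟨_, G.finite_toSet.image _, rfl⟩)
  have hTS : ∀ t : T, algebraMap T L t ∈ S := fun t => by
    have ht : t ∈ Algebra.adjoin R (G : Set T) := hG ▸ Algebra.mem_top
    induction ht using Algebra.adjoin_induction with
    | mem z hz => exact Algebra.subset_adjoin ⟨z, hz, rfl⟩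
    | algebraMap a =>
      rw [← IsScalarTower.algebraMap_apply]
      exact S.algebraMap_mem ⟨algebraMap R L a, Subfield.subset_closure ⟨a, rfl⟩⟩
    | add z w _ _ hz hw => rw [map_add]; exact add_mem hz hw
    | mul z w _ _ hz hw => rw [map_mul]; exact mul_mem hz hw
  have hclear : ∀ s ∈ S, ∃ b : R, algebraMap R L b ≠ 0 ∧ ∃ t : T, s * algebraMap R L b = algebraMap T L t := by
    intro s hs
    induction hs using Algebra.adjoin_induction with
    | mem z hz =>
      obtain ⟨g, -, rfl⟩ := hz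
      exact ⟨1, by simp, g, by simp⟩
    | algebraMap x =>
      obtain ⟨a, b, hb, hab⟩ := hF x
      exact ⟨b, hb, algebraMap R T a, hab.trans (IsScalarTower.algebraMap_apply R T L a)⟩
    | add z w _ _ hz hw =>
      obtain ⟨b, hb, t, ht⟩ := hz
      obtain ⟨b', hb', t', ht'⟩ := hw
      refine ⟨b * b', by rw [map_mul]; exact mul_ne_zero hb hb', t * algebraMap R T b' + t' * algebraMap R T b, ?_⟩
      simp only [map_mul, map_add, ← IsScalarTower.algebraMap_apply, ← ht, ← ht']; ring
    | mul z w _ _ hz hw =>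
      obtain ⟨b, hb, t, ht⟩ := hz
      obtain ⟨b', hb', t', ht'⟩ := hw
      refine ⟨b * b', by rw [map_mul]; exact mul_ne_zero hb hb', t * t', ?_⟩
      simp only [map_mul, ← ht, ← ht']; ring
  have hfield : IsField S := by
    by_contra hnf
    obtain ⟨M, hM0, hM⟩ := Ring.not_isField_iff_exists_prime.mp hnf
    let ψ : T →+* S := (algebraMap T L).codRestrict S.toSubring hTS
    have hQle : Q ≤ M.comap ψ := fun t ht => by
      have : ψ t = 0 := Subtype.ext (by
        show algebraMap T L t = 0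
        rw [IsScalarTower.algebraMap_apply T (T ⧸ Q) L, show algebraMap T (T ⧸ Q) t = 0 from
          Ideal.Quotient.eq_zero_iff_mem.mpr ht, map_zero])
      show ψ t ∈ M
      rw [this]; exact M.zero_mem
    have hmem : (M.comap ψ).IsPrime ∧ (M.comap ψ).comap (algebraMap R T) = p := by
      refine ⟨hM.comap _, le_antisymm (fun r hr => ?_) (hQp ▸ Ideal.comap_mono hQle)⟩
      by_contra hrp
      refine hM.ne_top (Ideal.eq_top_of_isUnit_mem _ hr ?_)
      have hne : algebraMap R L r ≠ 0 := fun e => hrp (hker ▸ (RingHom.mem_ker.mpr e))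
      let x : F := ⟨algebraMap R L r, Subfield.subset_closure ⟨r, rfl⟩⟩
      have hx : x ≠ 0 := fun e => hne (congrArg Subtype.val e)
      have : ψ (algebraMap R T r) = algebraMap F S x :=
        Subtype.ext (IsScalarTower.algebraMap_apply R T L r).symm
      rw [this]
      exact (IsUnit.mk0 x hx).map _
    have hQeq : Q = M.comap ψ := eq_of_le_of_not_lt hQle fun h => hmax _ hmem h
    refine hM0 (le_bot_iff.mp fun s hs => Ideal.mem_bot.mpr ?_)
    obtain ⟨b, hb, t, ht⟩ := hclear s.1 s.2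
    have ht' : ψ t = s * ψ (algebraMap R T b) :=
      Subtype.ext (ht.symm.trans (congrArg (s.1 * ·) (IsScalarTower.algebraMap_apply R T L b)))
    have htQ : t ∈ Q := hQeq ▸ (show ψ t ∈ M from ht' ▸ M.mul_mem_right _ hs)
    have ht0 : algebraMap T L t = 0 := by
      rw [IsScalarTower.algebraMap_apply T (T ⧸ Q) L, show algebraMap T (T ⧸ Q) t = 0 from
        Ideal.Quotient.eq_zero_iff_mem.mpr htQ, map_zero]
    exact Subtype.ext ((mul_eq_zero.mp (ht.trans ht0)).resolve_right hb)
  let _ : Field S := hfield.toField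
  have : Module.Finite F S := finite_of_finite_type_of_isJacobsonRing F S
  refine Module.Finite.of_surjective S.val.toLinearMap fun z => ?_
  obtain ⟨a, b, hb, rfl⟩ := IsFractionRing.div_surjective (A := T ⧸ Q) z
  obtain ⟨a, rfl⟩ := Ideal.Quotient.mk_surjective a
  obtain ⟨b, rfl⟩ := Ideal.Quotient.mk_surjective b
  have hb' : (⟨_, hTS b⟩ : S) ≠ 0 := fun e =>
    IsFractionRing.to_map_ne_zero_of_mem_nonZeroDivisors (K := L) hb (congrArg Subtype.val e)
  obtain ⟨v, hv⟩ := hfield.mul_inv_cancel hb'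
  refine ⟨⟨_, hTS a⟩ * v, ?_⟩
  have h1 : algebraMap T L b * (v : L) = 1 := congrArg Subtype.val hv
  show algebraMap T L a * (v : L) = algebraMap T L a / algebraMap T L b
  rw [eq_div_iff (left_ne_zero_of_mul_eq_one h1), mul_assoc, mul_comm (v : L), h1, mul_one]

/-- Constructible sets of a Noetherian spectrum: one step specializations from a constructible set to a
locally closed point outside. -/
lemma exists_one_step {R : Type u} [CommRing R] [IsNoetherianRing R] {E : Set (PrimeSpectrum R)}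
    (hE : Topology.IsConstructible E) (hspec : ∀ y ∈ closure E, ∃ z ∈ E, z ⤳ y) (hne : ¬ closure E ⊆ E) :
    ∃ z y : PrimeSpectrum R, z ∈ E ∧ y ∉ E ∧ z.asIdeal < y.asIdeal ∧
      (∃ h ∉ y.asIdeal, ∀ P : Ideal R, P.IsPrime → y.asIdeal ≤ P → h ∉ P → P = y.asIdeal) ∧
      (∀ P : Ideal R, P.IsPrime → z.asIdeal ≤ P → P ≤ y.asIdeal → P = z.asIdeal ∨ P = y.asIdeal) := by
  have hK : Topology.IsConstructible (closure E \ E) :=
    (ConstrSets.isConstructible_of_isClosed isClosed_closure).sdiff hE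
  obtain ⟨n, Zs, hZs, hKeq⟩ := ConstrSets.exists_fin_union hK
  obtain ⟨y₀, hy₀⟩ : (closure E \ E).Nonempty := Set.not_subset.mp hne
  rw [hKeq] at hy₀
  obtain ⟨i, hi⟩ := Set.mem_iUnion.mp hy₀
  obtain ⟨y, hy, hyl⟩ := NoethPts.exists_isLocallyClosed_singleton (X := Spec (CommRingCat.of R)) (hZs i) ⟨y₀, hi⟩
  obtain ⟨hyE, hyE'⟩ : y ∈ closure E \ E := hKeq ▸ Set.mem_iUnion.mpr ⟨i, hy⟩
  obtain ⟨h, hh, hhy⟩ := NoethPts.exists_notMem_of_isLocallyClosed hyl
  obtain ⟨z₀, hz₀, hz₀y⟩ := hspec y hyE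
  obtain ⟨zI, ⟨z, hzE, hzy, rfl⟩, hmax⟩ := set_has_maximal_iff_noetherian.mpr inferInstance
    {I : Ideal R | ∃ z ∈ E, z.asIdeal ≤ y.asIdeal ∧ z.asIdeal = I}
    ⟨z₀.asIdeal, z₀, hz₀, (PrimeSpectrum.le_iff_specializes z₀ y).mpr hz₀y, rfl⟩
  have hlt : z.asIdeal < y.asIdeal := lt_of_le_of_ne hzy fun e => hyE' (PrimeSpectrum.ext e ▸ hzE)
  refine ⟨z, y, hzE, hyE', hlt, ⟨h, hh, fun P hP hle hhP =>
    congrArg PrimeSpectrum.asIdeal (hhy ⟨P, hP⟩ hle hhP)⟩, ?_⟩
  obtain ⟨U, hUo, hUne, hUE⟩ := ConstrSets.exists_open_of_dense' hE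
    (isIrreducible_singleton (x := z)).closure
    (closure_mono (Set.singleton_subset_iff.mpr ⟨hzE, subset_closure rfl⟩))
  have hzU : z ∈ U := ConstrSets.mem_of_isGenericPoint isGenericPoint_closure hUo hUne
  obtain ⟨_, ⟨a, rfl⟩, hza, haU⟩ :=
    PrimeSpectrum.isTopologicalBasis_basic_opens.exists_subset_of_mem_open hzU hUo
  -- primes strictly between contain `a`
  have hbad : ∀ P : Ideal R, P.IsPrime → z.asIdeal ≤ P → P ≤ y.asIdeal → a ∉ P → P = z.asIdeal := by
    intro P hP hzP hPy ha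
    have hPE : (⟨P, hP⟩ : PrimeSpectrum R) ∈ E :=
      hUE ⟨haU ha, specializes_iff_mem_closure.mp ((PrimeSpectrum.le_iff_specializes z ⟨P, hP⟩).mp hzP)⟩
    exact (eq_of_le_of_not_lt hzP fun h' => hmax P ⟨_, hPE, hPy, rfl⟩ h').symm
  let R' := R ⧸ z.asIdeal
  have hzker : ∀ {P : Ideal R}, z.asIdeal ≤ P → RingHom.ker (Ideal.Quotient.mk z.asIdeal) ≤ P :=
    fun h => by rw [Ideal.mk_ker]; exact h
  let y' : Ideal R' := y.asIdeal.map (Ideal.Quotient.mk z.asIdeal)
  have hy' : y'.IsPrime := Ideal.map_isPrime_of_surjective Ideal.Quotient.mk_surjective (hzker hzy)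
  have hy'c : y'.comap (Ideal.Quotient.mk z.asIdeal) = y.asIdeal := by
    rw [Ideal.comap_map_of_surjective _ Ideal.Quotient.mk_surjective]
    exact sup_eq_left.mpr (hzker hzy)
  let B := Localization.AtPrime y'
  have hinj : Function.Injective (algebraMap R' B) :=
    IsLocalization.injective B (M := y'.primeCompl) (Ideal.primeCompl_le_nonZeroDivisors _)
  have : IsDomain B := IsLocalization.isDomain_localization (Ideal.primeCompl_le_nonZeroDivisors _)
  have hf0 : algebraMap R' B (Ideal.Quotient.mk z.asIdeal a) ≠ 0 := fun e =>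
    hza (Ideal.Quotient.eq_zero_iff_mem.mp (hinj (e.trans (map_zero _).symm)))
  obtain ⟨hmax', -⟩ := NoethPts.isMaximal_and_finite_of_isolated hf0 fun Q hQ hfQ => by
    have := hQ.comap ((algebraMap R' B).comp (Ideal.Quotient.mk z.asIdeal))
    have hzQ : z.asIdeal ≤ Q.comap ((algebraMap R' B).comp (Ideal.Quotient.mk z.asIdeal)) := fun x hx => by
      rw [Ideal.mem_comap, RingHom.comp_apply, Ideal.Quotient.eq_zero_iff_mem.mpr hx, map_zero]
      exact Q.zero_mem
    have hQy : Q.comap ((algebraMap R' B).comp (Ideal.Quotient.mk z.asIdeal)) ≤ y.asIdeal := by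
      rw [← hy'c, ← Ideal.comap_comap]
      refine Ideal.comap_mono fun x hx => ?_
      by_contra hxy
      exact hQ.ne_top (Ideal.eq_top_of_isUnit_mem _ hx (IsLocalization.map_units B (⟨x, hxy⟩ : y'.primeCompl)))
    have e := hbad _ this hzQ hQy hfQ
    rw [← Ideal.comap_comap] at e
    have e' : Q.comap (algebraMap R' B) = ⊥ := by
      apply Ideal.comap_injective_of_surjective (Ideal.Quotient.mk z.asIdeal) Ideal.Quotient.mk_surjective
      rw [e, ← RingHom.ker_eq_comap_bot, Ideal.mk_ker]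
    rw [← IsLocalization.map_comap y'.primeCompl B Q]
    rw [show Q.under R' = ⊥ from e']
    exact Ideal.map_bot
  intro P hP hzP hPy
  by_cases hPz : P = z.asIdeal
  · exact Or.inl hPz
  right
  have hP' := Ideal.map_isPrime_of_surjective (f := Ideal.Quotient.mk z.asIdeal) Ideal.Quotient.mk_surjective (hzker hzP)
  let P' : Ideal R' := P.map (Ideal.Quotient.mk z.asIdeal)
  have hP'c : P'.comap (Ideal.Quotient.mk z.asIdeal) = P := by
    rw [Ideal.comap_map_of_surjective _ Ideal.Quotient.mk_surjective]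
    exact sup_eq_left.mpr (hzker hzP)
  have hle : P' ≤ y' := Ideal.map_mono hPy
  have hdisj : Disjoint (y'.primeCompl : Set R') (P' : Set R') := Set.disjoint_left.mpr fun x hx hxP => hx (hle hxP)
  have hPB : (P'.map (algebraMap R' B)).IsPrime :=
    IsLocalization.isPrime_of_isPrime_disjoint y'.primeCompl B P' hP' hdisj
  have hPB0 : P'.map (algebraMap R' B) ≠ ⊥ := by
    intro e
    have h1 : P' = ⊥ := by
      rw [eq_bot_iff]
      exact fun x hx => Ideal.mem_bot.mpr (hinj ((Ideal.mem_bot.mp (e ▸ Ideal.mem_map_of_mem _ hx)).trans (map_zero _).symm))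
    exact hPz (by rw [← hP'c, h1, ← RingHom.ker_eq_comap_bot, Ideal.mk_ker])
  have h2 := IsLocalRing.eq_maximalIdeal (hmax' _ hPB hPB0)
  rw [← hy'c, ← hP'c]
  congr 1
  refine le_antisymm hle fun x hx => ?_
  have h3 : algebraMap R' B x ∈ P'.map (algebraMap R' B) := by
    rw [h2, IsLocalization.AtPrime.to_map_mem_maximal_iff B y']; exact hx
  have h4 : (P'.map (algebraMap R' B)).comap (algebraMap R' B) = P' :=
    IsLocalization.comap_map_of_isPrime_disjoint y'.primeCompl B hP' hdisj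
  exact h4.le h3

lemma isLocallyConstructible_of_isClosed {X : Scheme.{u}} [IsLocallyNoetherian X] {Z : Set X} (hZ : IsClosed Z) :
    Topology.IsLocallyConstructible Z := by
  intro x
  obtain ⟨_, ⟨U, hU, rfl⟩, hxU, -⟩ := X.isBasis_affineOpens.exists_subset_of_mem_open (Set.mem_univ x) isOpen_univ
  have : IsAffine (U : Scheme.{u}) := hU
  have : IsNoetherian (U : Scheme.{u}) := {}
  have : NoetherianSpace ↥(U : Set X) := (inferInstance : NoetherianSpace (U : Scheme.{u}))
  exact ⟨U, U.2.mem_nhds hxU, U.2,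
    ConstrSets.isConstructible_of_isClosed (X := ↥(U : Set X)) (hZ.preimage continuous_subtype_val)⟩

variable {S X Y : Scheme.{u}}

/-- A test curve witnessing that the range is not closed. -/
theorem exists_test_curve (hS : ∀ W : S.affineOpens, CAlg.IsNagata Γ(S, W)) (q : Y ⟶ S) [LocallyOfFiniteType q]
    (g : X ⟶ Y) [LocallyOfFiniteType g] [QuasiCompact g] (hg : ¬ IsClosed (Set.range g)) :
    ∃ (C : Scheme.{u}) (r : C ⟶ S) (_ : IsIntegral C) (_ : LocallyOfFiniteType r) (_ : QuasiCompact r),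
      (∀ x : C, IsIntegrallyClosed (C.presheaf.stalk x)) ∧
        ∃ (c : C), IsClosed ({c} : Set C) ∧ ringKrullDim (C.presheaf.stalk c) = 1 ∧
          ∃ (U : C.Opens), (U : Set C) = {c}ᶜ ∧
            ∃ (u : (U : Scheme.{u}) ⟶ X) (gC : C ⟶ Y), gC ≫ q = r ∧ u ≫ g = U.ι ≫ gC ∧ gC c ∉ Set.range g ∧
              ∃ k : Spec (CommRingCat.of (FractionRing (C.presheaf.stalk c))) ⟶ (U : Scheme.{u}),
                k ≫ U.ι = Spec.map (CommRingCat.ofHom (algebraMap (C.presheaf.stalk c)
                  (FractionRing (C.presheaf.stalk c)))) ≫ C.fromSpecStalk c := by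
  classical
  have : IsLocallyNoetherian S := ⟨fun W => (hS W).1⟩
  have : IsLocallyNoetherian Y := LocallyOfFiniteType.isLocallyNoetherian q
  have : IsLocallyNoetherian X := LocallyOfFiniteType.isLocallyNoetherian g
  -- affine charts
  obtain ⟨y₀, hy₀, hy₀'⟩ : ∃ y₀ ∈ closure (Set.range g), y₀ ∉ Set.range g := by
    by_contra! hall
    exact hg (closure_subset_iff_isClosed.mp hall)
  obtain ⟨_, ⟨V, hV, rfl⟩, hyV, -⟩ :=
    S.isBasis_affineOpens.exists_subset_of_mem_open (Set.mem_univ (q y₀)) isOpen_univ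
  obtain ⟨_, ⟨W, hW, rfl⟩, hyW, hWV⟩ :=
    Y.isBasis_affineOpens.exists_subset_of_mem_open (show y₀ ∈ ((q ⁻¹ᵁ V : Y.Opens) : Set Y) from hyV) (q ⁻¹ᵁ V).2
  replace hWV : W ≤ q ⁻¹ᵁ V := hWV
  let A := Γ(S, V)
  let R := Γ(Y, W)
  let φ : A →+* R := (q.appLE V W hWV).hom
  let _ : Algebra A R := φ.toAlgebra
  have : IsNoetherianRing A := (hS ⟨V, hV⟩).1
  have hftR : Algebra.FiniteType A R := HasRingHomProperty.appLE (P := @LocallyOfFiniteType) q inferInstance ⟨V, hV⟩ ⟨W, hW⟩ hWV
  have : IsNoetherianRing R := Algebra.FiniteType.isNoetherianRing A R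
  let E : Set (PrimeSpectrum R) := hW.fromSpec ⁻¹' Set.range g
  have hfp : LocallyOfFinitePresentation g := inferInstance
  have hE : Topology.IsConstructible E := by
    have h1 : Topology.IsLocallyConstructible (Set.range g) := by
      rw [← Set.image_univ]
      exact g.isLocallyConstructible_image (isLocallyConstructible_of_isClosed isClosed_univ)
    exact (isLocallyConstructible_preimage hW.fromSpec h1).isConstructible
  have hEclos : closure E = hW.fromSpec ⁻¹' closure (Set.range g) :=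
    (hW.fromSpec.isOpenEmbedding.isOpenMap.preimage_closure_eq_closure_preimage hW.fromSpec.continuous _).symm
  obtain ⟨y₀', rfl⟩ : y₀ ∈ Set.range hW.fromSpec := by rw [hW.range_fromSpec]; exact hyW
  obtain ⟨z, y, hzE, hyE, hzy, hloc, hgap⟩ := exists_one_step hE (fun y hy => by
    obtain ⟨x, hx⟩ := exists_specializes_of_mem_closure_range g (hEclos.le hy)
    obtain ⟨z, hz⟩ : g x ∈ Set.range hW.fromSpec := by
      rw [hW.range_fromSpec]; exact hx.mem_open W.2 (hW.range_fromSpec.le ⟨y, rfl⟩)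
    exact ⟨z, ⟨x, hz.symm⟩, hW.fromSpec.isOpenEmbedding.isInducing.specializes_iff.mp (hz ▸ hx)⟩)
    (fun h => hy₀' (h (hEclos.ge hy₀)))
  -- a chart at the generic point
  obtain ⟨x, hx⟩ := hzE
  obtain ⟨_, ⟨U₀, hU₀, rfl⟩, hxU₀, hU₀W⟩ := X.isBasis_affineOpens.exists_subset_of_mem_open
    (show x ∈ ((g ⁻¹ᵁ W : X.Opens) : Set X) from show g x ∈ (W : Set Y) from
      hx ▸ hW.range_fromSpec.le ⟨z, rfl⟩) (g ⁻¹ᵁ W).2
  replace hU₀W : U₀ ≤ g ⁻¹ᵁ W := hU₀W
  let T := Γ(X, U₀)
  let ψ : R →+* T := (g.appLE W U₀ hU₀W).hom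
  let _ : Algebra R T := ψ.toAlgebra
  have : Algebra.FiniteType R T := HasRingHomProperty.appLE (P := @LocallyOfFiniteType) g inferInstance ⟨W, hW⟩ ⟨U₀, hU₀⟩ hU₀W
  have : IsNoetherianRing T := Algebra.FiniteType.isNoetherianRing R T
  obtain ⟨x', rfl⟩ : x ∈ Set.range hU₀.fromSpec := by rw [hU₀.range_fromSpec]; exact hxU₀
  have hx' : (x' : PrimeSpectrum T).asIdeal.comap ψ = z.asIdeal := by
    have h1 : hW.fromSpec (Spec.map (g.appLE W U₀ hU₀W) x') = hW.fromSpec z := by
      rw [← hx, ← Scheme.Hom.comp_apply, ← Scheme.Hom.comp_apply, IsAffineOpen.SpecMap_appLE_fromSpec]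
    exact congrArg PrimeSpectrum.asIdeal (hW.fromSpec.isOpenEmbedding.injective h1)
  obtain ⟨L, _, _, _, hRTL, hTL, hkerL, hfinL⟩ := exists_finite_residueField z.asIdeal
    (x' : PrimeSpectrum T).asIdeal hx'
  let _ : Algebra A L := ((algebraMap R L).comp φ).toAlgebra
  have : IsScalarTower A R L := IsScalarTower.of_algebraMap_eq fun _ => rfl
  obtain ⟨E', _, _, _, _, _, κ, ι, c', _, hι, hfrac, hκ, hcy, hdim⟩ := exists_curve_algebra A R L
    (fun p _ => (hS ⟨V, hV⟩).2 p) y.asIdeal (hkerL ▸ hzy) hloc (hkerL ▸ hgap) hfinL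
  -- a denominator
  obtain ⟨G, hG⟩ := (‹Algebra.FiniteType R T›).out
  choose num den hden hnd using fun t : T => hfrac (algebraMap T L t)
  let a : E' := ∏ t ∈ G, den t
  have ha0 : a ≠ 0 := Finset.prod_ne_zero_iff.mpr fun t _ => hden t
  have : IsNoetherianRing E' := Algebra.FiniteType.isNoetherianRing A E'
  have hbex : ∀ m : (Ideal.span {a}).minimalPrimes, ∃ e : E', e ∉ c' ∧ (m.1 ≠ c' → e ∈ m.1) := by
    rintro ⟨m, hm⟩
    by_cases hmc : m ≤ c'
    · refine ⟨1, Ideal.one_notMem _, fun hne => absurd ?_ hne⟩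
      by_contra hne'
      have := hm.1.1
      have hlt : m < c' := lt_of_le_of_ne hmc hne'
      have h1 : c'.height = 1 := by
        have := IsLocalization.AtPrime.ringKrullDim_eq_height c' (Localization.AtPrime c')
        rw [hdim] at this
        exact_mod_cast this.symm
      have h2 := Ideal.height_strict_mono_of_isPrime hlt
      rw [h1, ENat.lt_one_iff_eq_zero, Ideal.height_eq_zero_iff_eq_bot] at h2
      exact ha0 (Ideal.mem_bot.mp (h2 ▸ hm.1.2 (Ideal.mem_span_singleton_self a)))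
    · obtain ⟨e, he, he'⟩ := SetLike.not_le_iff_exists.mp hmc
      exact ⟨e, he', fun _ => he⟩
  choose e he hem using hbex
  have : Fintype (Ideal.span {a}).minimalPrimes :=
    (Ideal.finite_minimalPrimes_of_isNoetherianRing E' _).fintype
  let b : E' := ∏ m, e m
  have hbc : b ∉ c' := fun h => by
    obtain ⟨m, -, hm⟩ := (‹c'.IsMaximal›.isPrime.prod_mem_iff).mp h
    exact he m hm
  let E₂ := Spec (CommRingCat.of E')
  let O : E₂.Opens := PrimeSpectrum.basicOpen b
  let c₂ : E₂ := (⟨c', inferInstance⟩ : PrimeSpectrum E')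
  have hc₂O : c₂ ∈ O := hbc
  let C : Scheme.{u} := O
  let cC : C := ⟨c₂, hc₂O⟩
  have hclosed : IsClosed ({cC} : Set C) := by
    have h1 : IsClosed ({c₂} : Set E₂) :=
      (PrimeSpectrum.isClosed_singleton_iff_isMaximal (R := E') ⟨c', inferInstance⟩).mpr inferInstance
    have : ({cC} : Set C) = O.ι ⁻¹' {c₂} := by
      ext w
      exact ⟨fun h => by rw [Set.mem_singleton_iff.mp h]; rfl, fun h => Subtype.ext h⟩
    rw [this]; exact h1.preimage O.ι.continuous
  let rC : C ⟶ S := O.ι ≫ Spec.map (CommRingCat.ofHom (algebraMap A E')) ≫ hV.fromSpec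
  have hlft : LocallyOfFiniteType rC := by
    have : LocallyOfFiniteType (Spec.map (CommRingCat.ofHom (algebraMap A E'))) :=
      (HasRingHomProperty.Spec_iff (P := @LocallyOfFiniteType)).mpr (RingHom.finiteType_algebraMap.mpr inferInstance)
    infer_instance
  have hOaff : IsAffineOpen O := by
    have h1 := (isAffineOpen_top (Spec (CommRingCat.of E'))).basicOpen ((Scheme.ΓSpecIso (CommRingCat.of E')).inv b)
    rwa [basicOpen_eq_of_affine (R := CommRingCat.of E') b] at h1
  have : IsAffine C := hOaff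
  have : CompactSpace C := inferInstance
  have hqc : QuasiCompact rC := QuasiCompact.of_comp rC (terminal.from S)
  have : Nonempty C := ⟨cC⟩
  have : IsIntegral C := isIntegral_of_isOpenImmersion O.ι
  -- stalks
  have hstalk : ∀ w : C, Nonempty (C.presheaf.stalk w ≃+* Localization.AtPrime (w.1 : PrimeSpectrum E').asIdeal) :=
    fun w => ⟨(Scheme.Opens.stalkIso O w ≪≫ Spec.stalkIso (CommRingCat.of E') w.1).commRingCatIsoToRingEquiv⟩
  refine ⟨C, rC, inferInstance, hlft, hqc, fun w => ?_, cC, hclosed, ?_, ?_⟩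
  · obtain ⟨ε⟩ := hstalk w
    have : IsIntegrallyClosed (Localization.AtPrime (w.1 : PrimeSpectrum E').asIdeal) :=
      isIntegrallyClosed_of_isLocalization _ _ (Ideal.primeCompl_le_nonZeroDivisors (w.1 : PrimeSpectrum E').asIdeal)
    exact IsIntegrallyClosed.of_equiv ε.symm
  · obtain ⟨ε⟩ := hstalk cC
    rw [ringKrullDim_eq_of_ringEquiv ε]
    exact hdim
  -- the punctured curve
  refine ⟨⟨{cC}ᶜ, hclosed.isOpen_compl⟩, rfl, ?_⟩
  let U : C.Opens := ⟨{cC}ᶜ, hclosed.isOpen_compl⟩
  have hUa : ∀ w : C, w ∈ U → a ∉ (w.1 : PrimeSpectrum E').asIdeal := by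
    intro w hw haw
    obtain ⟨m, hm, hmw⟩ := Ideal.exists_minimalPrimes_le ((Ideal.span_singleton_le_iff_mem _).mpr haw)
    by_cases hmc : m = c'
    · exact hw (Subtype.ext (PrimeSpectrum.ext
        ((‹c'.IsMaximal›.eq_of_le (w.1 : PrimeSpectrum E').isPrime.ne_top (hmc ▸ hmw)).symm)))
    · exact w.2 (Ideal.mem_of_dvd _ (Finset.dvd_prod_of_mem e (Finset.mem_univ ⟨m, hm⟩)) (hmw (hem ⟨m, hm⟩ hmc)))
  let Ea := Localization.Away a
  let θ : Spec (CommRingCat.of Ea) ⟶ E₂ := Spec.map (CommRingCat.ofHom (algebraMap E' Ea))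
  have : IsOpenImmersion θ := IsOpenImmersion.of_isLocalization a
  have hUθ : Set.range (U.ι ≫ O.ι) ⊆ Set.range θ := by
    rintro _ ⟨w, rfl⟩
    show _ ∈ Set.range (PrimeSpectrum.comap (algebraMap E' Ea))
    rw [PrimeSpectrum.localization_away_comap_range Ea a]
    exact hUa w.1 w.2
  let σ : (U : Scheme.{u}) ⟶ Spec (CommRingCat.of Ea) := IsOpenImmersion.lift θ (U.ι ≫ O.ι) hUθ
  -- the map to the chart
  have hιa : IsUnit (ι a) := IsUnit.mk0 _ fun h => ha0 (hι (h.trans (map_zero ι).symm))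
  let ιa : Ea →+* L := IsLocalization.Away.lift a (g := ι.toRingHom) hιa
  have hιa' : ∀ v, ιa (algebraMap E' Ea v) = ι v := IsLocalization.Away.lift_eq a _
  have hιainj : Function.Injective ιa := by
    intro s t hst
    obtain ⟨s, s', rfl⟩ := IsLocalization.exists_mk'_eq (Submonoid.powers a) s
    obtain ⟨t, t', rfl⟩ := IsLocalization.exists_mk'_eq (Submonoid.powers a) t
    have e1 : ιa (IsLocalization.mk' Ea s s') * ι s' = ι s := by
      rw [← hιa' (s' : E'), ← map_mul, IsLocalization.mk'_spec, hιa']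
    have e2 : ιa (IsLocalization.mk' Ea t t') * ι t' = ι t := by
      rw [← hιa' (t' : E'), ← map_mul, IsLocalization.mk'_spec, hιa']
    refine IsLocalization.mk'_eq_of_eq (hι ?_)
    simp only [map_mul, ← e1, ← e2, hst]; ring
  have hTEa : ∀ t : T, ∃ v : Ea, ιa v = algebraMap T L t := by
    intro t
    have ht : t ∈ Algebra.adjoin R (G : Set T) := hG ▸ Algebra.mem_top
    induction ht using Algebra.adjoin_induction with
    | mem t ht =>
      obtain ⟨d, hd⟩ : den t ∣ a := Finset.dvd_prod_of_mem _ ht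
      refine ⟨algebraMap E' Ea (num t * d) * IsLocalization.Away.invSelf a, ?_⟩
      have h1 : ιa (IsLocalization.Away.invSelf a) * ι a = 1 := by
        rw [← hιa', ← map_mul, mul_comm, IsLocalization.Away.mul_invSelf, map_one]
      rw [map_mul, hιa', map_mul, ← hnd t]
      have h2 : ι (den t) * ι d = ι a := by rw [← map_mul, ← hd]
      calc algebraMap T L t * ι (den t) * ι d * ιa (IsLocalization.Away.invSelf a)
          = algebraMap T L t * (ιa (IsLocalization.Away.invSelf a) * ι a) := by rw [← h2]; ring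
        _ = _ := by rw [h1, mul_one]
    | algebraMap s =>
      refine ⟨algebraMap E' Ea (κ s), ?_⟩
      rw [hιa', hκ, IsScalarTower.algebraMap_apply R T L]
    | add s t _ _ hs ht =>
      obtain ⟨v, hv⟩ := hs
      obtain ⟨w, hw⟩ := ht
      exact ⟨v + w, by rw [map_add, map_add, hv, hw]⟩
    | mul s t _ _ hs ht =>
      obtain ⟨v, hv⟩ := hs
      obtain ⟨w, hw⟩ := ht
      exact ⟨v * w, by rw [map_mul, map_mul, hv, hw]⟩
  choose τfun hτ using hTEa
  let τ : T →+* Ea :=
    { toFun := τfun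
      map_one' := hιainj (by rw [hτ, map_one, map_one])
      map_mul' := fun v w => hιainj (by rw [hτ, map_mul, map_mul, hτ, hτ])
      map_zero' := hιainj (by rw [hτ, map_zero, map_zero])
      map_add' := fun v w => hιainj (by rw [hτ, map_add, map_add, hτ, hτ]) }
  have hτR : τ.comp ψ = (algebraMap E' Ea).comp κ.toRingHom := RingHom.ext fun s => hιainj <| by
    show ιa (τfun (algebraMap R T s)) = ιa (algebraMap E' Ea (κ s))
    rw [hτ, hιa', hκ, ← IsScalarTower.algebraMap_apply R T L]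
  let u : (U : Scheme.{u}) ⟶ X := σ ≫ Spec.map (CommRingCat.ofHom τ) ≫ hU₀.fromSpec
  let gC : C ⟶ Y := O.ι ≫ Spec.map (CommRingCat.ofHom κ.toRingHom) ≫ hW.fromSpec
  refine ⟨u, gC, ?_, ?_, ?_, ?_⟩
  · have h1 : q.appLE V W hWV ≫ CommRingCat.ofHom κ.toRingHom = CommRingCat.ofHom (algebraMap A E') :=
      CommRingCat.hom_ext (RingHom.ext fun v => κ.commutes v)
    simp only [gC, rC, Category.assoc]
    rw [← IsAffineOpen.SpecMap_appLE_fromSpec q hV hW hWV, ← Spec.map_comp_assoc, h1]
  · have h1 : g.appLE W U₀ hU₀W ≫ CommRingCat.ofHom τ =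
        CommRingCat.ofHom κ.toRingHom ≫ CommRingCat.ofHom (algebraMap E' Ea) :=
      CommRingCat.hom_ext hτR
    simp only [u, gC, Category.assoc]
    rw [← IsAffineOpen.SpecMap_appLE_fromSpec g hW hU₀ hU₀W, ← Spec.map_comp_assoc, h1, Spec.map_comp_assoc]
    show σ ≫ θ ≫ _ = _
    rw [← Category.assoc σ, IsOpenImmersion.lift_fac, Category.assoc]
  · intro hr
    refine hyE ?_
    show hW.fromSpec y ∈ Set.range g
    have : gC cC = hW.fromSpec y := congrArg hW.fromSpec
      (PrimeSpectrum.ext hcy : (⟨c'.comap κ.toRingHom, inferInstance⟩ : PrimeSpectrum R) = y)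
    exact this ▸ hr
  · let K := FractionRing (C.presheaf.stalk cC)
    let m := Spec.map (CommRingCat.ofHom (algebraMap (C.presheaf.stalk cC) K)) ≫ C.fromSpecStalk cC
    have hrange : Set.range m ⊆ Set.range U.ι := by
      rintro _ ⟨v, rfl⟩
      rw [Scheme.Opens.range_ι]
      intro hv
      have h1 : Spec.map (CommRingCat.ofHom (algebraMap (C.presheaf.stalk cC) K)) v =
          IsLocalRing.closedPoint (C.presheaf.stalk cC) :=
        (C.fromSpecStalk cC).isEmbedding.injective (by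
          rw [Scheme.fromSpecStalk_closedPoint]
          exact (Scheme.Hom.comp_apply _ _ v).symm.trans hv)
      have h2 := congrArg PrimeSpectrum.asIdeal h1
      change Ideal.comap (algebraMap (C.presheaf.stalk cC) K) (v : PrimeSpectrum K).asIdeal =
        IsLocalRing.maximalIdeal _ at h2
      have h3 : (v : PrimeSpectrum K).asIdeal = ⊥ :=
        (Ideal.eq_bot_or_top _).resolve_right (v : PrimeSpectrum K).isPrime.ne_top
      rw [h3, ← RingHom.ker_eq_comap_bot,
        (RingHom.injective_iff_ker_eq_bot _).mp (IsFractionRing.injective (C.presheaf.stalk cC) K)] at h2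
      obtain ⟨ε⟩ := hstalk cC
      have h4 : ringKrullDim (C.presheaf.stalk cC) = 0 :=
        ringKrullDim_eq_zero_of_isField (IsLocalRing.isField_iff_maximalIdeal_eq.mpr h2.symm)
      rw [ringKrullDim_eq_of_ringEquiv ε] at h4
      exact one_ne_zero (hdim.symm.trans h4)
    exact ⟨IsOpenImmersion.lift U.ι m hrange, IsOpenImmersion.lift_fac _ _ _⟩

/-- Test curves in `Y` lift to `X` (existence part of the valuative criterion on test curves). -/
def CurveLift (p : X ⟶ S) (q : Y ⟶ S) (f : X ⟶ Y) : Prop :=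
  ∀ (C : Scheme.{u}) (r : C ⟶ S) [IsIntegral C] [LocallyOfFiniteType r] [QuasiCompact r],
    (∀ x : C, IsIntegrallyClosed (C.presheaf.stalk x)) →
    ∀ (c : C), IsClosed ({c} : Set C) → ringKrullDim (C.presheaf.stalk c) = 1 →
    ∀ (U : C.Opens), (U : Set C) = {c}ᶜ →
    ∀ (u : (U : Scheme.{u}) ⟶ X) (g : C ⟶ Y), g ≫ q = r → u ≫ f = U.ι ≫ g →
    ∀ (k : Spec (CommRingCat.of (FractionRing (C.presheaf.stalk c))) ⟶ (U : Scheme.{u})),
      k ≫ U.ι = Spec.map (CommRingCat.ofHom (algebraMap (C.presheaf.stalk c)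
        (FractionRing (C.presheaf.stalk c)))) ≫ C.fromSpecStalk c →
    ∃ l : Spec (C.presheaf.stalk c) ⟶ X, l ≫ f = C.fromSpecStalk c ≫ g ∧
      Spec.map (CommRingCat.ofHom (algebraMap (C.presheaf.stalk c) (FractionRing (C.presheaf.stalk c)))) ≫ l =
        k ≫ u

theorem CurveLift.isClosedMap (hS : ∀ W : S.affineOpens, CAlg.IsNagata Γ(S, W)) {p : X ⟶ S} {q : Y ⟶ S}
    [LocallyOfFiniteType q] {f : X ⟶ Y} [LocallyOfFiniteType f] [QuasiCompact f] (h : CurveLift p q f) :
    IsClosedMap f := by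
  intro Z hZ
  have : IsLocallyNoetherian S := ⟨fun W => (hS W).1⟩
  have : IsLocallyNoetherian Y := LocallyOfFiniteType.isLocallyNoetherian q
  have : IsLocallyNoetherian X := LocallyOfFiniteType.isLocallyNoetherian f
  let I := Scheme.IdealSheafData.vanishingIdeal (⟨Z, hZ⟩ : TopologicalSpace.Closeds X)
  let j := I.subschemeι
  have hj : Set.range j = Z := by
    rw [Scheme.IdealSheafData.range_subschemeι, Scheme.IdealSheafData.coe_support_vanishingIdeal]
    rfl
  by_contra hcl
  have hne : ¬ IsClosed (Set.range (j ≫ f)) := by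
    intro h'
    apply hcl
    convert h' using 1
    rw [← hj, ← Set.range_comp]
    rfl
  obtain ⟨C, r, _, _, _, hnorm, c, hc, hdim, U, hU, u, gC, hgC, hu, hnot, k, hk⟩ :=
    exists_test_curve hS q (j ≫ f) hne
  obtain ⟨l, hl, hlk⟩ := h C r hnorm c hc hdim U hU (u ≫ j) gC hgC
    (by rw [Category.assoc]; exact hu) k hk
  apply hnot
  let K := FractionRing (C.presheaf.stalk c)
  let v₀ : Spec (CommRingCat.of K) := IsLocalRing.closedPoint K
  have hmem : l (IsLocalRing.closedPoint (C.presheaf.stalk c)) ∈ Set.range j := by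
    have h1 : l (Spec.map (CommRingCat.ofHom (algebraMap (C.presheaf.stalk c) K)) v₀) ∈ Z :=
      hj.le ⟨u (k v₀), ((Scheme.Hom.comp_apply _ _ v₀).symm.trans (congrArg (fun m => m v₀) hlk)).symm⟩
    exact hj.ge (((IsLocalRing.specializes_closedPoint
      (Spec.map (CommRingCat.ofHom (algebraMap (C.presheaf.stalk c) K)) v₀)).map l.continuous).mem_closed hZ h1)
  obtain ⟨w, hw⟩ := hmem
  refine ⟨w, ?_⟩
  rw [Scheme.Hom.comp_apply, hw, ← Scheme.Hom.comp_apply, hl, Scheme.Hom.comp_apply,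
    Scheme.fromSpecStalk_closedPoint]

end Groth.Agent.LimSch.CurveTest
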