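import Groth.Agent.LimSch.Pullback
import Mathlib.AlgebraicGeometry.AffineTransitionLimit
import Mathlib.AlgebraicGeometry.Morphisms.Separated

/-!
Descent of properties of morphisms along cofiltered limits with affine transition morphisms: framework.

`Descends P H`: if `f₀ : X₀ ⟶ D i` (quasi-compact, quasi-separated, with `H`) has base change to the
limit with `P`, then some base change to a stage has `P`.
-/

set_option autoImplicit false
set_option backward.isDefEq.respectTransparency false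

universe u

open CategoryTheory Limits AlgebraicGeometry

namespace Groth.Agent.LimSch

/-- `P` descends, for morphisms to a quasi-compact stage satisfying `H`. -/
def Descends (P H : MorphismProperty Scheme.{u}) : Prop :=
  ∀ {I : Type u} [SmallCategory I] [IsCofiltered I] (D : I ⥤ Scheme.{u}) (c : Cone D) (_ : IsLimit c)
    [∀ (i j : I) (f : i ⟶ j), IsAffineHom (D.map f)] (i : I) [CompactSpace (D.obj i)]
    {X₀ : Scheme.{u}} (f₀ : X₀ ⟶ D.obj i) [QuasiCompact f₀] [QuasiSeparated f₀], H f₀ →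
    ∀ {X : Scheme.{u}} (q : X ⟶ X₀) (f : X ⟶ c.pt), IsPullback q f f₀ (c.π.app i) → P f →
    ∃ (j : I) (φ : j ⟶ i), P (pullback.snd f₀ (D.map φ))

/-- `P` descends, for morphisms to a stage of a system of affine schemes. -/
def DescendsAff (P H : MorphismProperty Scheme.{u}) : Prop :=
  ∀ {I : Type u} [SmallCategory I] [IsCofiltered I] (D : I ⥤ Scheme.{u}) (c : Cone D) (_ : IsLimit c)
    [∀ (i j : I) (f : i ⟶ j), IsAffineHom (D.map f)] [∀ j, IsAffine (D.obj j)] (i : I)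
    {X₀ : Scheme.{u}} (f₀ : X₀ ⟶ D.obj i) [QuasiCompact f₀] [QuasiSeparated f₀], H f₀ →
    ∀ {X : Scheme.{u}} (q : X ⟶ X₀) (f : X ⟶ c.pt), IsPullback q f f₀ (c.π.app i) → P f →
    ∃ (j : I) (φ : j ⟶ i), P (pullback.snd f₀ (D.map φ))

variable {P H : MorphismProperty Scheme.{u}}

/-- A base change along a composite is a base change of the base change. -/
lemma of_isPullback_comp [P.IsStableUnderBaseChange] {X S X₁ S₁ X' S' : Scheme.{u}} {f : X ⟶ S}
    {f₁ : X₁ ⟶ S₁} {a : X₁ ⟶ X} {b : S₁ ⟶ S} (h₁ : IsPullback a f₁ f b) (u : S' ⟶ S₁)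
    {f' : X' ⟶ S'} {a' : X' ⟶ X} (h' : IsPullback a' f' f (u ≫ b)) (hP : P f₁) : P f' := by
  have hm : IsPullback (h₁.lift a' (f' ≫ u) (by rw [h'.w, Category.assoc])) f' f₁ u :=
    IsPullback.of_right (by rw [IsPullback.lift_fst]; exact h') (IsPullback.lift_snd _ _ _ _) h₁
  exact MorphismProperty.of_isPullback hm hP

section Translate

variable [H.RespectsIso] {I : Type u} [SmallCategory I] [IsCofiltered I]
  (D : I ⥤ Scheme.{u}) (c : Cone D) (hc : IsLimit c)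
  [∀ (i j : I) (f : i ⟶ j), IsAffineHom (D.map f)] (i₀ : I)
  {X₀ Y₀ : Scheme.{u}} (f₀ : X₀ ⟶ Y₀) (g₀ : Y₀ ⟶ D.obj i₀) [QuasiCompact f₀] [QuasiSeparated f₀]
  {X Y : Scheme.{u}} (f : X ⟶ Y) (g : Y ⟶ c.pt) (qY : Y ⟶ Y₀) (qX : X ⟶ X₀)
  (hY : IsPullback qY g g₀ (c.π.app i₀)) (hX : IsPullback qX f f₀ qY)

omit [IsCofiltered I] [∀ (i j : I) (f : i ⟶ j), IsAffineHom (D.map f)] in
include hY hX in
lemma exists_of_core (h : H f₀) (hf : P f)
    (core : ∀ {X₁ : Scheme.{u}} (f₁ : X₁ ⟶ (bcDiag D i₀ g₀).obj (Over.mk (𝟙 i₀)))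
      [QuasiCompact f₁] [QuasiSeparated f₁], H f₁ → ∀ {X' : Scheme.{u}} (q : X' ⟶ X₁)
      (f' : X' ⟶ (bcCone D c i₀ g₀ g qY hY.flip).pt),
      IsPullback q f' f₁ ((bcCone D c i₀ g₀ g qY hY.flip).π.app (Over.mk (𝟙 i₀))) → P f' →
      ∃ (j : Over i₀) (φ : j ⟶ Over.mk (𝟙 i₀)), P (pullback.snd f₁ ((bcDiag D i₀ g₀).map φ))) :
    ∃ (i : I) (φ : i ⟶ i₀) (Xi Yi : Scheme.{u}) (fi : Xi ⟶ Yi) (gi : Yi ⟶ D.obj i) (pY : Yi ⟶ Y₀)
      (pX : Xi ⟶ X₀), IsPullback pY gi g₀ (D.map φ) ∧ IsPullback pX fi f₀ pY ∧ P fi := by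
  have : IsIso (pullback.snd (D.map (Over.mk (𝟙 i₀)).hom) g₀) := by
    have : IsIso (D.map (Over.mk (𝟙 i₀)).hom) := by dsimp; infer_instance
    infer_instance
  let s := pullback.snd (D.map (Over.mk (𝟙 i₀)).hom) g₀
  let f₁ : X₀ ⟶ (bcDiag D i₀ g₀).obj (Over.mk (𝟙 i₀)) := f₀ ≫ inv s
  have h₁ : H f₁ := (MorphismProperty.cancel_right_of_respectsIso H _ _).mpr h
  have hπ : (bcCone D c i₀ g₀ g qY hY.flip).π.app (Over.mk (𝟙 i₀)) ≫ s = qY := pullback.lift_snd _ _ _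
  have hsq : IsPullback qX f f₁ ((bcCone D c i₀ g₀ g qY hY.flip).π.app (Over.mk (𝟙 i₀))) :=
    IsPullback.of_iso hX (Iso.refl _) (Iso.refl _) (Iso.refl _) (asIso s).symm (by simp) (by simp)
      (by simp [f₁]) (by
        rw [← cancel_mono s]
        simp [hπ])
  have : QuasiCompact f₁ := by dsimp [f₁]; infer_instance
  have : QuasiSeparated f₁ := by dsimp [f₁]; infer_instance
  obtain ⟨j, φ, hP⟩ := core f₁ h₁ qX f hsq hf
  refine ⟨j.left, j.hom, _, _, _, pullback.fst (D.map j.hom) g₀, pullback.snd (D.map j.hom) g₀,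
    pullback.fst f₁ ((bcDiag D i₀ g₀).map φ), (IsPullback.of_hasPullback _ _).flip, ?_, hP⟩
  refine IsPullback.of_iso (IsPullback.of_hasPullback f₁ ((bcDiag D i₀ g₀).map φ)) (Iso.refl _) (Iso.refl _)
    (Iso.refl _) (asIso s) (by simp) (by simp) (by simp [f₁]) ?_
  simp only [Iso.refl_hom, Category.id_comp, asIso_hom]
  exact pullback.lift_snd _ _ _

include hc hY hX in
/-- The descent statement relative to a scheme over a stage. -/
theorem Descends.over (hP : Descends P H) [CompactSpace Y₀] (h : H f₀) (hf : P f) :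
    ∃ (i : I) (φ : i ⟶ i₀) (Xi Yi : Scheme.{u}) (fi : Xi ⟶ Yi) (gi : Yi ⟶ D.obj i) (pY : Yi ⟶ Y₀)
      (pX : Xi ⟶ X₀), IsPullback pY gi g₀ (D.map φ) ∧ IsPullback pX fi f₀ pY ∧ P fi :=
  exists_of_core D c i₀ f₀ g₀ f g qY qX hY hX h hf fun f₁ _ _ h₁ _ q f' hq hf' =>
    hP (bcDiag D i₀ g₀) _ (isLimitBcCone D c i₀ g₀ hc g qY hY.flip) _ f₁ h₁ q f' hq hf'

include hc hY hX in
/-- The descent statement relative to an affine scheme over a stage. -/
theorem DescendsAff.over (hP : DescendsAff P H) [IsAffine Y₀] (h : H f₀) (hf : P f) :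
    ∃ (i : I) (φ : i ⟶ i₀) (Xi Yi : Scheme.{u}) (fi : Xi ⟶ Yi) (gi : Yi ⟶ D.obj i) (pY : Yi ⟶ Y₀)
      (pX : Xi ⟶ X₀), IsPullback pY gi g₀ (D.map φ) ∧ IsPullback pX fi f₀ pY ∧ P fi :=
  have : ∀ j, IsAffine ((bcDiag D i₀ g₀).obj j) := fun j =>
    have : IsAffineHom (pullback.snd (D.map j.hom) g₀) := MorphismProperty.pullback_snd _ _ inferInstance
    isAffine_of_isAffineHom (pullback.snd (D.map j.hom) g₀)
  exists_of_core D c i₀ f₀ g₀ f g qY qX hY hX h hf fun f₁ _ _ h₁ _ q f' hq hf' =>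
    hP (bcDiag D i₀ g₀) _ (isLimitBcCone D c i₀ g₀ hc g qY hY.flip) _ f₁ h₁ q f' hq hf'

end Translate

/-- Descent may be checked on systems of affine schemes. -/
theorem DescendsAff.descends [IsZariskiLocalAtTarget P] [P.IsStableUnderBaseChange]
    [H.IsStableUnderBaseChange] (hP : DescendsAff P H) : Descends P H := by
  intro I _ _ D c hc _ i _ X₀ f₀ _ _ h X q f hsq hf
  classical
  obtain ⟨s, hsfin, hcov⟩ := isCompact_iff_finite_and_eq_biUnion_affineOpens (U := (⊤ : (D.obj i).Opens)).mp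
    isCompact_univ
  have key : ∀ V : (D.obj i).affineOpens, ∃ (j : I) (φ : j ⟶ i), ∀ (k : I) (ψ : k ⟶ j),
      P (pullback.snd f₀ (D.map (ψ ≫ φ)) ∣_ ((D.map (ψ ≫ φ)) ⁻¹ᵁ V.1)) := by
    intro V
    have : IsAffine (V.1 : Scheme.{u}) := V.2
    let W := (c.π.app i) ⁻¹ᵁ V.1
    have hY : IsPullback (c.π.app i ∣_ V.1) W.ι V.1.ι (c.π.app i) := (isPullback_morphismRestrict _ _)
    have hX : IsPullback (pullback.lift ((f ⁻¹ᵁ W).ι ≫ q) ((f ∣_ W) ≫ (c.π.app i ∣_ V.1)) (by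
        rw [Category.assoc, hsq.w, Category.assoc, morphismRestrict_ι, morphismRestrict_ι_assoc]))
        (f ∣_ W) (pullback.snd f₀ V.1.ι) (c.π.app i ∣_ V.1) := by
      refine IsPullback.of_right ?_ (pullback.lift_snd _ _ _) (IsPullback.of_hasPullback f₀ V.1.ι)
      rw [pullback.lift_fst, morphismRestrict_ι]
      exact ((isPullback_morphismRestrict f W).flip.paste_horiz hsq)
    obtain ⟨j, φ, Xi, Yi, fi, gi, pY, pX, h1, h2, hfi⟩ := hP.over D c hc i (pullback.snd f₀ V.1.ι) V.1.ι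
      (f ∣_ W) W.ι (c.π.app i ∣_ V.1) _ hY hX (H.pullback_snd _ _ h) (IsZariskiLocalAtTarget.restrict hf W)
    refine ⟨j, φ, fun k ψ => ?_⟩
    let U := (D.map (ψ ≫ φ)) ⁻¹ᵁ V.1
    have h3 : IsPullback (pX ≫ pullback.fst f₀ V.1.ι) fi f₀ (pY ≫ V.1.ι) :=
      h2.paste_horiz (IsPullback.of_hasPullback f₀ V.1.ι)
    let u : (U : Scheme.{u}) ⟶ Yi := h1.lift (D.map (ψ ≫ φ) ∣_ V.1) (U.ι ≫ D.map ψ)
      (by rw [morphismRestrict_ι, Category.assoc, ← D.map_comp])
    refine of_isPullback_comp h3 u (a' := (pullback.snd f₀ (D.map (ψ ≫ φ)) ⁻¹ᵁ U).ι ≫ pullback.fst f₀ _) ?_ hfi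
    rw [IsPullback.lift_fst_assoc, morphismRestrict_ι]
    exact ((isPullback_morphismRestrict _ U).flip.paste_horiz (IsPullback.of_hasPullback f₀ (D.map (ψ ≫ φ))))
  choose j φ hk using key
  let _ : Fintype s := hsfin.fintype
  let O : Finset I := insert i (Finset.univ.image fun V : s => j V.1)
  have hj : ∀ V : s, j V.1 ∈ O := fun V =>
    Finset.mem_insert_of_mem (Finset.mem_image.mpr ⟨V, Finset.mem_univ _, rfl⟩)
  let M : Finset ((X : I) ×' (Y : I) ×' (_ : X ∈ O) ×' (_ : Y ∈ O) ×' (X ⟶ Y)) :=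
    Finset.univ.image fun V : s => ⟨j V.1, i, hj V, Finset.mem_insert_self _ _, φ V.1⟩
  obtain ⟨k, hk1, hk2⟩ := IsCofiltered.inf_exists O M
  let θ : k ⟶ i := hk1 (Finset.mem_insert_self _ _)
  refine ⟨k, θ, IsZariskiLocalAtTarget.of_iSup_eq_top (fun V : s => (D.map θ) ⁻¹ᵁ V.1.1) ?_ fun V => ?_⟩
  · rw [← Scheme.Hom.preimage_iSup]
    have : (⨆ V : s, V.1.1) = ⊤ := by rw [hcov, iSup_subtype']
    rw [this]; rfl
  · have e : hk1 (hj V) ≫ φ V.1 = θ :=
      hk2 (hj V) (Finset.mem_insert_self _ _) (Finset.mem_image.mpr ⟨V, Finset.mem_univ _, rfl⟩)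
    rw [← e]
    exact hk V.1 k (hk1 (hj V))

/-- Squares of diagonals of base changes are cartesian. -/
theorem isPullback_diagonal_map {X S X' S' : Scheme.{u}} {f : X ⟶ S} {f' : X' ⟶ S'} {q : X' ⟶ X}
    {b : S' ⟶ S} (h : IsPullback q f' f b) :
    IsPullback (pullback.map f' f' f f q q b h.w.symm h.w.symm) (pullback.fst f' f' ≫ f')
        (pullback.fst f f ≫ f) b ∧
      IsPullback q (pullback.diagonal f') (pullback.diagonal f) (pullback.map f' f' f f q q b h.w.symm h.w.symm) := by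
  have h0 := (IsPullback.of_hasPullback f' f').flip.paste_horiz h
  rw [← h.w] at h0
  have h1 : IsPullback (pullback.map f' f' f f q q b h.w.symm h.w.symm) (pullback.fst f' f')
      (pullback.fst f f) q :=
    IsPullback.of_right (by rwa [pullback.lift_snd]) (pullback.lift_fst _ _ _)
      (IsPullback.of_hasPullback f f).flip
  refine ⟨h1.paste_vert h, IsPullback.of_bot (v₂₁ := pullback.fst f' f') (v₂₂ := pullback.fst f f)
    (h₃₁ := q) ?_ ?_ h1⟩
  · rw [pullback.diagonal_fst, pullback.diagonal_fst]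
    exact IsPullback.of_id_snd
  · apply pullback.hom_ext <;> simp

/-- Descent for the diagonal. -/
theorem Descends.diagonal [P.RespectsIso] [H.RespectsIso] [P.IsStableUnderBaseChange] {H' : MorphismProperty Scheme.{u}}
    (hP : Descends P H) (hH : ∀ {X Y : Scheme.{u}} (f : X ⟶ Y), H' f → H (pullback.diagonal f)) :
    Descends P.diagonal H' := by
  intro I _ _ D c hc _ i _ X₀ f₀ _ _ h X q f hsq hf
  have : QuasiSeparated (pullback.diagonal f₀) := inferInstance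
  have : CompactSpace ↥(Limits.pullback f₀ f₀) :=
    have : CompactSpace X₀ := QuasiCompact.compactSpace_of_compactSpace f₀
    QuasiCompact.compactSpace_of_compactSpace (pullback.fst f₀ f₀)
  obtain ⟨hY, hX⟩ := isPullback_diagonal_map hsq
  obtain ⟨j, φ, Xi, Yi, fi, gi, pY, pX, h1, h2, hfi⟩ := hP.over D c hc i (pullback.diagonal f₀)
    (pullback.fst f₀ f₀ ≫ f₀) (pullback.diagonal f) (pullback.fst f f ≫ f) _ q hY hX (hH f₀ h) hf
  refine ⟨j, φ, ?_⟩
  obtain ⟨hY', hX'⟩ := isPullback_diagonal_map (IsPullback.of_hasPullback f₀ (D.map φ))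
  show P (pullback.diagonal (pullback.snd f₀ (D.map φ)))
  refine of_isPullback_comp h2 (h1.lift _ _ hY'.w) (a' := pullback.fst f₀ (D.map φ)) ?_ hfi
  rw [IsPullback.lift_fst]
  exact hX'

end Groth.Agent.LimSch
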