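import Groth.Agent.LimSch.Reduced

set_option autoImplicit false
set_option backward.isDefEq.respectTransparency false

universe u

open CategoryTheory Limits AlgebraicGeometry

namespace Groth.Agent.LimSch

variable {I : Type u} [SmallCategory I] [IsCofiltered I] {D : I ⥤ Scheme.{u}} {c : Cone D}
  [∀ (i j : I) (f : i ⟶ j), IsAffineHom (D.map f)]

/-- Every element of a stalk of the limit comes from the stalk of a stage. -/
lemma exists_stalkMap_eq (hc : IsLimit c) (i : I) (s : c.pt) (a : c.pt.presheaf.stalk s) :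
    ∃ (j : I) (_ : j ⟶ i) (b : (D.obj j).presheaf.stalk (c.π.app j s)),
      (c.π.app j).stalkMap s b = a := by
  obtain ⟨W, hsW, w, rfl⟩ := c.pt.presheaf.exists_germ_eq a
  obtain ⟨j, φ, V, hV, hsV, hVW⟩ := exists_preimage_subset hc i W.2 hsW
  have : IsAffine V.toScheme := hV
  obtain ⟨k, ψ, t, ht⟩ := exists_appLE_eq hc (i := j) (U := V)
    (c.pt.presheaf.map (homOfLE (show c.π.app j ⁻¹ᵁ V ≤ W from hVW)).op w)
  have hs' : c.π.app k s ∈ D.map ψ ⁻¹ᵁ V := (π_preimage_eq ψ V).ge hsV
  refine ⟨k, ψ ≫ φ, (D.obj k).presheaf.germ _ _ hs' t, ?_⟩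
  rw [Scheme.Hom.germ_stalkMap_apply]
  have h1 := congr(c.pt.presheaf.germ _ s (show s ∈ c.π.app j ⁻¹ᵁ V from hsV) $ht)
  simp only [Scheme.Hom.appLE, CommRingCat.comp_apply] at h1
  erw [TopCat.Presheaf.germ_res_apply, TopCat.Presheaf.germ_res_apply] at h1
  exact h1

lemma injective_stalkMap_of_flat {X Y : Scheme.{u}} (f : X ⟶ Y) [Flat f] (x : X) :
    Function.Injective (f.stalkMap x) := by
  algebraize [(f.stalkMap x).hom]
  have : Module.Flat (Y.presheaf.stalk (f x)) (X.presheaf.stalk x) := Flat.stalkMap f x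
  have : IsLocalHom (algebraMap (Y.presheaf.stalk (f x)) (X.presheaf.stalk x)) :=
    inferInstanceAs (IsLocalHom (f.stalkMap x).hom)
  have : Module.FaithfullyFlat (Y.presheaf.stalk (f x)) (X.presheaf.stalk x) :=
    .of_flat_of_isLocalHom
  exact RingHom.FaithfullyFlat.injective (f := (f.stalkMap x).hom) (by assumption)

lemma injective_π_of_injective (hc : IsLimit c) (i : I)
    (hinj : ∀ (j : I) (φ : j ⟶ i), Function.Injective ⇑(D.map φ)) :
    Function.Injective ⇑(c.π.app i) := by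
  intro s t hst
  refine point_ext hc fun k => ?_
  obtain ⟨j, fi, fk, -⟩ := IsCofilteredOrEmpty.cone_objs i k
  have : c.π.app j s = c.π.app j t := hinj j fi (by
    rw [← Scheme.Hom.comp_apply, ← Scheme.Hom.comp_apply, c.w]; exact hst)
  rw [← c.w fk, Scheme.Hom.comp_apply, Scheme.Hom.comp_apply]
  exact congrArg _ this

lemma isInducing_π_of_isInducing (hc : IsLimit c) (i : I)
    (h : ∀ (j : I) (φ : j ⟶ i), Topology.IsInducing ⇑(D.map φ)) :
    Topology.IsInducing ⇑(c.π.app i) := by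
  refine Topology.isInducing_iff_nhds.mpr fun s => le_antisymm ?_ ?_
  · exact (c.π.app i).continuous.continuousAt.le_comap
  · intro U hU
    obtain ⟨W, hWU, hW, hsW⟩ := mem_nhds_iff.mp hU
    obtain ⟨j, φ, V, -, hsV, hVW⟩ := exists_preimage_subset hc i hW hsW
    obtain ⟨V', hV', hVV'⟩ := (h j φ).isOpen_iff.mp V.2
    refine Filter.mem_comap.mpr ⟨V', hV'.mem_nhds ?_, ?_⟩
    · have := hVV'.ge hsV
      rw [Set.mem_preimage, ← Scheme.Hom.comp_apply, c.w] at this
      exact this
    · intro t ht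
      refine hWU (hVW (hVV'.le ?_))
      rw [Set.mem_preimage, ← Scheme.Hom.comp_apply, c.w]
      exact ht

lemma isEmbedding_π_and_isIso_stalkMap (hc : IsLimit c)
    (hoi : ∀ (i j : I) (φ : i ⟶ j), IsOpenImmersion (D.map φ)) (i : I) :
    Topology.IsEmbedding ⇑(c.π.app i) ∧ ∀ s : c.pt, IsIso ((c.π.app i).stalkMap s) := by
  refine ⟨⟨isInducing_π_of_isInducing hc i fun j φ => (hoi j i φ |> fun _ =>
      (D.map φ).isOpenEmbedding.isInducing),
    injective_π_of_injective hc i fun j φ => (hoi j i φ |> fun _ =>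
      (D.map φ).isOpenEmbedding.injective)⟩, fun s => ?_⟩
  have := flat_π hc i fun j φ => (have := hoi j i φ; inferInstance)
  suffices Function.Surjective ((c.π.app i).stalkMap s) from
    (ConcreteCategory.isIso_iff_bijective _).mpr
      ⟨injective_stalkMap_of_flat (c.π.app i) s, this⟩
  intro a
  obtain ⟨j, φ, b, rfl⟩ := exists_stalkMap_eq hc i s a
  have := hoi j i φ
  obtain ⟨b', rfl⟩ := (ConcreteCategory.bijective_of_isIso ((D.map φ).stalkMap (c.π.app j s))).2 b
  rw [← c.w φ]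
  exact ⟨b', by rw [Scheme.Hom.stalkMap_comp]; rfl⟩

end Groth.Agent.LimSch
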