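import Groth.Agent.LimSch.CurveTest
import Groth.Agent.DVRDom.AffineTest
import Groth.Agent.DVRDom.Criterion
import Mathlib.RingTheory.DiscreteValuationRing.TFAE

/-!
Valuative criteria with test curves over Nagata schemes.
-/

set_option autoImplicit false
set_option backward.isDefEq.respectTransparency false

universe u

open CategoryTheory Limits AlgebraicGeometry

namespace Groth.Agent.LimSch.CurveTest

variable {S X Y : Scheme.{u}}

lemma isDiscreteValuationRing_of_dim_one {R : Type u} [CommRing R] [IsDomain R] [IsNoetherianRing R]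
    [IsLocalRing R] [IsIntegrallyClosed R] (h : ringKrullDim R = 1) : IsDiscreteValuationRing R := by
  have hf : ¬ IsField R := fun hf => by
    have := ringKrullDim_eq_zero_of_isField hf
    rw [h] at this
    exact one_ne_zero this
  have : Ring.KrullDimLE 1 R := Ring.krullDimLE_iff.mpr h.le
  refine ((IsDiscreteValuationRing.TFAE R hf).out 0 3 rfl rfl).mpr
    ⟨‹_›, IsLocalRing.maximalIdeal R, ⟨IsLocalRing.isField_iff_maximalIdeal_eq.not.mp hf, inferInstance⟩, ?_⟩
  rintro P ⟨hP0, hP⟩
  exact IsLocalRing.eq_maximalIdeal (hP.isMaximal_of_ne_bot hP0)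

theorem universallyClosed_iff_curveLift (hS : ∀ W : S.affineOpens, CAlg.IsNagata Γ(S, W)) {p : X ⟶ S}
    {q : Y ⟶ S} [LocallyOfFiniteType p] [LocallyOfFiniteType q] (f : X ⟶ Y) (hf : f ≫ q = p) [QuasiCompact f] :
    UniversallyClosed f ↔ CurveLift p q f := by
  have : IsLocallyNoetherian S := ⟨fun W => (hS W).1⟩
  have : IsLocallyNoetherian Y := LocallyOfFiniteType.isLocallyNoetherian q
  have : LocallyOfFiniteType (f ≫ q) := by rw [hf]; infer_instance
  have : LocallyOfFiniteType f := locallyOfFiniteType_of_comp f q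
  refine ⟨fun _ C r _ _ _ hn c _ hdim U _ u g hg hu k hk => ?_, fun h => ?_⟩
  · have : IsLocallyNoetherian C := LocallyOfFiniteType.isLocallyNoetherian r
    have : IsIntegrallyClosed (C.presheaf.stalk c) := hn c
    have := isDiscreteValuationRing_of_dim_one hdim
    refine (DVRDom.universallyClosed_iff_dvr f).mp ‹_› (C.presheaf.stalk c) (k ≫ u) (C.fromSpecStalk c ≫ g) ?_
    rw [Category.assoc, hu, reassoc_of% hk]
  · refine DVRDom.universallyClosed_of_forall_affineSpace f fun n => ?_
    let π := 𝔸(ULift.{u} (Fin n); Y) ↘ Y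
    have : LocallyOfFiniteType π := inferInstance
    have : LocallyOfFiniteType (π ≫ q) := inferInstance
    refine CurveLift.isClosedMap hS (p := pullback.snd f π ≫ π ≫ q) (q := π ≫ q) (f := pullback.snd f π) ?_
    intro C r _ _ _ hn c hc hdim U hU u g hg hu k hk
    obtain ⟨l, hl, hlk⟩ := h C r hn c hc hdim U hU (u ≫ pullback.fst f π) (g ≫ π)
      (by rw [Category.assoc]; exact hg) (by rw [Category.assoc, pullback.condition, reassoc_of% hu]) k hk
    refine ⟨pullback.lift l (C.fromSpecStalk c ≫ g) (by rw [hl, Category.assoc]), pullback.lift_snd _ _ _, ?_⟩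
    apply pullback.hom_ext
    · rw [Category.assoc, pullback.lift_fst, hlk, Category.assoc]
    · rw [Category.assoc, pullback.lift_snd, Category.assoc, hu, reassoc_of% hk]

theorem isSeparated_iff_curveUnique (hS : ∀ W : S.affineOpens, CAlg.IsNagata Γ(S, W)) {p : X ⟶ S}
    {q : Y ⟶ S} [LocallyOfFiniteType p] [LocallyOfFiniteType q] (f : X ⟶ Y) (hf : f ≫ q = p) :
    IsSeparated f ↔
      ∀ (C : Scheme.{u}) (r : C ⟶ S) [IsIntegral C] [LocallyOfFiniteType r] [QuasiCompact r],
        (∀ x : C, IsIntegrallyClosed (C.presheaf.stalk x)) →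
        ∀ (c : C), IsClosed ({c} : Set C) → ringKrullDim (C.presheaf.stalk c) = 1 →
        ∀ (U : C.Opens), (U : Set C) = {c}ᶜ →
        ∀ (u : (U : Scheme.{u}) ⟶ X) (g : C ⟶ Y), g ≫ q = r → u ≫ f = U.ι ≫ g →
        ∀ (k : Spec (CommRingCat.of (FractionRing (C.presheaf.stalk c))) ⟶ (U : Scheme.{u})),
          k ≫ U.ι = Spec.map (CommRingCat.ofHom (algebraMap (C.presheaf.stalk c)
            (FractionRing (C.presheaf.stalk c)))) ≫ C.fromSpecStalk c →
        ∀ l l' : Spec (C.presheaf.stalk c) ⟶ X,
          l ≫ f = C.fromSpecStalk c ≫ g →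
          Spec.map (CommRingCat.ofHom (algebraMap (C.presheaf.stalk c) (FractionRing (C.presheaf.stalk c)))) ≫ l =
            k ≫ u →
          l' ≫ f = C.fromSpecStalk c ≫ g →
          Spec.map (CommRingCat.ofHom (algebraMap (C.presheaf.stalk c) (FractionRing (C.presheaf.stalk c)))) ≫ l' =
            k ≫ u → l = l' := by
  have : IsLocallyNoetherian S := ⟨fun W => (hS W).1⟩
  have : IsLocallyNoetherian Y := LocallyOfFiniteType.isLocallyNoetherian q
  have : IsLocallyNoetherian X := LocallyOfFiniteType.isLocallyNoetherian p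
  have : LocallyOfFiniteType (f ≫ q) := by rw [hf]; infer_instance
  have : LocallyOfFiniteType f := locallyOfFiniteType_of_comp f q
  refine ⟨fun _ C r _ _ _ hn c _ hdim U _ u g _ _ k _ l l' h1 h2 h1' h2' => ?_, fun h => ⟨?_⟩⟩
  · have : IsLocallyNoetherian C := LocallyOfFiniteType.isLocallyNoetherian r
    have : IsIntegrallyClosed (C.presheaf.stalk c) := hn c
    have := isDiscreteValuationRing_of_dim_one hdim
    exact (DVRDom.isSeparated_iff_dvr f).mp ‹_› (C.presheaf.stalk c) l l' (h1.trans h1'.symm) (h2.trans h2'.symm)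
  · have : IsLocallyNoetherian (pullback f f) := LocallyOfFiniteType.isLocallyNoetherian (pullback.fst f f)
    have hcl : IsClosedMap (pullback.diagonal f) := by
      refine CurveLift.isClosedMap hS (p := p) (q := pullback.fst f f ≫ p) (f := pullback.diagonal f) ?_
      intro C r _ _ _ hn c hc hdim U hU u g hg hu k hk
      have hu1 : u = U.ι ≫ g ≫ pullback.fst f f := by
        rw [← reassoc_of% hu, pullback.diagonal_fst, Category.comp_id]
      have hu2 : u = U.ι ≫ g ≫ pullback.snd f f := by
        rw [← reassoc_of% hu, pullback.diagonal_snd, Category.comp_id]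
      have heq := h C r hn c hc hdim U hU u (g ≫ pullback.fst f f ≫ f)
        (by rw [← hg, Category.assoc, Category.assoc, hf])
        (by rw [hu1]; simp only [Category.assoc]) k hk
        (C.fromSpecStalk c ≫ g ≫ pullback.fst f f) (C.fromSpecStalk c ≫ g ≫ pullback.snd f f)
        (by simp only [Category.assoc]) (by rw [hu1, reassoc_of% hk])
        (by simp only [Category.assoc, pullback.condition]) (by rw [hu2, reassoc_of% hk])
      refine ⟨C.fromSpecStalk c ≫ g ≫ pullback.fst f f, ?_, by rw [hu1, reassoc_of% hk]⟩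
      apply pullback.hom_ext
      · simp
      · simp [heq]
    exact .of_isPreimmersion _ hcl.isClosed_range

end Groth.Agent.LimSch.CurveTest
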