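import Groth.Agent.LimSch.Points

/-!
Base change of a cofiltered limit of schemes along a morphism to one of the stages.
-/

set_option autoImplicit false
set_option backward.isDefEq.respectTransparency false

universe u

open CategoryTheory Limits AlgebraicGeometry

namespace Groth.Agent.LimSch

variable {I : Type u} [SmallCategory I] (D : I ⥤ Scheme.{u}) (c : Cone D) (i : I)
  {T : Scheme.{u}} (g : T ⟶ D.obj i)

/-- The diagram `j ↦ Dⱼ ×_{Dᵢ} T`. -/
noncomputable def bcDiag : Over i ⥤ Scheme.{u} where
  obj j := pullback (D.map j.hom) g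
  map {j k} f := pullback.lift (pullback.fst _ _ ≫ D.map f.left) (pullback.snd _ _)
    (by rw [Category.assoc, ← D.map_comp, Over.w f, pullback.condition])
  map_id j := by apply pullback.hom_ext <;> simp
  map_comp f h := by apply pullback.hom_ext <;> simp

@[simp] lemma bcDiag_obj (j : Over i) : (bcDiag D i g).obj j = pullback (D.map j.hom) g := rfl

/-- First projection. -/
noncomputable def bcFst : bcDiag D i g ⟶ Over.forget i ⋙ D where
  app j := pullback.fst (D.map j.hom) g
  naturality j k f := pullback.lift_fst _ _ _

/-- Second projection. -/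
noncomputable def bcSnd : bcDiag D i g ⟶ (Functor.const (Over i)).obj T where
  app j := pullback.snd (D.map j.hom) g
  naturality j k f := by
    simp only [Functor.const_obj_map, Category.comp_id]
    exact pullback.lift_snd _ _ _

/-- The cone with point `lim Dⱼ ×_{Dᵢ} T`. -/
noncomputable def bcCone {X : Scheme.{u}} (q : X ⟶ c.pt) (p : X ⟶ T)
    (h : IsPullback q p (c.π.app i) g) : Cone (bcDiag D i g) where
  pt := X
  π :=
  { app := fun j => pullback.lift (q ≫ c.π.app j.left) p
      (by rw [Category.assoc, c.w]; exact h.w)
    naturality := fun j k f => by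
      simp only [Functor.const_obj_obj, Functor.const_obj_map, Category.id_comp]
      apply pullback.hom_ext
      · simp [bcDiag]
      · simp [bcDiag] }

lemma isPullback_bcDiag (j : Over i) :
    IsPullback ((bcFst D i g).app j) ((bcSnd D i g).app j) (D.map j.hom) g :=
  IsPullback.of_hasPullback _ _

lemma isPullback_bcDiag_map {j k : Over i} (f : j ⟶ k) :
    IsPullback ((bcDiag D i g).map f) ((bcFst D i g).app j) ((bcFst D i g).app k) (D.map f.left) := by
  refine IsPullback.of_right (h₁₂ := (bcSnd D i g).app k) (h₂₂ := D.map k.hom) (v₁₃ := g)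
    ?_ ((bcFst D i g).naturality f) (isPullback_bcDiag D i g k).flip
  change IsPullback (pullback.lift (pullback.fst _ _ ≫ D.map f.left) (pullback.snd _ _) _ ≫
    pullback.snd (D.map k.hom) g) ((bcFst D i g).app j) g (D.map f.left ≫ D.map k.hom)
  rw [pullback.lift_snd, ← D.map_comp, Over.w f]
  exact (isPullback_bcDiag D i g j).flip

/-- The base change of a limit cone is a limit cone. -/
noncomputable def isLimitBcCone [IsCofiltered I] (hc : IsLimit c) {X : Scheme.{u}} (q : X ⟶ c.pt)
    (p : X ⟶ T) (h : IsPullback q p (c.π.app i) g) : IsLimit (bcCone D c i g q p h) :=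
  have : IsConnected (Over i) := isConnected_of_hasTerminal _
  isLimitOfIsPullbackOfIsConnected (bcFst D i g) _ _
    (by exact { hom := q, w := fun j => (pullback.lift_fst _ _ _).symm })
    (fun j => by
      refine IsPullback.of_right (h₁₂ := (bcSnd D i g).app j) (h₂₂ := D.map j.hom) (v₁₃ := g)
        ?_ (pullback.lift_fst _ _ _) (isPullback_bcDiag D i g j).flip
      change IsPullback (pullback.lift (q ≫ c.π.app j.left) p _ ≫ pullback.snd _ _) q g
        (c.π.app j.left ≫ D.map j.hom)
      erw [pullback.lift_snd, c.w j.hom]
      exact h.flip)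
    ((Functor.Initial.isLimitWhiskerEquiv (Over.forget i) c).symm hc)

instance isAffineHom_bcDiag_map [∀ (i j : I) (f : i ⟶ j), IsAffineHom (D.map f)]
    {j k : Over i} (f : j ⟶ k) : IsAffineHom ((bcDiag D i g).map f) :=
  MorphismProperty.of_isPullback (P := @IsAffineHom) (isPullback_bcDiag_map D i g f).flip inferInstance

instance compactSpace_bcDiag [∀ (i j : I) (f : i ⟶ j), IsAffineHom (D.map f)] [CompactSpace T]
    (j : Over i) : CompactSpace ((bcDiag D i g).obj j) :=
  have : IsAffineHom (pullback.snd (D.map j.hom) g) := MorphismProperty.pullback_snd _ _ inferInstance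
  QuasiCompact.compactSpace_of_compactSpace (pullback.snd (D.map j.hom) g)

instance quasiSeparatedSpace_bcDiag [∀ (i j : I) (f : i ⟶ j), IsAffineHom (D.map f)]
    [QuasiSeparatedSpace T] (j : Over i) : QuasiSeparatedSpace ((bcDiag D i g).obj j) :=
  have : IsAffineHom (pullback.snd (D.map j.hom) g) := MorphismProperty.pullback_snd _ _ inferInstance
  quasiSeparatedSpace_of_quasiSeparated (pullback.snd (D.map j.hom) g)

end Groth.Agent.LimSch
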