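import Groth.Agent.LimSch.Points
import Mathlib.AlgebraicGeometry.Morphisms.Flat
import Mathlib.RingTheory.Flat.EquationalCriterion

/-!
Sections of the structure sheaf on a cofiltered limit of schemes with affine transition maps, and
their consequences for flatness and reducedness.
-/

set_option autoImplicit false
set_option backward.isDefEq.respectTransparency false

universe u

open CategoryTheory Limits AlgebraicGeometry

namespace Groth.Agent.LimSch

variable {I : Type u} [SmallCategory I] [IsCofiltered I] {D : I ⥤ Scheme.{u}} {c : Cone D}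
  [∀ (i j : I) (f : i ⟶ j), IsAffineHom (D.map f)]

lemma π_preimage_eq {i j : I} (φ : j ⟶ i) (U : (D.obj i).Opens) :
    c.π.app j ⁻¹ᵁ D.map φ ⁻¹ᵁ U = c.π.app i ⁻¹ᵁ U := by
  rw [← Scheme.Hom.comp_preimage, c.w]

lemma app_eq_zero_of_appLE {X Y : Scheme.{u}} (f : X ⟶ Y) {U : Y.Opens} {V : X.Opens}
    (e : V = f ⁻¹ᵁ U) (s : Γ(Y, U)) (h : f.appLE U V e.le s = 0) : f.app U s = 0 := by
  subst e
  rwa [Scheme.Hom.app_eq_appLE]

lemma appLE_eq_zero {X Y : Scheme.{u}} (f : X ⟶ Y) {U : Y.Opens} {V : X.Opens}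
    (e : V ≤ f ⁻¹ᵁ U) (s : Γ(Y, U)) (h : f.app U s = 0) : f.appLE U V e s = 0 := by
  rw [Scheme.Hom.appLE, CommRingCat.comp_apply, h, map_zero]

lemma appLE_comp' {X Y Z : Scheme.{u}} {g : X ⟶ Y} {f : Y ⟶ Z} {h : X ⟶ Z} (w : g ≫ f = h)
    {U : Z.Opens} {V : Y.Opens} {W : X.Opens} (e₁ : V ≤ f ⁻¹ᵁ U) (e₂ : W ≤ g ⁻¹ᵁ V)
    (e₃ : W ≤ h ⁻¹ᵁ U) : f.appLE U V e₁ ≫ g.appLE V W e₂ = h.appLE U W e₃ := by
  subst w
  exact Scheme.Hom.appLE_comp_appLE _ _ _ _ _ _ _

/-- Sections over the preimage of a qcqs open of a stage come from a finer stage. -/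
lemma exists_appLE_eq (hc : IsLimit c) {i : I} {U : (D.obj i).Opens} [CompactSpace U.toScheme]
    [QuasiSeparatedSpace U.toScheme] (s : Γ(c.pt, c.π.app i ⁻¹ᵁ U)) :
    ∃ (j : I) (φ : j ⟶ i) (t : Γ(D.obj j, D.map φ ⁻¹ᵁ U)),
      (c.π.app j).appLE (D.map φ ⁻¹ᵁ U) (c.π.app i ⁻¹ᵁ U) (π_preimage_eq φ U).ge t = s := by
  have : ∀ {i j} (f : i ⟶ j), IsAffineHom (D.map f) := fun f => inferInstance
  have h1 (j : Over i) : IsAffineHom (D.map j.hom ∣_ U) :=
    IsZariskiLocalAtTarget.restrict (P := @IsAffineHom) inferInstance U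
  have (j : Over i) : CompactSpace ↥((opensDiagram D i U).obj j) :=
    QuasiCompact.compactSpace_of_compactSpace (D.map j.hom ∣_ U)
  have (j : Over i) : QuasiSeparatedSpace ↥((opensDiagram D i U).obj j) :=
    quasiSeparatedSpace_of_quasiSeparated (D.map j.hom ∣_ U)
  obtain ⟨j, t, ht⟩ := exists_appTop_π_eq_of_isLimit _ _ (isLimitOpensCone D c hc i U)
    ((c.π.app i ⁻¹ᵁ U).topIso.inv s)
  refine ⟨j.left, j.hom, (D.map j.hom ⁻¹ᵁ U).topIso.hom t, ?_⟩
  have ht' := congr((c.π.app i ⁻¹ᵁ U).topIso.hom $ht)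
  rw [← CommRingCat.comp_apply, Iso.inv_hom_id, CommRingCat.id_apply] at ht'
  erw [← CommRingCat.comp_apply] at ht'
  conv_rhs => rw [ht']
  have e : ∀ {A B : CommRingCat.{u}} {f g : A ⟶ B}, f = g → ∀ a : A, f a = g a := fun h a => by rw [h]
  refine (CommRingCat.comp_apply _ _ _).symm.trans (e ?_ t)
  simp [Scheme.Hom.app_eq_appLE, Scheme.Hom.resLE_appLE]

/-- A section killed in the limit is killed at a finer stage. -/
lemma exists_app_eq_zero (hc : IsLimit c) {i : I} {U : (D.obj i).Opens}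
    (hU : IsCompact (U : Set (D.obj i))) (s : Γ(D.obj i, U)) (hs : (c.π.app i).app U s = 0) :
    ∃ (j : I) (φ : j ⟶ i), (D.map φ).app U s = 0 := by
  have : ∀ {i j} (f : i ⟶ j), IsAffineHom (D.map f) := fun f => inferInstance
  exact exists_app_map_eq_zero_of_isLimit D c hc hU s hs

lemma flat_π (hc : IsLimit c) (i : I) (hf : ∀ (j : I) (φ : j ⟶ i), Flat (D.map φ)) :
    Flat (c.π.app i) := by
  have : ∀ {i j} (f : i ⟶ j), IsAffineHom (D.map f) := fun f => inferInstance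
  have hπ := isAffineHom_π_app _ _ hc i
  rw [IsZariskiLocalAtTarget.iff_of_iSup_eq_top (P := @Flat) (fun U : (D.obj i).affineOpens => U.1)
    (iSup_affineOpens_eq_top _)]
  rintro ⟨U, hU⟩
  have : IsAffine U.toScheme := hU
  have : IsAffineHom (c.π.app i ∣_ U) := IsZariskiLocalAtTarget.restrict hπ U
  have : IsAffine (c.π.app i ⁻¹ᵁ U).toScheme := hU.preimage _
  rw [HasRingHomProperty.iff_of_isAffine (P := @Flat)]
  suffices ((c.π.app i).app U).hom.Flat by
    have e : Arrow.mk ((c.π.app i).app U) ≅ Arrow.mk ((c.π.app i ∣_ U).appTop) :=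
      Arrow.isoMk U.topIso.symm (c.π.app i ⁻¹ᵁ U).topIso.symm (by
        simp [morphismRestrict_appLE, Scheme.Hom.app_eq_appLE])
    exact (RingHom.Flat.propertyIsLocal.respectsIso.arrow_mk_iso_iff e).mp this
  set f := ((c.π.app i).app U).hom
  algebraize [f]
  refine Module.Flat.of_forall_isTrivialRelation fun {l r x} hrel => ?_
  -- lift the `x`s to a common stage where the relation holds
  choose j φ y hy using fun a => exists_appLE_eq hc (i := i) (U := U) (x a)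
  classical
  obtain ⟨k, g, hg⟩ := IsCofiltered.inf_exists (insert i (Finset.univ.image j))
    (Finset.univ.image fun a => ⟨j a, i, by simp, by simp, φ a⟩)
  let ψ : k ⟶ i := g (by simp)
  let ya (a : Fin l) : Γ(D.obj k, D.map ψ ⁻¹ᵁ U) :=
    (D.map (g (X := j a) (by simp))).appLE (D.map (φ a) ⁻¹ᵁ U) (D.map ψ ⁻¹ᵁ U) (by
      rw [← Scheme.Hom.comp_preimage, ← D.map_comp, hg (by simp) (by simp) (Finset.mem_image_of_mem (fun a => (⟨j a, i, by simp, by simp, φ a⟩ : Σ' (X Y : I) (_ : X ∈ _) (_ : Y ∈ _), X ⟶ Y)) (Finset.mem_univ a))]) (y a)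
  let z : Γ(D.obj k, D.map ψ ⁻¹ᵁ U) := ∑ a, (D.map ψ).app U (r a) * ya a
  let q := (c.π.app k).appLE (D.map ψ ⁻¹ᵁ U) (c.π.app i ⁻¹ᵁ U) (π_preimage_eq ψ U).ge
  have hqa (a : Γ(D.obj i, U)) : q ((D.map ψ).app U a) = (c.π.app i).app U a := by
    rw [← CommRingCat.comp_apply]
    refine ConcreteCategory.congr_hom ?_ a
    simp only [q, Scheme.Hom.app_eq_appLE]; exact appLE_comp' (c.w ψ) _ _ _
  have hqy (a : Fin l) : q (ya a) = x a := by
    conv_rhs => rw [← hy a]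
    simp only [q, ya, ← CommRingCat.comp_apply]
    refine ConcreteCategory.congr_hom ?_ (y a)
    exact appLE_comp' (c.w _) _ _ _
  have hqz : q z = 0 := by
    rw [map_sum, ← hrel]
    refine Finset.sum_congr rfl fun a _ => ?_
    rw [map_mul, hqa, hqy, Algebra.smul_def]
    rfl
  obtain ⟨m, χ, hm⟩ := exists_app_eq_zero hc (hU.preimage (D.map ψ)).isCompact z
    (app_eq_zero_of_appLE _ (π_preimage_eq ψ U).symm z hqz)
  -- flatness at stage `m`
  let ω := (D.map (χ ≫ ψ)).app U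
  have hω : ω.hom.Flat := by
    rw [show ω = (D.map (χ ≫ ψ)).appLE U (D.map (χ ≫ ψ) ⁻¹ᵁ U) le_rfl by
      simp [ω, Scheme.Hom.app_eq_appLE]]
    exact (hf m (χ ≫ ψ)).flat_appLE hU (hU.preimage _) _
  algebraize [ω.hom]
  let τ := (D.map χ).appLE (D.map ψ ⁻¹ᵁ U) (D.map (χ ≫ ψ) ⁻¹ᵁ U)
    (by rw [← Scheme.Hom.comp_preimage, ← D.map_comp])
  have hτa (a : Γ(D.obj i, U)) : τ ((D.map ψ).app U a) = ω a := by
    rw [← CommRingCat.comp_apply]
    refine ConcreteCategory.congr_hom ?_ a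
    simp only [τ, ω, Scheme.Hom.app_eq_appLE]; exact appLE_comp' (D.map_comp χ ψ).symm _ _ _
  have hτz : τ z = 0 := appLE_eq_zero _ _ z hm
  have hrel' : ∑ a, r a • τ (ya a) = 0 := by
    rw [← hτz, map_sum]
    refine Finset.sum_congr rfl fun a _ => ?_
    rw [map_mul, hτa, Algebra.smul_def]
    rfl
  obtain ⟨p, w, v, hv, hvr⟩ := Module.Flat.isTrivialRelation_of_sum_smul_eq_zero hrel'
  let Q := (c.π.app m).appLE (D.map (χ ≫ ψ) ⁻¹ᵁ U) (c.π.app i ⁻¹ᵁ U) (π_preimage_eq (χ ≫ ψ) U).ge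
  have hQa (a : Γ(D.obj i, U)) : Q (ω a) = (c.π.app i).app U a := by
    rw [← CommRingCat.comp_apply]
    refine ConcreteCategory.congr_hom ?_ a
    simp only [Q, ω, Scheme.Hom.app_eq_appLE]; exact appLE_comp' (c.w _) _ _ _
  refine ⟨p, w, fun b => Q (v b), fun a => ?_, hvr⟩
  have hQy : Q (τ (ya a)) = x a := by
    rw [← hqy a, ← CommRingCat.comp_apply]
    refine ConcreteCategory.congr_hom ?_ (ya a)
    simp only [Q, q, τ]; exact appLE_comp' (c.w _) _ _ _
  rw [← hQy, show τ (ya a) = _ from hv a, map_sum]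
  refine Finset.sum_congr rfl fun b _ => ?_
  rw [Algebra.smul_def, Algebra.smul_def, map_mul]
  exact congrArg (· * Q (v b)) (hQa _)

/-- The limit is reduced if cofinally many stages are. -/
lemma isReduced_of_cofinal (hc : IsLimit c) (h : ∀ i, ∃ (j : I) (_ : j ⟶ i), IsReduced (D.obj j)) :
    IsReduced c.pt := by
  obtain ⟨i⟩ := IsCofiltered.nonempty (C := I)
  have : ∀ {i j} (f : i ⟶ j), IsAffineHom (D.map f) := fun f => inferInstance
  have := isAffineHom_π_app _ _ hc i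
  have hcov : TopologicalSpace.IsOpenCover
      (fun U : (D.obj i).affineOpens => c.π.app i ⁻¹ᵁ U.1) :=
    TopologicalSpace.IsOpenCover.comap (iSup_affineOpens_eq_top (D.obj i))
      (c.π.app i).base.hom
  let 𝒰 := Scheme.openCoverOfIsOpenCover _ _ hcov
  suffices ∀ U : (D.obj i).affineOpens, IsReduced (c.π.app i ⁻¹ᵁ U.1).toScheme from
    @IsReduced.of_openCover _ 𝒰 this
  intro U
  have : IsAffine (c.π.app i ⁻¹ᵁ U.1).toScheme := U.2.preimage _
  suffices h0 : _root_.IsReduced Γ(c.pt, c.π.app i ⁻¹ᵁ U.1) by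
    have : _root_.IsReduced Γ((c.π.app i ⁻¹ᵁ U.1).toScheme, ⊤) :=
      haveI : _root_.IsReduced Γ(((Functor.const I).obj c.pt).obj i, c.π.app i ⁻¹ᵁ U.1) := h0
      isReduced_of_injective (c.π.app i ⁻¹ᵁ U.1).topIso.hom.hom
        (c.π.app i ⁻¹ᵁ U.1).topIso.commRingCatIsoToRingEquiv.injective
    exact isReduced_of_isAffine_isReduced _
  refine ⟨fun s ⟨n, hn⟩ => ?_⟩
  have : IsAffine U.1.toScheme := U.2
  obtain ⟨j, φ, t, rfl⟩ := exists_appLE_eq hc (i := i) (U := U.1) s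
  have hn' : (c.π.app j).app (D.map φ ⁻¹ᵁ U.1) (t ^ n) = 0 :=
    app_eq_zero_of_appLE _ (π_preimage_eq φ U.1).symm _ (by rw [map_pow]; exact hn)
  obtain ⟨k, ψ, hk⟩ := exists_app_eq_zero hc (U.2.preimage (D.map φ)).isCompact (t ^ n) hn'
  obtain ⟨l, χ, hl⟩ := h k
  have hz : (D.map χ).app _ ((D.map ψ).app _ t) = 0 := by
    refine IsReduced.eq_zero _ ⟨n, ?_⟩
    rw [← map_pow, ← map_pow, hk, map_zero]
  have hcomp : (c.π.app j).appLE (D.map φ ⁻¹ᵁ U.1) (c.π.app i ⁻¹ᵁ U.1) (π_preimage_eq φ U.1).ge =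
      (D.map ψ).app _ ≫ (D.map χ).app _ ≫
        (c.π.app l).appLE _ (c.π.app i ⁻¹ᵁ U.1)
          (by rw [π_preimage_eq, π_preimage_eq, π_preimage_eq]) := by
    simp [Scheme.Hom.app_eq_appLE, Scheme.Hom.appLE_comp_appLE]
  rw [hcomp, CommRingCat.comp_apply, CommRingCat.comp_apply, hz, map_zero]

end Groth.Agent.LimSch
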