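import Groth.Agent.LimSch.MaxPoints
import Groth.Agent.LimSch.Stalks

/-!
Irreducible and connected components of cofiltered limits of schemes.
-/

set_option autoImplicit false
set_option backward.isDefEq.respectTransparency false

universe u

open CategoryTheory Limits AlgebraicGeometry Topology

namespace Groth.Agent.LimSch

section Top

variable {X Y : Type*} [TopologicalSpace X] [TopologicalSpace Y] {f : X → Y}

lemma bijOn_irreducibleComponents [QuasiSober X] [T0Space X] [TopologicalSpace.NoetherianSpace X]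
    (hf : Continuous f) (hd : DenseRange f)
    (hanti : ∀ a b : X, IsMaxPt a → IsMaxPt b → f a ⤳ f b → a = b) :
    Set.BijOn (fun T : Set X => closure (f '' T)) (irreducibleComponents X) (irreducibleComponents Y) := by
  let M := {x : X | IsMaxPt x}
  have hM : M.Finite := finite_isMaxPt
  have him : ∀ x : X, closure (f '' closure {x}) = closure {f x} := fun x => by
    rw [closure_image_closure hf, Set.image_singleton]
  have hcomp : ∀ T, T ∈ irreducibleComponents X ↔ ∃ x ∈ M, closure {x} = T := by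
    intro T
    constructor
    · intro hT
      obtain ⟨ξ, hξ⟩ : ∃ ξ, IsGenericPoint ξ T :=
        ⟨_, hT.1.isGenericPoint_genericPoint (isClosed_of_mem_irreducibleComponents _ hT)⟩
      refine ⟨ξ, (isMaxPt_iff_mem_genericPoints ξ).mpr ?_, hξ⟩
      change closure {ξ} ∈ irreducibleComponents X
      rw [hξ.def]
      exact hT
    · rintro ⟨x, hx, rfl⟩
      exact (isMaxPt_iff_mem_genericPoints x).mp hx
  have hcov : ∀ y : Y, ∃ x ∈ M, y ∈ closure ({f x} : Set Y) := by
    have hsub : Set.range f ⊆ ⋃ x ∈ M, closure {f x} := by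
      rintro _ ⟨z, rfl⟩
      obtain ⟨x, hx, hxz⟩ := exists_isMaxPt_specializes z
      exact Set.mem_biUnion hx (hxz.map hf).mem_closure
    intro y
    have hall := closure_minimal hsub (hM.isClosed_biUnion fun _ _ => isClosed_closure) (hd y)
    simpa using hall
  have hirr : ∀ x ∈ M, closure ({f x} : Set Y) ∈ irreducibleComponents Y := by
    intro x hx
    refine ⟨isIrreducible_singleton.closure, fun S hS hle => ?_⟩
    have hS' : S ⊆ ⋃ z ∈ hM.toFinset, closure ({f z} : Set Y) := fun y _ => by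
      obtain ⟨z, hz, hyz⟩ := hcov y
      exact Set.mem_biUnion (hM.mem_toFinset.mpr hz) hyz
    classical
    obtain ⟨t, ht, hSt⟩ := isIrreducible_iff_sUnion_isClosed.mp hS
      (hM.toFinset.image fun z => closure ({f z} : Set Y)) (by simp) (by simpa using hS')
    obtain ⟨z, hz, rfl⟩ := Finset.mem_image.mp ht
    have hzx : f z ⤳ f x := specializes_iff_mem_closure.mpr (hSt (hle (subset_closure rfl)))
    rw [hanti z x (hM.mem_toFinset.mp hz) hx hzx] at hSt
    exact hSt
  refine ⟨fun T hT => ?_, fun T hT T' hT' heq => ?_, fun S hS => ?_⟩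
  · obtain ⟨x, hx, rfl⟩ := (hcomp T).mp hT
    simp only [him]
    exact hirr x hx
  · obtain ⟨x, hx, rfl⟩ := (hcomp T).mp hT
    obtain ⟨x', hx', rfl⟩ := (hcomp T').mp hT'
    simp only [him] at heq
    rw [hanti x x' hx hx' (specializes_iff_mem_closure.mpr (heq ▸ subset_closure rfl))]
  · classical
    obtain ⟨t, ht, hSt⟩ := isIrreducible_iff_sUnion_isClosed.mp hS.1
      (hM.toFinset.image fun z => closure ({f z} : Set Y)) (by simp) (fun y _ => by
        obtain ⟨z, hz, hyz⟩ := hcov y
        exact ⟨_, Finset.mem_coe.mpr (Finset.mem_image_of_mem _ (hM.mem_toFinset.mpr hz)), hyz⟩)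
    obtain ⟨z, hz, rfl⟩ := Finset.mem_image.mp ht
    have hzM := hM.mem_toFinset.mp hz
    exact ⟨closure {z}, (hcomp _).mpr ⟨z, hzM, rfl⟩,
      (him z).trans ((hS.2 isIrreducible_singleton.closure hSt).antisymm hSt)⟩

lemma finite_range_connectedComponent [TopologicalSpace.NoetherianSpace X] :
    (Set.range (connectedComponent : X → Set X)).Finite := by
  have hfin := TopologicalSpace.NoetherianSpace.finite_irreducibleComponents (α := X)
  choose p hp using fun T : irreducibleComponents X => T.2.1.nonempty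
  have := hfin.to_subtype
  refine (Set.finite_range fun T => connectedComponent (p T)).subset ?_
  rintro _ ⟨x, rfl⟩
  refine ⟨⟨_, irreducibleComponent_mem_irreducibleComponents x⟩, ?_⟩
  have hsub := (isIrreducible_irreducibleComponent (x := x)).isConnected.subset_connectedComponent
    mem_irreducibleComponent
  exact (connectedComponent_eq (hsub (hp ⟨_, irreducibleComponent_mem_irreducibleComponents x⟩))).symm

lemma isClopen_connectedComponent' [TopologicalSpace.NoetherianSpace X] (x : X) :
    IsClopen (connectedComponent x) := by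
  refine ⟨isClosed_connectedComponent, ?_⟩
  rw [← isClosed_compl_iff]
  have : (connectedComponent x)ᶜ = ⋃ C ∈ {C ∈ Set.range (connectedComponent : X → Set X) |
      C ≠ connectedComponent x}, C := by
    ext y
    simp only [Set.mem_compl_iff, Set.mem_iUnion, exists_prop]
    refine ⟨fun hy => ⟨connectedComponent y, ⟨⟨y, rfl⟩, fun h => hy (h ▸ mem_connectedComponent)⟩,
      mem_connectedComponent⟩, ?_⟩
    rintro ⟨_, ⟨⟨z, rfl⟩, hne⟩, hyz⟩ hyx
    exact hne ((connectedComponent_eq hyz).trans (connectedComponent_eq hyx).symm)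
  rw [this]
  exact (finite_range_connectedComponent.subset fun C hC => hC.1).isClosed_biUnion
    (by rintro _ ⟨⟨z, rfl⟩, -⟩; exact isClosed_connectedComponent)

lemma bijOn_connectedComponents [TopologicalSpace.NoetherianSpace X] (hf : Continuous f)
    (hd : DenseRange f)
    (hsep : ∀ a b : X, connectedComponent a ≠ connectedComponent b →
      Disjoint (closure (f '' connectedComponent a)) (closure (f '' connectedComponent b))) :
    Set.BijOn (fun C : Set X => closure (f '' C)) (Set.range (connectedComponent : X → Set X))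
      (Set.range (connectedComponent : Y → Set Y)) := by
  let R := Set.range (connectedComponent : X → Set X)
  have hR : R.Finite := finite_range_connectedComponent
  have hcov : ∀ y : Y, ∃ a, y ∈ closure (f '' connectedComponent a) := by
    intro y
    have hsub : Set.range f ⊆ ⋃ C ∈ R, closure (f '' C) := by
      rintro _ ⟨z, rfl⟩
      exact Set.mem_biUnion ⟨z, rfl⟩ (subset_closure ⟨z, mem_connectedComponent, rfl⟩)
    have := closure_minimal hsub (hR.isClosed_biUnion fun _ _ => isClosed_closure) (hd y)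
    simpa [R] using this
  have key : ∀ a, ∀ y ∈ closure (f '' connectedComponent a),
      connectedComponent y = closure (f '' connectedComponent a) := by
    intro a y hy
    refine Set.Subset.antisymm ?_ ?_
    · refine IsClopen.connectedComponent_subset ⟨isClosed_closure, ?_⟩ hy
      rw [← isClosed_compl_iff]
      have : (closure (f '' connectedComponent a))ᶜ =
          ⋃ C ∈ {C ∈ R | C ≠ connectedComponent a}, closure (f '' C) := by
        ext z
        simp only [Set.mem_compl_iff, Set.mem_iUnion, exists_prop]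
        constructor
        · intro hz
          obtain ⟨b, hb⟩ := hcov z
          exact ⟨_, ⟨⟨b, rfl⟩, fun h => hz (h ▸ hb)⟩, hb⟩
        · rintro ⟨_, ⟨⟨b, rfl⟩, hne⟩, hzb⟩
          exact Set.disjoint_left.mp (hsep b a hne) hzb
      rw [this]
      exact (hR.subset fun C hC => hC.1).isClosed_biUnion fun _ _ => isClosed_closure
    · exact ((isConnected_connectedComponent.image f hf.continuousOn).closure).subset_connectedComponent hy
  refine ⟨?_, ?_, ?_⟩
  · rintro _ ⟨a, rfl⟩
    exact ⟨f a, key a _ (subset_closure ⟨a, mem_connectedComponent, rfl⟩)⟩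
  · rintro _ ⟨a, rfl⟩ _ ⟨b, rfl⟩ heq
    by_contra hne
    exact Set.disjoint_left.mp (hsep a b hne) (subset_closure ⟨a, mem_connectedComponent, rfl⟩)
      (heq.le (subset_closure ⟨a, mem_connectedComponent, rfl⟩))
  · rintro _ ⟨y, rfl⟩
    obtain ⟨a, ha⟩ := hcov y
    exact ⟨_, ⟨a, rfl⟩, (key a y ha).symm⟩

end Top

variable {I : Type u} [SmallCategory I] [IsCofiltered I] {D : I ⥤ Scheme.{u}} {c : Cone D}
  [∀ (i j : I) (f : i ⟶ j), IsAffineHom (D.map f)]

lemma exists_antichain_stage (hc : IsLimit c) (i₀ : I) [TopologicalSpace.NoetherianSpace c.pt] :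
    ∃ (i : I) (_ : i ⟶ i₀), ∀ (j : I) (_ : j ⟶ i) (a b : c.pt), IsMaxPt a → IsMaxPt b →
      c.π.app j a ⤳ c.π.app j b → a = b := by
  classical
  let M := {x : c.pt | IsMaxPt x}
  have : Finite M := finite_isMaxPt.to_subtype
  have key : ∀ p : {p : M × M // p.1 ≠ p.2}, ∃ (j : I) (_ : j ⟶ i₀),
      ¬ c.π.app j p.1.1.1 ⤳ c.π.app j p.1.2.1 := by
    intro p
    have hne : ¬ (p.1.1.1 ⤳ p.1.2.1) := fun h => p.2 (Subtype.ext (p.1.2.2 _ h))
    by_contra! hall
    refine hne (specializes_of_forall_π hc fun k => ?_)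
    obtain ⟨l, fk, fi, -⟩ := IsCofilteredOrEmpty.cone_objs k i₀
    have h2 := (hall l fi).map (D.map fk).continuous
    rwa [π_apply fk p.1.1.1, π_apply fk p.1.2.1] at h2
  choose j φ hj using key
  obtain ⟨k, ψ, θ, hk⟩ := IsCofiltered.wideCospan φ
  refine ⟨k, ψ, fun l χ a b ha hb hab => ?_⟩
  by_contra hne
  refine hj ⟨(⟨a, ha⟩, ⟨b, hb⟩), fun h => hne (congrArg Subtype.val h)⟩ ?_
  have h2 := hab.map (D.map (χ ≫ θ ⟨(⟨a, ha⟩, ⟨b, hb⟩), fun h => hne (congrArg Subtype.val h)⟩)).continuous
  rwa [π_apply _ a, π_apply _ b] at h2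

lemma exists_clopen_stage (hc : IsLimit c) (i₀ : I) [CompactSpace (D.obj i₀)]
    (hdense : ∀ (j : I) (_ : j ⟶ i₀), DenseRange ⇑(c.π.app j))
    {W : Set c.pt} (hW : IsClopen W) :
    ∃ (k : I) (_ : k ⟶ i₀) (A : Set (D.obj k)), IsClopen A ∧ (⇑(c.π.app k) ⁻¹' A : Set c.pt) = W := by
  have : ∀ {i j} (f : i ⟶ j), IsAffineHom (D.map f) := fun f => inferInstance
  have := isAffineHom_π_app _ _ hc i₀
  have hcs : CompactSpace c.pt := QuasiCompact.compactSpace_of_compactSpace (c.π.app i₀)
  obtain ⟨a, α, V, -, hWV, hVW, -⟩ := exists_compact_open_between hc i₀ hW.1.isCompact hW.2 le_rfl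
    isOpen_univ (Set.subset_univ _)
  obtain ⟨b, β, V', -, hWV', hVW', -⟩ := exists_compact_open_between hc a
    hW.compl.1.isCompact hW.compl.2 le_rfl isOpen_univ (Set.subset_univ _)
  have : CompactSpace (D.obj b) := QuasiCompact.compactSpace_of_compactSpace (D.map (β ≫ α))
  obtain ⟨k, ψ, hk⟩ := exists_stage_subset hc b IsLocallyConstructible.univ isCompact_univ
    isOpen_univ ((V.2.preimage (D.map β).continuous).union V'.2) (fun x _ => by
    rcases em (x ∈ W) with hx | hx
    · exact Or.inl (show D.map β (c.π.app b x) ∈ V by rw [π_apply]; exact hWV hx)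
    · exact Or.inr (hWV' hx))
  let A : Set (D.obj k) := ⇑(D.map ψ) ⁻¹' (⇑(D.map β) ⁻¹' V)
  let A' : Set (D.obj k) := ⇑(D.map ψ) ⁻¹' V'
  have hAo : IsOpen A := (V.2.preimage (D.map β).continuous).preimage (D.map ψ).continuous
  have hA'o : IsOpen A' := V'.2.preimage (D.map ψ).continuous
  have hpre : (⇑(c.π.app k) ⁻¹' A : Set c.pt) = W := by
    ext x
    change D.map β (D.map ψ (c.π.app k x)) ∈ V ↔ _
    rw [π_apply, π_apply]
    exact ⟨fun h => hVW h, fun h => hWV h⟩
  have hdisj : ∀ y, y ∈ A → y ∉ A' := by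
    intro y hy hy'
    obtain ⟨z, hz, hz'⟩ := (hdense k (ψ ≫ β ≫ α)).exists_mem_open (hAo.inter hA'o) ⟨y, hy, hy'⟩
    exact hVW' (show c.π.app b z ∈ V' by rw [← π_apply ψ]; exact hz') (hpre.le hz)
  refine ⟨k, ψ ≫ β ≫ α, A, ⟨?_, hAo⟩, hpre⟩
  have : A = A'ᶜ := by
    ext y
    refine ⟨hdisj y, fun hy => ?_⟩
    rcases hk (show D.map ψ y ∈ Set.univ ∩ Set.univ from ⟨trivial, trivial⟩) with h | h
    · exact h
    · exact absurd h hy
  rw [this]
  exact hA'o.isClosed_compl

lemma exists_bijOn_irreducibleComponents (hc : IsLimit c) (i₀ : I)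
    [TopologicalSpace.NoetherianSpace c.pt]
    (hdense : ∀ (j : I) (_ : j ⟶ i₀), DenseRange ⇑(c.π.app j)) :
    ∃ (i : I) (_ : i ⟶ i₀), ∀ (j : I) (_ : j ⟶ i),
      Set.BijOn (fun Y : Set c.pt => closure (⇑(c.π.app j) '' (Y : Set c.pt) : Set (D.obj j)))
        (irreducibleComponents c.pt) (irreducibleComponents (D.obj j)) := by
  obtain ⟨i, φ, h⟩ := exists_antichain_stage hc i₀
  exact ⟨i, φ, fun j ψ => bijOn_irreducibleComponents (c.π.app j).continuous (hdense j (ψ ≫ φ))
    (h j ψ)⟩

lemma exists_bijOn_connectedComponents (hc : IsLimit c) (i₀ : I) [CompactSpace (D.obj i₀)]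
    [TopologicalSpace.NoetherianSpace c.pt]
    (hdense : ∀ (j : I) (_ : j ⟶ i₀), DenseRange ⇑(c.π.app j)) :
    ∃ (i : I) (_ : i ⟶ i₀), ∀ (j : I) (_ : j ⟶ i),
      Set.BijOn (fun C : Set c.pt => closure (⇑(c.π.app j) '' (C : Set c.pt) : Set (D.obj j)))
        (Set.range (connectedComponent : c.pt → Set c.pt))
        (Set.range (connectedComponent : D.obj j → Set (D.obj j))) := by
  classical
  have : Finite (Set.range (connectedComponent : c.pt → Set c.pt)) :=
    finite_range_connectedComponent.to_subtype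
  choose k φ A hA hpre using fun C : Set.range (connectedComponent : c.pt → Set c.pt) =>
    exists_clopen_stage hc i₀ hdense (W := C.1) (by
      obtain ⟨x, hx⟩ := C.2
      exact hx ▸ isClopen_connectedComponent' x)
  obtain ⟨l, ψ, θ, hl⟩ := IsCofiltered.wideCospan φ
  refine ⟨l, ψ, fun j χ => bijOn_connectedComponents (c.π.app j).continuous (hdense j (χ ≫ ψ))
    fun a b hne => ?_⟩
  let C : Set.range (connectedComponent : c.pt → Set c.pt) := ⟨_, a, rfl⟩
  have hB : IsClopen (⇑(D.map (χ ≫ θ C)) ⁻¹' A C) := (hA C).preimage (D.map _).continuous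
  refine Set.disjoint_of_subset (closure_minimal ?_ hB.1) (closure_minimal ?_ hB.compl.1)
    disjoint_compl_right
  · rintro _ ⟨x, hx, rfl⟩
    rw [Set.mem_preimage, π_apply]
    exact (hpre C).ge hx
  · rintro _ ⟨x, hx, rfl⟩ hxA
    rw [Set.mem_preimage, π_apply] at hxA
    have : x ∈ connectedComponent a := (hpre C).le hxA
    exact hne ((connectedComponent_eq this).trans (connectedComponent_eq hx).symm)

/-- If the transition maps are embeddings and a stage is noetherian, the limit is eventually dense. -/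
lemma exists_denseRange_stage (hc : IsLimit c) (i₀ : I)
    [TopologicalSpace.NoetherianSpace (D.obj i₀)]
    (he : ∀ (i j : I) (φ : i ⟶ j), Topology.IsEmbedding ⇑(D.map φ)) :
    ∃ (i : I) (_ : i ⟶ i₀), ∀ (j : I) (_ : j ⟶ i), DenseRange ⇑(c.π.app j) := by
  obtain ⟨i, φ, hi⟩ := exists_stage_subset hc i₀ IsLocallyConstructible.univ
    (TopologicalSpace.NoetherianSpace.isCompact (closure (Set.range ⇑(c.π.app i₀)))ᶜ)
    isClosed_closure.isOpen_compl isOpen_empty
    (fun x hx => hx.2 (subset_closure ⟨x, rfl⟩))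
  refine ⟨i, φ, fun j ψ y => ?_⟩
  rw [(he j i₀ (ψ ≫ φ)).isInducing.closure_eq_preimage_closure_image]
  have hy : D.map (ψ ≫ φ) y ∈ closure (Set.range ⇑(c.π.app i₀)) := by
    by_contra hy
    exact hi (show D.map φ (D.map ψ y) ∈ Set.univ ∩ _ from ⟨trivial, by rwa [map_apply]⟩)
  have himg : ⇑(D.map (ψ ≫ φ)) '' Set.range ⇑(c.π.app j) = Set.range ⇑(c.π.app i₀) := by
    rw [← Set.range_comp]
    exact congrArg Set.range (funext fun s => π_apply (ψ ≫ φ) s)
  rw [Set.mem_preimage, himg]
  exact hy

lemma exists_bijOn_components_of_isEmbedding (hc : IsLimit c) (i₀ : I)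
    [TopologicalSpace.NoetherianSpace (D.obj i₀)] [TopologicalSpace.NoetherianSpace c.pt]
    (he : ∀ (i j : I) (φ : i ⟶ j), Topology.IsEmbedding ⇑(D.map φ)) :
    (∃ (i : I) (_ : i ⟶ i₀), ∀ (j : I) (_ : j ⟶ i),
      Set.BijOn (fun Y : Set c.pt => closure (⇑(c.π.app j) '' (Y : Set c.pt) : Set (D.obj j)))
        (irreducibleComponents c.pt) (irreducibleComponents (D.obj j))) ∧
    ∃ (i : I) (_ : i ⟶ i₀), ∀ (j : I) (_ : j ⟶ i),
      Set.BijOn (fun C : Set c.pt => closure (⇑(c.π.app j) '' (C : Set c.pt) : Set (D.obj j)))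
        (Set.range (connectedComponent : c.pt → Set c.pt))
        (Set.range (connectedComponent : D.obj j → Set (D.obj j))) := by
  obtain ⟨i, φ, hd⟩ := exists_denseRange_stage hc i₀ he
  have : CompactSpace (D.obj i) := QuasiCompact.compactSpace_of_compactSpace (D.map φ)
  obtain ⟨a, α, ha⟩ := exists_bijOn_irreducibleComponents hc i hd
  obtain ⟨b, β, hb⟩ := exists_bijOn_connectedComponents hc i hd
  exact ⟨⟨a, α ≫ φ, ha⟩, ⟨b, β ≫ φ, hb⟩⟩

end Groth.Agent.LimSch
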