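import Groth.Agent.N2Lib.Basic
import Groth.Agent.N2Poly.More
import Mathlib.RingTheory.ZariskisMainTheorem
import Mathlib.RingTheory.NoetherNormalization
import Mathlib.RingTheory.Ideal.GoingUp
import Mathlib.RingTheory.Spectrum.Prime.Jacobson

/-!
Test curves over Nagata rings: the algebra.

Given a one-dimensional specialization inside a scheme of finite type over a Nagata ring and a finite extension of
the residue field of the generic point, we produce a normal domain of finite type with a closed point of height one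
lying over the special point.
-/

set_option autoImplicit false

universe u

namespace Groth.Agent.LimSch.CurveTest

/-- A maximal point which is minimal in its fibre is a point of quasi-finiteness. -/
lemma quasiFiniteAt_of_isMaximal {B E : Type u} [CommRing B] [CommRing E] [Algebra B E]
    [Algebra.FiniteType B E] (c : Ideal E) [c.IsMaximal]
    (hmin : ∀ P : Ideal E, P.IsPrime → P ≤ c → P.comap (algebraMap B E) = c.comap (algebraMap B E) → P = c) :
    Algebra.QuasiFiniteAt B c := by
  let q : PrimeSpectrum E := ⟨c, inferInstance⟩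
  refine Algebra.QuasiFiniteAt.of_isOpen_singleton_fiber q ?_
  let p := q.comap (algebraMap B E)
  let e := PrimeSpectrum.preimageHomeomorphFiber B E p
  suffices IsOpen {e (⟨q, rfl⟩ : PrimeSpectrum.comap (algebraMap B E) ⁻¹' {p})} by
    rwa [← e.isOpen_image, Set.image_singleton]
  have : IsJacobsonRing (p.asIdeal.Fiber E) := isJacobsonRing_of_finiteType (A := p.asIdeal.ResidueField)
  have : IsNoetherianRing (p.asIdeal.Fiber E) :=
    Algebra.FiniteType.isNoetherianRing p.asIdeal.ResidueField _
  refine ((PrimeSpectrum.isOpen_singleton_tfae_of_isNoetherian_of_isJacobsonRing _).out 0 2 rfl rfl).mpr ⟨?_, ?_⟩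
  · rw [← Set.image_singleton, e.isClosed_image]
    have : ({⟨q, rfl⟩} : Set (PrimeSpectrum.comap (algebraMap B E) ⁻¹' {p})) = Subtype.val ⁻¹' {q} := by
      ext z; simp [Subtype.ext_iff]
    rw [this]
    exact ((PrimeSpectrum.isClosed_singleton_iff_isMaximal q).mpr inferInstance).preimage continuous_subtype_val
  · rintro a b hab (rfl : a = _)
    obtain ⟨⟨z, hz⟩, rfl⟩ := e.surjective b
    have h1 : (⟨z, hz⟩ : PrimeSpectrum.comap (algebraMap B E) ⁻¹' {p}) ⤳ ⟨q, rfl⟩ := e.isInducing.specializes_iff.mp hab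
    have h2 : z ⤳ q := h1.map continuous_subtype_val
    have h3 : z.asIdeal = c := hmin z.asIdeal z.isPrime ((PrimeSpectrum.le_iff_specializes z q).mpr h2)
      (congrArg PrimeSpectrum.asIdeal hz)
    have h4 : z = q := PrimeSpectrum.ext h3
    subst h4
    rfl

/-- Normal neighbourhood of a height one closed point. -/
theorem exists_normal_nhd (A P₀ R₁ L : Type u) [CommRing A] [CommRing P₀] [IsDomain P₀] [IsNoetherianRing P₀]
    [CommRing R₁] [IsDomain R₁] [Field L] [Algebra A P₀] [Algebra A R₁] [Algebra A L] [Algebra P₀ R₁]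
    [Algebra P₀ L] [Algebra R₁ L] [IsScalarTower A P₀ R₁] [IsScalarTower A P₀ L] [IsScalarTower A R₁ L]
    [IsScalarTower P₀ R₁ L] [Algebra.FiniteType A P₀] [Algebra.FiniteType A R₁]
    [Algebra (FractionRing P₀) L] [IsScalarTower P₀ (FractionRing P₀) L] [FiniteDimensional (FractionRing P₀) L]
    (hR₁ : Function.Injective (algebraMap R₁ L)) (hP₀ : CAlg.IsN2 P₀)
    (y : Ideal R₁) [y.IsMaximal] (hy0 : y ≠ ⊥)
    (hgap : ∀ P : Ideal R₁, P.IsPrime → P ≤ y → P = ⊥ ∨ P = y)
    (hmin : ∀ P : Ideal R₁, P.IsPrime → P ≤ y →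
      P.comap (algebraMap P₀ R₁) = y.comap (algebraMap P₀ R₁) → P = y) :
    ∃ (E : Type u) (_ : CommRing E) (_ : IsDomain E) (_ : Algebra A E) (_ : Algebra.FiniteType A E)
      (_ : IsIntegrallyClosed E) (κ : R₁ →ₐ[A] E) (ι : E →ₐ[A] L) (c : Ideal E) (_ : c.IsMaximal),
      Function.Injective ι ∧ (∀ z : L, ∃ a b : E, b ≠ 0 ∧ z * ι b = ι a) ∧
        (∀ x, ι (κ x) = algebraMap R₁ L x) ∧ c.comap κ.toRingHom = y ∧
        ringKrullDim (Localization.AtPrime c) = 1 := by
  classical
  -- the normalization of the base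
  let B := integralClosure P₀ L
  have hBfin : Module.Finite P₀ B := hP₀ L inferInstance
  have : IsFractionRing B L := integralClosure.isFractionRing_of_finite_extension (FractionRing P₀) L
  have : IsIntegrallyClosed B := integralClosure.isIntegrallyClosedOfFiniteExtension (FractionRing P₀)
  obtain ⟨G, hG⟩ := hBfin.fg_top
  -- the algebra generated by both
  let E₀ : Subalgebra R₁ L := Algebra.adjoin R₁ (Subtype.val '' (G : Set B))
  have hBE : ∀ b : B, (b : L) ∈ E₀ := fun b => by
    have hb : b ∈ Submodule.span P₀ (G : Set B) := hG ▸ Submodule.mem_top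
    induction hb using Submodule.span_induction with
    | mem x hx => exact Algebra.subset_adjoin ⟨x, hx, rfl⟩
    | zero => exact zero_mem E₀
    | add x z _ _ hx hz => exact add_mem hx hz
    | smul a x _ hx =>
      show a • (x : L) ∈ E₀
      rw [← algebraMap_smul R₁ a (x : L)]
      exact Subalgebra.smul_mem _ hx _
  let _ : Algebra B E₀ := (RingHom.codRestrict (algebraMap B L) E₀ hBE).toAlgebra
  have : IsScalarTower P₀ B E₀ := IsScalarTower.of_algebraMap_eq fun a => Subtype.ext (by
    show algebraMap P₀ L a = _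
    rfl)
  have : IsScalarTower A B E₀ := IsScalarTower.of_algebraMap_eq fun a => Subtype.ext (by
    show algebraMap A L a = _
    rfl)
  have : IsScalarTower B E₀ L := IsScalarTower.of_algebraMap_eq fun _ => rfl
  have : Module.Finite R₁ E₀ := by
    refine Module.Finite.iff_fg.mpr (fg_adjoin_of_finite (G.finite_toSet.image _) ?_)
    rintro _ ⟨b, -, rfl⟩
    exact (b.2 : IsIntegral P₀ (b : L)).tower_top
  have : Algebra.FiniteType A E₀ := Algebra.FiniteType.trans (R := A) (S := R₁) inferInstance inferInstance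
  have : Algebra.FiniteType B E₀ := Algebra.FiniteType.of_restrictScalars_finiteType A B E₀
  -- a point over `y`
  obtain ⟨c, hcprime, hc⟩ : ∃ c : Ideal E₀, c.IsPrime ∧ c.comap (algebraMap R₁ E₀) = y := by
    have hinj : Function.Injective (algebraMap R₁ E₀) := fun a b h => hR₁ (congrArg Subtype.val h)
    obtain ⟨c, -, hc1, hc2⟩ := Ideal.exists_ideal_over_prime_of_isIntegral (S := E₀) y ⊥ (by
      rw [Ideal.comap_bot_of_injective _ hinj]; exact bot_le)
    exact ⟨c, hc1, hc2⟩
  have hcmax : c.IsMaximal := Ideal.isMaximal_of_isIntegral_of_isMaximal_comap c (by rw [hc]; infer_instance)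
  -- incomparability
  have hinc : ∀ P : Ideal E₀, P.IsPrime → P ≤ c → P.comap (algebraMap R₁ E₀) = y → P = c := by
    intro P hP hle hPy
    refine le_antisymm hle fun x hx => ?_
    by_contra hxP
    exact (Ideal.comap_lt_comap_of_integral_mem_sdiff (R := R₁) hle ⟨hx, hxP⟩
      (Algebra.IsIntegral.isIntegral x)).ne (hPy.trans hc.symm)
  have hqf : Algebra.QuasiFiniteAt B c := by
    refine quasiFiniteAt_of_isMaximal c fun P hP hle hPc => ?_
    refine hinc P hP hle (hmin _ (hP.comap _) (hc ▸ Ideal.comap_mono hle) ?_)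
    rw [← hc, Ideal.comap_comap, Ideal.comap_comap, ← IsScalarTower.algebraMap_eq P₀ R₁ E₀,
      IsScalarTower.algebraMap_eq P₀ B E₀, ← Ideal.comap_comap, ← Ideal.comap_comap, hPc]
  -- Zariski's main theorem
  obtain ⟨r₀, hr₀c, hr₀, hzmt⟩ :=
    Algebra.zariskisMainProperty_iff.mp (Algebra.ZariskisMainProperty.of_finiteType (R := B) c)
  have hBint : ∀ e : E₀, IsIntegral B e → ∃ b : B, algebraMap B E₀ b = e := fun e he => by
    have h1 : IsIntegral B (e : L) := he.map (IsScalarTower.toAlgHom B E₀ L)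
    obtain ⟨b, hb⟩ := IsIntegrallyClosed.isIntegral_iff.mp h1
    exact ⟨b, Subtype.ext hb⟩
  obtain ⟨r, hr⟩ := hBint r₀ hr₀
  have hrc : algebraMap B E₀ r ∉ c := hr ▸ hr₀c
  have hrne : r ≠ 0 := fun h => hrc (by rw [h, map_zero]; exact c.zero_mem)
  have hrL : algebraMap B L r ≠ 0 := fun h => hrne (IsFractionRing.injective B L (h.trans (map_zero _).symm))
  let E := Localization.Away r
  have hpow : Submonoid.powers r ≤ nonZeroDivisors B := powers_le_nonZeroDivisors_of_noZeroDivisors hrne
  have : IsDomain E := IsLocalization.isDomain_localization hpow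
  have : IsIntegrallyClosed E := isIntegrallyClosed_of_isLocalization E (Submonoid.powers r) hpow
  have : Algebra.FiniteType A B :=
    Algebra.FiniteType.trans (R := A) (S := P₀) inferInstance inferInstance
  have : Algebra.FiniteType A E := by
    have : Algebra.FiniteType B E := IsLocalization.finiteType_of_monoid_fg (Submonoid.powers r) E
    exact Algebra.FiniteType.trans (R := A) (S := B) inferInstance inferInstance
  let ιr : E →+* L := IsLocalization.Away.lift r (g := algebraMap B L) (IsUnit.mk0 _ hrL)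
  have hιr : ∀ b, ιr (algebraMap B E b) = algebraMap B L b := IsLocalization.Away.lift_eq r _
  let ι : E →ₐ[A] L :=
    { ιr with
      commutes' := fun a => by
        show ιr (algebraMap A E a) = algebraMap A L a
        rw [IsScalarTower.algebraMap_apply A B E, hιr]
        rfl }
  have hι : Function.Injective ι := by
    intro u v huv
    obtain ⟨a, ⟨s, hs⟩, rfl⟩ := IsLocalization.exists_mk'_eq (Submonoid.powers r) u
    obtain ⟨b, ⟨t, ht⟩, rfl⟩ := IsLocalization.exists_mk'_eq (Submonoid.powers r) v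
    change ιr _ = ιr _ at huv
    have hs' : algebraMap B L s ≠ 0 :=
      IsFractionRing.to_map_ne_zero_of_mem_nonZeroDivisors (hpow hs)
    have ht' : algebraMap B L t ≠ 0 :=
      IsFractionRing.to_map_ne_zero_of_mem_nonZeroDivisors (hpow ht)
    have e1 : ιr (IsLocalization.mk' E a ⟨s, hs⟩) * algebraMap B L s = algebraMap B L a := by
      rw [← hιr s, ← map_mul, IsLocalization.mk'_spec, hιr]
    have e2 : ιr (IsLocalization.mk' E b ⟨t, ht⟩) * algebraMap B L t = algebraMap B L b := by
      rw [← hιr t, ← map_mul, IsLocalization.mk'_spec, hιr]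
    refine IsLocalization.mk'_eq_of_eq (IsFractionRing.injective B L ?_)
    simp only [map_mul, ← e1, ← e2, huv]; ring
  -- the elements of `E₀` lie in `E`
  have hex : ∀ e : E₀, ∃ (m : ℕ) (b : B), algebraMap B E₀ b = algebraMap B E₀ r ^ m * e := fun e => by
    obtain ⟨m, hm⟩ := hzmt e
    obtain ⟨b, hb⟩ := hBint _ hm
    exact ⟨m, b, by rw [hb, hr]⟩
  have hrange : ∀ e : E₀, ∃ z : E, ι z = (e : L) := fun e => by
    obtain ⟨m, b, hb⟩ := hex e
    refine ⟨IsLocalization.mk' E b (⟨r ^ m, m, rfl⟩ : Submonoid.powers r), ?_⟩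
    refine mul_right_cancel₀ (pow_ne_zero m hrL) ?_
    rw [← map_pow, ← hιr, ← show ι (algebraMap B E (r ^ m)) = ιr (algebraMap B E (r ^ m)) from rfl, ← map_mul,
      IsLocalization.mk'_spec]
    show ιr (algebraMap B E b) = _
    rw [hιr, show ι (algebraMap B E (r ^ m)) = algebraMap B L (r ^ m) from hιr _, mul_comm (e : L)]
    have := congrArg Subtype.val hb
    rw [map_pow]
    exact this.trans (by simp [RingHom.algebraMap_toAlgebra])
  choose κfun hκfun using hrange
  let κ₀ : E₀ →ₐ[A] E :=
    { toFun := κfun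
      map_one' := hι (by rw [hκfun, map_one]; rfl)
      map_mul' := fun a b => hι (by rw [hκfun, map_mul, hκfun, hκfun]; rfl)
      map_zero' := hι (by rw [hκfun, map_zero]; rfl)
      map_add' := fun a b => hι (by rw [hκfun, map_add, hκfun, hκfun]; rfl)
      commutes' := fun a => hι (by rw [hκfun, ι.commutes]; rfl) }
  have hκB : ∀ b : B, κ₀ (algebraMap B E₀ b) = algebraMap B E b := fun b => hι ((hκfun _).trans (hιr b).symm)
  -- primes of `E` and of `E₀`
  have hback : ∀ (Q : Ideal E) (z : E), Q.IsPrime → (z ∈ Q ↔ ∃ (m : ℕ) (b : B),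
      z * algebraMap B E r ^ m = algebraMap B E b ∧ algebraMap B E₀ b ∈ Q.comap κ₀.toRingHom) := by
    intro Q z hQ
    refine ⟨fun hz => ?_, ?_⟩
    · obtain ⟨b, ⟨s, m, rfl⟩, rfl⟩ := IsLocalization.exists_mk'_eq (Submonoid.powers r) z
      have hsp := IsLocalization.mk'_spec E b (⟨r ^ m, m, rfl⟩ : Submonoid.powers r)
      rw [map_pow] at hsp
      refine ⟨m, b, hsp, ?_⟩
      show κ₀ (algebraMap B E₀ b) ∈ Q
      rw [hκB, ← hsp]
      exact Q.mul_mem_right _ hz
    · rintro ⟨m, b, hb, hmem⟩
      change κ₀ (algebraMap B E₀ b) ∈ Q at hmem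
      rw [hκB, ← hb] at hmem
      refine (hQ.mem_or_mem hmem).resolve_right fun h => ?_
      exact hQ.ne_top (Ideal.eq_top_of_isUnit_mem _ h ((IsLocalization.Away.algebraMap_isUnit r).pow m))
  let cB : Ideal B := c.comap (algebraMap B E₀)
  have hdisj : Disjoint (Submonoid.powers r : Set B) (cB : Set B) := by
    rw [Set.disjoint_left]
    rintro _ ⟨m, rfl⟩ hm
    change algebraMap B E₀ (r ^ m) ∈ c at hm
    rw [map_pow] at hm
    exact hrc (hcprime.mem_of_pow_mem m hm)
  let c' : Ideal E := cB.map (algebraMap B E)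
  have hc'prime : c'.IsPrime := IsLocalization.isPrime_of_isPrime_disjoint (Submonoid.powers r) E cB
    (hcprime.comap _) hdisj
  have hc'B : c'.comap (algebraMap B E) = cB :=
    IsLocalization.comap_map_of_isPrime_disjoint (Submonoid.powers r) E (hcprime.comap _) hdisj
  have hc' : c'.comap κ₀.toRingHom = c := by
    ext e
    obtain ⟨m, b, hb⟩ := hex e
    have h1 : κ₀ (algebraMap B E₀ r) ^ m * κ₀ e = algebraMap B E b := by
      rw [← map_pow, ← map_mul, ← hb, hκB]
    have h2 : κ₀ e ∈ c' ↔ b ∈ cB := by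
      rw [← hc'B]
      show _ ↔ algebraMap B E b ∈ c'
      rw [← h1, hκB, ← map_pow]
      exact ⟨c'.mul_mem_left _, fun h => (hc'prime.mem_or_mem h).resolve_left fun h' =>
        hc'prime.ne_top (Ideal.eq_top_of_isUnit_mem _ h' (by
          rw [map_pow]; exact (IsLocalization.Away.algebraMap_isUnit r).pow m))⟩
    show κ₀ e ∈ c' ↔ e ∈ c
    rw [h2]
    show algebraMap B E₀ b ∈ c ↔ _
    rw [hb]
    exact ⟨fun h => (hcprime.mem_or_mem h).resolve_left fun h' => hrc (hcprime.mem_of_pow_mem m h'),
      c.mul_mem_left _⟩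
  have hext : ∀ Q Q' : Ideal E, Q.IsPrime → Q'.IsPrime → Q.comap κ₀.toRingHom = Q'.comap κ₀.toRingHom → Q = Q' :=
    fun Q Q' hQ hQ' h => by
      ext z
      rw [hback Q z hQ, hback Q' z hQ', h]
  have hc'max : c'.IsMaximal := by
    obtain ⟨M, hM, hle⟩ := Ideal.exists_le_maximal c' hc'prime.ne_top
    have h1 : c ≤ M.comap κ₀.toRingHom := hc' ▸ Ideal.comap_mono hle
    have h2 : M.comap κ₀.toRingHom ≠ ⊤ := (hM.isPrime.comap _).ne_top
    have h3 := hcmax.eq_of_le h2 h1
    rwa [hext c' M hc'prime hM.isPrime (hc'.trans h3)]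
  refine ⟨E, inferInstance, inferInstance, inferInstance, inferInstance, inferInstance,
    κ₀.comp (IsScalarTower.toAlgHom A R₁ E₀), ι, c', hc'max, hι, fun z => ?_,
    fun x => (hκfun _).trans rfl, ?_, ?_⟩
  · obtain ⟨a, b, hb, rfl⟩ := IsFractionRing.div_surjective (A := B) z
    have hb' : algebraMap B L b ≠ 0 := IsFractionRing.to_map_ne_zero_of_mem_nonZeroDivisors hb
    refine ⟨algebraMap B E a, algebraMap B E b, fun e => hb' ?_, ?_⟩
    · rw [← hιr, e, map_zero]
    · show _ * ιr _ = ιr _
      rw [hιr, hιr, div_mul_cancel₀ _ hb']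
  · show c'.comap (κ₀.toRingHom.comp (algebraMap R₁ E₀)) = y
    rw [← Ideal.comap_comap, hc', hc]
  -- the dimension
  have hc'0 : c' ≠ ⊥ := by
    intro h
    refine hy0 (le_bot_iff.mp fun x hx => ?_)
    rw [← hc] at hx
    have hx' : κ₀ (algebraMap R₁ E₀ x) ∈ c' := by
      have : algebraMap R₁ E₀ x ∈ c'.comap κ₀.toRingHom := hc'.symm ▸ hx
      exact this
    rw [h, Ideal.mem_bot] at hx'
    have := congrArg ι hx'
    rw [map_zero] at this
    exact Ideal.mem_bot.mpr (hR₁ (((hκfun _).symm.trans this).trans (map_zero _).symm))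
  have hbetween : ∀ Q : Ideal E, Q.IsPrime → Q ≤ c' → Q = ⊥ ∨ Q = c' := by
    intro Q hQ hle
    have h1 : Q.comap κ₀.toRingHom ≤ c := hc' ▸ Ideal.comap_mono hle
    have := hQ.comap κ₀.toRingHom
    rcases hgap ((Q.comap κ₀.toRingHom).comap (algebraMap R₁ E₀)) (this.comap _) (hc ▸ Ideal.comap_mono h1)
      with h2 | h2
    · left
      have h3 : Q.comap κ₀.toRingHom = ⊥ := Ideal.eq_bot_of_comap_eq_bot (R := R₁) h2
      refine le_bot_iff.mp fun z hz => ?_
      obtain ⟨m, b, hb, hmem⟩ := (hback Q z hQ).mp hz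
      rw [h3, Ideal.mem_bot] at hmem
      have hb0 : b = 0 := IsFractionRing.injective B L ((congrArg Subtype.val hmem).trans (map_zero _).symm)
      rw [hb0, map_zero] at hb
      exact Ideal.mem_bot.mpr ((mul_eq_zero.mp hb).resolve_right
        ((IsLocalization.Away.algebraMap_isUnit r).pow m).ne_zero)
    · exact Or.inr (hext Q c' hQ hc'prime ((hinc _ this h1 h2).trans hc'.symm))
  rw [IsLocalization.AtPrime.ringKrullDim_eq_height c' (Localization.AtPrime c')]
  have hh : c'.height = 1 := by
    refine le_antisymm ?_ (Order.one_le_iff_pos.mpr (pos_iff_ne_zero.mpr fun h0 =>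
      hc'0 (Ideal.height_eq_zero_iff_eq_bot.mp h0)))
    rw [← Nat.cast_one, Ideal.height_le_iff]
    intro q hq hqc
    rcases hbetween q hq hqc.le with h | h
    · rw [h, Ideal.height_bot]; simp
    · exact absurd h hqc.ne
  rw [hh]; rfl

end Groth.Agent.LimSch.CurveTest
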