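import Groth.Agent.LimSch.CurveTestAlg
import Mathlib.RingTheory.Localization.Basic
import Mathlib.RingTheory.MvPolynomial.Localization

/-!
Test curves over Nagata rings: the choice of the base of the normalization.
-/

set_option autoImplicit false

universe u

namespace Groth.Agent.LimSch.CurveTest

/-- Finiteness of `L` over `K` from algebraicity of the generators. -/
lemma finite_of_isAlgebraic {A R K L : Type u} [CommRing A] [CommRing R] [Field K] [Field L] [Algebra A R]
    [Algebra A K] [Algebra A L] [Algebra R L] [Algebra K L] [IsScalarTower A R L] [IsScalarTower A K L]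
    [Algebra.FiniteType A R] (h : ∀ x : R, IsAlgebraic K (algebraMap R L x))
    (hfin : Module.Finite (Subfield.closure (Set.range (algebraMap R L))) L) : FiniteDimensional K L := by
  classical
  obtain ⟨G, hG⟩ := (‹Algebra.FiniteType A R›).out
  let K₁ : IntermediateField K L := IntermediateField.adjoin K (algebraMap R L '' (G : Set R))
  have : FiniteDimensional K K₁ :=
    IntermediateField.finiteDimensional_adjoin (S := algebraMap R L '' (G : Set R))
      (by rintro _ ⟨x, -, rfl⟩; exact (h x).isIntegral)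
  have hR : ∀ x : R, algebraMap R L x ∈ K₁ := fun x => by
    have hx : x ∈ Algebra.adjoin A (G : Set R) := hG ▸ Algebra.mem_top
    induction hx using Algebra.adjoin_induction with
    | mem z hz => exact IntermediateField.subset_adjoin _ _ ⟨z, hz, rfl⟩
    | algebraMap a =>
      rw [← IsScalarTower.algebraMap_apply, IsScalarTower.algebraMap_apply A K L]
      exact K₁.algebraMap_mem _
    | add z w _ _ hz hw => rw [map_add]; exact add_mem hz hw
    | mul z w _ _ hz hw => rw [map_mul]; exact mul_mem hz hw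
  let F₁ := Subfield.closure (Set.range (algebraMap R L))
  have hle : F₁ ≤ K₁.toSubfield := Subfield.closure_le.mpr (by rintro _ ⟨x, rfl⟩; exact hR x)
  let _ : Algebra F₁ K₁ := (Subfield.inclusion hle).toAlgebra
  have : IsScalarTower F₁ K₁ L := IsScalarTower.of_algebraMap_eq fun _ => rfl
  have : Module.Finite K₁ L := Module.Finite.of_restrictScalars_finite F₁ K₁ L
  exact Module.Finite.trans K₁ L

/-- A test curve through a one-step specialization. -/
theorem exists_curve_algebra (A R L : Type u) [CommRing A] [IsNoetherianRing A] [CommRing R] [Field L]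
    [Algebra A R] [Algebra A L] [Algebra R L] [IsScalarTower A R L] [Algebra.FiniteType A R]
    (hA : ∀ (p : Ideal A) [p.IsPrime], CAlg.IsN2 (A ⧸ p))
    (y : Ideal R) [hy : y.IsPrime] (hlt : RingHom.ker (algebraMap R L) < y)
    (hloc : ∃ h ∉ y, ∀ P : Ideal R, P.IsPrime → y ≤ P → h ∉ P → P = y)
    (hgap : ∀ P : Ideal R, P.IsPrime → RingHom.ker (algebraMap R L) ≤ P → P ≤ y →
      P = RingHom.ker (algebraMap R L) ∨ P = y)
    (hfin : Module.Finite (Subfield.closure (Set.range (algebraMap R L))) L) :
    ∃ (E : Type u) (_ : CommRing E) (_ : IsDomain E) (_ : Algebra A E) (_ : Algebra.FiniteType A E)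
      (_ : IsIntegrallyClosed E) (κ : R →ₐ[A] E) (ι : E →ₐ[A] L) (c : Ideal E) (_ : c.IsMaximal),
      Function.Injective ι ∧ (∀ z : L, ∃ a b : E, b ≠ 0 ∧ z * ι b = ι a) ∧
        (∀ x, ι (κ x) = algebraMap R L x) ∧ c.comap κ.toRingHom = y ∧
        ringKrullDim (Localization.AtPrime c) = 1 := by
  classical
  obtain ⟨h, hh, hhmax⟩ := hloc
  let pz := RingHom.ker (algebraMap R L)
  have hpz : pz.IsPrime := RingHom.ker_isPrime _
  let R' := R ⧸ pz
  let h' : R' := Ideal.Quotient.mk pz h
  have hh' : h' ≠ 0 := fun e => hh (hlt.le (Ideal.Quotient.eq_zero_iff_mem.mp e))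
  let R₁ := Localization.Away h'
  have hpow : Submonoid.powers h' ≤ nonZeroDivisors R' := powers_le_nonZeroDivisors_of_noZeroDivisors hh'
  have : IsDomain R₁ := IsLocalization.isDomain_localization hpow
  let j : R' →+* L := RingHom.kerLift (algebraMap R L)
  have hjinj : Function.Injective j := RingHom.kerLift_injective _
  have hjh : IsUnit (j h') := IsUnit.mk0 _ fun e => hh' (hjinj (e.trans (map_zero j).symm))
  let j₁ : R₁ →+* L := IsLocalization.Away.lift h' hjh
  have hj₁ : ∀ x, j₁ (algebraMap R' R₁ x) = j x := IsLocalization.Away.lift_eq h' _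
  let _ : Algebra R₁ L := j₁.toAlgebra
  have hinj₁ : Function.Injective (algebraMap R₁ L) := by
    intro u v huv
    obtain ⟨a, s, rfl⟩ := IsLocalization.exists_mk'_eq (Submonoid.powers h') u
    obtain ⟨b, t, rfl⟩ := IsLocalization.exists_mk'_eq (Submonoid.powers h') v
    change j₁ _ = j₁ _ at huv
    have e1 : j₁ (IsLocalization.mk' R₁ a s) * j s = j a := by
      rw [← hj₁ (s : R'), ← map_mul, IsLocalization.mk'_spec, hj₁]
    have e2 : j₁ (IsLocalization.mk' R₁ b t) * j t = j b := by
      rw [← hj₁ (t : R'), ← map_mul, IsLocalization.mk'_spec, hj₁]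
    refine IsLocalization.mk'_eq_of_eq (hjinj ?_)
    simp only [map_mul, ← e1, ← e2, huv]; ring
  have : IsScalarTower A R₁ L := IsScalarTower.of_algebraMap_eq fun a => by
    show _ = j₁ (algebraMap A R₁ a)
    rw [IsScalarTower.algebraMap_apply A R' R₁, hj₁, IsScalarTower.algebraMap_apply A R L]
    rfl
  have : Algebra.FiniteType A R' := Algebra.FiniteType.of_surjective (Ideal.Quotient.mkₐ A pz) Ideal.Quotient.mk_surjective
  have : Algebra.FiniteType A R₁ := by
    have : Algebra.FiniteType R' R₁ := IsLocalization.finiteType_of_monoid_fg (Submonoid.powers h') R₁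
    exact Algebra.FiniteType.trans (R := A) (S := R') inferInstance inferInstance
  let θ : R →ₐ[A] R₁ := (IsScalarTower.toAlgHom A R' R₁).comp (Ideal.Quotient.mkₐ A pz)
  have hθ : ∀ x, algebraMap R₁ L (θ x) = algebraMap R L x := fun x => (hj₁ _).trans rfl
  -- the maximal ideal
  let y' : Ideal R' := y.map (Ideal.Quotient.mk pz)
  have hy'c : y'.comap (Ideal.Quotient.mk pz) = y := by
    rw [Ideal.comap_map_of_surjective _ Ideal.Quotient.mk_surjective]
    exact sup_eq_left.mpr fun x hx => hlt.le (Ideal.Quotient.eq_zero_iff_mem.mp hx)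
  have hy'p : y'.IsPrime := Ideal.map_isPrime_of_surjective Ideal.Quotient.mk_surjective
    (by rw [Ideal.mk_ker]; exact hlt.le)
  have hdisj : Disjoint (Submonoid.powers h' : Set R') (y' : Set R') := by
    rw [Set.disjoint_left]
    rintro _ ⟨m, rfl⟩ hm
    apply hh
    rw [← hy'c]
    exact hy'p.mem_of_pow_mem m hm
  let y₁ : Ideal R₁ := y'.map (algebraMap R' R₁)
  have hy₁p : y₁.IsPrime := IsLocalization.isPrime_of_isPrime_disjoint (Submonoid.powers h') R₁ y' hy'p hdisj
  have hy₁c : y₁.comap θ.toRingHom = y := by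
    show y₁.comap ((algebraMap R' R₁).comp (Ideal.Quotient.mk pz)) = y
    have hcm : y₁.comap (algebraMap R' R₁) = y' :=
      IsLocalization.comap_map_of_isPrime_disjoint (Submonoid.powers h') R₁ hy'p hdisj
    rw [← Ideal.comap_comap, hcm, hy'c]
  have hext : ∀ P Q : Ideal R₁, P.comap θ.toRingHom = Q.comap θ.toRingHom → P = Q := by
    intro P Q e
    rw [← IsLocalization.map_comap (Submonoid.powers h') R₁ P, ← IsLocalization.map_comap (Submonoid.powers h') R₁ Q]
    congr 1
    apply Ideal.comap_injective_of_surjective (Ideal.Quotient.mk pz) Ideal.Quotient.mk_surjective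
    rw [Ideal.comap_comap, Ideal.comap_comap]
    exact e
  have hθh : IsUnit (θ h) := IsLocalization.Away.algebraMap_isUnit h'
  have hy₁max : y₁.IsMaximal := by
    obtain ⟨M, hM, hle⟩ := Ideal.exists_le_maximal y₁ hy₁p.ne_top
    have := hhmax (M.comap θ.toRingHom) (hM.isPrime.comap _) (hy₁c ▸ Ideal.comap_mono hle)
      (fun hmem => hM.ne_top (Ideal.eq_top_of_isUnit_mem _ hmem hθh))
    rwa [hext y₁ M (hy₁c.trans this.symm)]
  have hker : ∀ P : Ideal R₁, pz ≤ P.comap θ.toRingHom := fun P x hx => by
    show θ x ∈ P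
    rw [show θ x = 0 by
      show algebraMap R' R₁ (Ideal.Quotient.mk pz x) = 0
      rw [Ideal.Quotient.eq_zero_iff_mem.mpr hx, map_zero]]
    exact P.zero_mem
  have hbot : (⊥ : Ideal R₁).comap θ.toRingHom = pz := by
    ext x
    show θ x = 0 ↔ algebraMap R L x = 0
    rw [← hθ, map_eq_zero_iff _ hinj₁]
  have hgap₁ : ∀ P : Ideal R₁, P.IsPrime → P ≤ y₁ → P = ⊥ ∨ P = y₁ := by
    intro P hP hle
    rcases hgap (P.comap θ.toRingHom) (hP.comap _) (hker P) (hy₁c ▸ Ideal.comap_mono hle) with e | e
    · exact Or.inl (hext _ _ (e.trans hbot.symm))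
    · exact Or.inr (hext _ _ (e.trans hy₁c.symm))
  have hy₁0 : y₁ ≠ ⊥ := fun e => hlt.ne (by rw [← hy₁c, e, hbot])
  -- conclusion from a good base
  suffices key : ∃ (P₀ : Type u) (_ : CommRing P₀) (_ : IsDomain P₀) (_ : IsNoetherianRing P₀) (_ : Algebra A P₀)
      (_ : Algebra.FiniteType A P₀) (e : P₀ →ₐ[A] R₁), Function.Injective e ∧ CAlg.IsN2 P₀ ∧
      (∀ P : Ideal R₁, P.IsPrime → P ≤ y₁ → P.comap e.toRingHom = y₁.comap e.toRingHom → P = y₁) ∧
      (∀ (_ : Algebra P₀ L), (∀ a, algebraMap P₀ L a = algebraMap R₁ L (e a)) →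
        ∀ x : R₁, IsAlgebraic P₀ (algebraMap R₁ L x)) by
    obtain ⟨P₀, _, _, _, _, _, e, he, hN2, hmin, halg⟩ := key
    let _ : Algebra P₀ R₁ := e.toRingHom.toAlgebra
    let _ : Algebra P₀ L := ((algebraMap R₁ L).comp e.toRingHom).toAlgebra
    have : IsScalarTower A P₀ R₁ := IsScalarTower.of_algebraMap_eq fun a => (e.commutes a).symm
    have : IsScalarTower P₀ R₁ L := IsScalarTower.of_algebraMap_eq fun _ => rfl
    have : IsScalarTower A P₀ L := IsScalarTower.of_algebraMap_eq fun a => by
      show _ = algebraMap R₁ L (e (algebraMap A P₀ a))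
      rw [e.commutes, ← IsScalarTower.algebraMap_apply]
    have hP₀L : Function.Injective (algebraMap P₀ L) := hinj₁.comp he
    let K₀ := FractionRing P₀
    let _ : Algebra K₀ L := (IsFractionRing.lift hP₀L : K₀ →+* L).toAlgebra
    have : IsScalarTower P₀ K₀ L :=
      IsScalarTower.of_algebraMap_eq fun a => (IsFractionRing.lift_algebraMap hP₀L a).symm
    have : IsScalarTower A K₀ L := IsScalarTower.of_algebraMap_eq fun a => by
      rw [IsScalarTower.algebraMap_apply A P₀ K₀, ← IsScalarTower.algebraMap_apply P₀ K₀ L,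
        ← IsScalarTower.algebraMap_apply A P₀ L]
    have : FiniteDimensional K₀ L := finite_of_isAlgebraic (A := A) (R := R) (fun x => by
      rw [← hθ]
      exact (IsFractionRing.isAlgebraic_iff P₀ K₀ L).mp (halg _ (fun _ => rfl) (θ x))) hfin
    obtain ⟨E, _, _, _, _, _, κ, ι, c, _, hι, hfrac, hκ, hc, hdim⟩ :=
      exists_normal_nhd A P₀ R₁ L hinj₁ hN2 y₁ hy₁0 hgap₁ hmin
    refine ⟨E, inferInstance, inferInstance, inferInstance, inferInstance, inferInstance, κ.comp θ, ι, c,
      inferInstance, hι, hfrac, fun x => (hκ (θ x)).trans (hθ x), ?_, hdim⟩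
    show c.comap (κ.toRingHom.comp θ.toRingHom) = y
    rw [← Ideal.comap_comap, hc, hy₁c]
  let pA := RingHom.ker (algebraMap A L)
  have hpA : pA.IsPrime := RingHom.ker_isPrime _
  let A' := A ⧸ pA
  have hA₁ : ∀ a, a ∈ pA → algebraMap A R₁ a = 0 := fun a ha => hinj₁ (by
    rw [← IsScalarTower.algebraMap_apply, map_zero]; exact ha)
  let e₀ : A' →ₐ[A] R₁ := Ideal.Quotient.liftₐ pA (Algebra.ofId A R₁) hA₁
  have he₀ : Function.Injective e₀ := by
    rw [injective_iff_map_eq_zero]
    intro z
    obtain ⟨a, rfl⟩ := Ideal.Quotient.mk_surjective z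
    intro hz
    refine Ideal.Quotient.eq_zero_iff_mem.mpr ?_
    show algebraMap A L a = 0
    rw [IsScalarTower.algebraMap_apply A R₁ L, show algebraMap A R₁ a = 0 from hz, map_zero]
  by_cases hcase : y₁.comap (algebraMap A R₁) = pA
  · -- the special point lies in the fibre of the generic point
    let k := FractionRing A'
    let jA : A' →+* L := RingHom.kerLift (algebraMap A L)
    let _ : Algebra k L := (IsFractionRing.lift (g := jA) (RingHom.kerLift_injective _) : k →+* L).toAlgebra
    have hk : ∀ a : A, algebraMap k L (algebraMap A' k (Ideal.Quotient.mk pA a)) = algebraMap A L a := fun a =>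
      (IsFractionRing.lift_algebraMap (RingHom.kerLift_injective _) _).trans rfl
    obtain ⟨G, hG⟩ := (‹Algebra.FiniteType A R₁›).out
    let S : Subalgebra k L := Algebra.adjoin k (algebraMap R₁ L '' (G : Set R₁))
    have : Algebra.FiniteType k S := (Subalgebra.fg_iff_finiteType S).mp
      (Subalgebra.fg_def.mpr ⟨_, G.finite_toSet.image _, rfl⟩)
    have hS : ∀ x : R₁, algebraMap R₁ L x ∈ S := fun x => by
      have hx : x ∈ Algebra.adjoin A (G : Set R₁) := hG ▸ Algebra.mem_top
      induction hx using Algebra.adjoin_induction with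
      | mem z hz => exact Algebra.subset_adjoin ⟨z, hz, rfl⟩
      | algebraMap a => rw [← IsScalarTower.algebraMap_apply, ← hk]; exact S.algebraMap_mem _
      | add z w _ _ hz hw => rw [map_add]; exact add_mem hz hw
      | mul z w _ _ hz hw => rw [map_mul]; exact mul_mem hz hw
    have hclear : ∀ s ∈ S, ∃ a : A, a ∉ pA ∧ ∃ x : R₁, algebraMap A L a * s = algebraMap R₁ L x := by
      intro s hs
      induction hs using Algebra.adjoin_induction with
      | mem z hz =>
        obtain ⟨g, -, rfl⟩ := hz
        exact ⟨1, hpA.one_notMem, g, by rw [map_one, one_mul]⟩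
      | algebraMap z =>
        obtain ⟨a, b, hb, rfl⟩ := IsFractionRing.div_surjective (A := A') z
        obtain ⟨a, rfl⟩ := Ideal.Quotient.mk_surjective a
        obtain ⟨b, rfl⟩ := Ideal.Quotient.mk_surjective b
        have hb' : b ∉ pA := fun e => nonZeroDivisors.ne_zero hb (Ideal.Quotient.eq_zero_iff_mem.mpr e)
        refine ⟨b, hb', algebraMap A R₁ a, ?_⟩
        rw [map_div₀, hk, hk, ← IsScalarTower.algebraMap_apply, mul_div_cancel₀ _ (show algebraMap A L b ≠ 0 from hb')]
      | add z w _ _ hz hw =>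
        obtain ⟨a, ha, x, hx⟩ := hz
        obtain ⟨b, hb, v, hv⟩ := hw
        refine ⟨a * b, fun e => (hpA.mem_or_mem e).elim ha hb, algebraMap A R₁ b * x + algebraMap A R₁ a * v, ?_⟩
        simp only [map_mul, map_add, ← IsScalarTower.algebraMap_apply, ← hx, ← hv]; ring
      | mul z w _ _ hz hw =>
        obtain ⟨a, ha, x, hx⟩ := hz
        obtain ⟨b, hb, v, hv⟩ := hw
        refine ⟨a * b, fun e => (hpA.mem_or_mem e).elim ha hb, x * v, ?_⟩
        simp only [map_mul, ← hx, ← hv]; ring
    obtain ⟨r, g, hg, hgfin⟩ := exists_finite_inj_algHom_of_fg k S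
    choose a ha x hx using fun i => hclear (g (MvPolynomial.X i)).1 (g (MvPolynomial.X i)).2
    have ha' : ∀ i, algebraMap A' k (Ideal.Quotient.mk pA (a i)) ≠ 0 := fun i e =>
      ha i (Ideal.Quotient.eq_zero_iff_mem.mp (IsFractionRing.injective A' k (e.trans (map_zero _).symm)))
    let σ : MvPolynomial (Fin r) k →ₐ[k] MvPolynomial (Fin r) k :=
      MvPolynomial.aeval fun i => MvPolynomial.C (algebraMap A' k (Ideal.Quotient.mk pA (a i))) * MvPolynomial.X i
    let τ : MvPolynomial (Fin r) k →ₐ[k] MvPolynomial (Fin r) k :=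
      MvPolynomial.aeval fun i => MvPolynomial.C (algebraMap A' k (Ideal.Quotient.mk pA (a i)))⁻¹ * MvPolynomial.X i
    have hτσ : ∀ p, τ (σ p) = p := fun p => by
      have : τ.comp σ = AlgHom.id k _ := MvPolynomial.algHom_ext fun i => by
        simp [σ, τ, ← mul_assoc, ← MvPolynomial.C_mul, ha' i]
      exact AlgHom.congr_fun this p
    have hστ : ∀ p, σ (τ p) = p := fun p => by
      have : σ.comp τ = AlgHom.id k _ := MvPolynomial.algHom_ext fun i => by
        simp [σ, τ, ← mul_assoc, ← MvPolynomial.C_mul, ha' i]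
      exact AlgHom.congr_fun this p
    let Φ : MvPolynomial (Fin r) k →ₐ[k] L := (S.val.comp g).comp σ
    have hΦinj : Function.Injective Φ :=
      Subtype.val_injective.comp (hg.comp (Function.LeftInverse.injective hτσ))
    have hint : ∀ s ∈ S, Φ.toRingHom.IsIntegralElem s := by
      intro s hs
      obtain ⟨p, hp, hps⟩ := RingHom.IsIntegral.of_finite hgfin (⟨s, hs⟩ : S)
      refine ⟨p.map τ.toRingHom, hp.map _, ?_⟩
      rw [Polynomial.eval₂_map]
      have : Φ.toRingHom.comp τ.toRingHom = (S.val.toRingHom).comp g.toRingHom :=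
        RingHom.ext fun q => by
          show S.val (g (σ (τ q))) = _
          rw [hστ]; rfl
      rw [this]
      have := congrArg S.val.toRingHom hps
      rw [map_zero, Polynomial.hom_eval₂] at this
      exact this
    let P₀ := MvPolynomial (Fin r) A'
    let e : P₀ →ₐ[A] R₁ :=
      { MvPolynomial.eval₂Hom e₀.toRingHom x with
        commutes' := fun z => by
          show MvPolynomial.eval₂Hom e₀.toRingHom x (MvPolynomial.C (algebraMap A A' z)) = _
          rw [MvPolynomial.eval₂Hom_C]; exact e₀.commutes z }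
    let μ : P₀ →+* MvPolynomial (Fin r) k := MvPolynomial.map (algebraMap A' k)
    have heΦ : ∀ p, algebraMap R₁ L (e p) = Φ (μ p) := by
      have : (algebraMap R₁ L).comp e.toRingHom = Φ.toRingHom.comp μ := by
        refine MvPolynomial.ringHom_ext (fun z => ?_) fun i => ?_
        · obtain ⟨z, rfl⟩ := Ideal.Quotient.mk_surjective z
          show algebraMap R₁ L (MvPolynomial.eval₂Hom e₀.toRingHom x (MvPolynomial.C _)) =
            Φ (MvPolynomial.map (algebraMap A' k) (MvPolynomial.C _))
          rw [MvPolynomial.eval₂Hom_C, MvPolynomial.map_C, ← MvPolynomial.algebraMap_eq, Φ.commutes, hk,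
            IsScalarTower.algebraMap_apply A R₁ L]
          rfl
        · show algebraMap R₁ L (MvPolynomial.eval₂Hom e₀.toRingHom x (MvPolynomial.X i)) =
            Φ (MvPolynomial.map (algebraMap A' k) (MvPolynomial.X i))
          rw [MvPolynomial.eval₂Hom_X', MvPolynomial.map_X, ← hx]
          simp [Φ, σ, hk]
      exact RingHom.congr_fun this
    have heinj : Function.Injective e := fun p q hpq =>
      MvPolynomial.map_injective (algebraMap A' k) (IsFractionRing.injective A' k)
        (hΦinj (by rw [← heΦ, ← heΦ, hpq]))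
    -- integral multiples
    let M : Submonoid P₀ := (nonZeroDivisors A').map MvPolynomial.C
    let _ : Algebra P₀ (MvPolynomial (Fin r) k) := μ.toAlgebra
    have : IsLocalization M (MvPolynomial (Fin r) k) := MvPolynomial.isLocalization (nonZeroDivisors A') k
    let _ : Algebra (MvPolynomial (Fin r) k) L := Φ.toRingHom.toAlgebra
    let _ : Algebra P₀ R₁ := e.toRingHom.toAlgebra
    let _ : Algebra P₀ L := ((algebraMap R₁ L).comp e.toRingHom).toAlgebra
    have : IsScalarTower P₀ R₁ L := IsScalarTower.of_algebraMap_eq fun _ => rfl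
    have : IsScalarTower P₀ (MvPolynomial (Fin r) k) L := IsScalarTower.of_algebraMap_eq fun p => heΦ p
    have hmult : ∀ z : R₁, ∃ b : A, b ∉ pA ∧ IsIntegral P₀ (algebraMap A R₁ b * z) := by
      intro z
      obtain ⟨⟨m, q, hq, rfl⟩, hm⟩ := IsIntegral.exists_multiple_integral_of_isLocalization (S := L) M
        (Rₘ := MvPolynomial (Fin r) k) (algebraMap R₁ L z) (hint _ (hS z))
      obtain ⟨b, rfl⟩ := Ideal.Quotient.mk_surjective q
      refine ⟨b, fun e' => nonZeroDivisors.ne_zero hq (Ideal.Quotient.eq_zero_iff_mem.mpr e'),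
        (isIntegral_algebraMap_iff hinj₁).mp ?_⟩
      rw [map_mul]
      have h2 : algebraMap P₀ L (MvPolynomial.C (Ideal.Quotient.mk pA b)) = algebraMap R₁ L (algebraMap A R₁ b) :=
        congrArg (algebraMap R₁ L) ((MvPolynomial.eval₂Hom_C _ _ _).trans (e₀.commutes b))
      rw [← h2, ← Algebra.smul_def]
      exact hm
    refine ⟨P₀, inferInstance, inferInstance, inferInstance, inferInstance,
      Algebra.FiniteType.trans (R := A) (S := A') inferInstance inferInstance, e, heinj,
      Groth.Agent.N2Poly.isN2_mvPolynomial_fin A' (hA pA) r, fun P hP hle hcomap => ?_, fun inst hinst z => ?_⟩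
    · refine le_antisymm hle fun z hz => ?_
      by_contra hzP
      obtain ⟨b, hb, hbz⟩ := hmult z
      have hby : algebraMap A R₁ b ∉ y₁ := fun h' => hb (hcase ▸ h')
      exact (Ideal.comap_lt_comap_of_integral_mem_sdiff (R := P₀) hle
        ⟨y₁.mul_mem_left _ hz, fun h' => (hP.mem_or_mem h').elim (fun h'' => hby (hle h'')) hzP⟩ hbz).ne hcomap
    · obtain ⟨b, hb, hbz⟩ := hmult z
      have : inst = ((algebraMap R₁ L).comp e.toRingHom).toAlgebra := Algebra.algebra_ext _ _ hinst
      subst this
      have h1 : IsAlgebraic P₀ (algebraMap R₁ L (algebraMap A R₁ b) * algebraMap R₁ L z) := by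
        rw [← map_mul]; exact (hbz.algebraMap).isAlgebraic
      have h2 : algebraMap R₁ L (algebraMap A R₁ b) = algebraMap P₀ L (MvPolynomial.C (Ideal.Quotient.mk pA b)) :=
        (congrArg (algebraMap R₁ L) ((MvPolynomial.eval₂Hom_C _ _ _).trans (e₀.commutes b))).symm
      have h3 : algebraMap P₀ L (MvPolynomial.C (Ideal.Quotient.mk pA b)) ≠ 0 := fun h' =>
        hb (Ideal.Quotient.eq_zero_iff_mem.mp (by
          have := (hinj₁.comp heinj) (h'.trans (map_zero (algebraMap P₀ L)).symm)
          exact MvPolynomial.C_injective _ _ (this.trans (map_zero _).symm)))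
      rw [h2] at h1
      have h4 := (isAlgebraic_algebraMap (R := P₀) (A := L) (MvPolynomial.C (Ideal.Quotient.mk pA b))).inv.mul h1
      rwa [inv_mul_cancel_left₀ h3] at h4
  · -- quasi-finite case
    let _ : Algebra A' R₁ := e₀.toRingHom.toAlgebra
    have : IsScalarTower A A' R₁ := IsScalarTower.of_algebraMap_eq fun a => (e₀.commutes a).symm
    have : Algebra.FiniteType A' R₁ := Algebra.FiniteType.of_restrictScalars_finiteType A A' R₁
    have hmin : ∀ P : Ideal R₁, P.IsPrime → P ≤ y₁ → P.comap e₀.toRingHom = y₁.comap e₀.toRingHom → P = y₁ := by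
      intro P hP hle hcomap
      refine (hgap₁ P hP hle).resolve_left fun e => hcase ?_
      subst e
      have := congrArg (Ideal.comap (Ideal.Quotient.mk pA)) hcomap
      rw [Ideal.comap_comap, Ideal.comap_comap] at this
      have h2 : e₀.toRingHom.comp (Ideal.Quotient.mk pA) = algebraMap A R₁ := RingHom.ext fun a => rfl
      rw [h2] at this
      rw [← this]
      ext a
      show algebraMap A R₁ a = 0 ↔ algebraMap A L a = 0
      rw [IsScalarTower.algebraMap_apply A R₁ L, map_eq_zero_iff _ hinj₁]
    refine ⟨A', inferInstance, inferInstance, inferInstance, inferInstance, inferInstance, e₀, he₀, hA pA, hmin,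
      fun inst hinst z => ?_⟩
    have : Algebra.QuasiFiniteAt A' y₁ := quasiFiniteAt_of_isMaximal y₁ hmin
    have hbp : (⊥ : Ideal R₁).IsPrime := Ideal.isPrime_bot
    have : Algebra.QuasiFiniteAt A' (⊥ : Ideal R₁) :=
      Algebra.QuasiFiniteAt.of_le (P := (⊥ : Ideal R₁)) (Q := y₁) bot_le
    let Fr := Localization.AtPrime (⊥ : Ideal R₁)
    have hFrinj : Function.Injective (algebraMap R₁ Fr) :=
      IsLocalization.injective Fr (M := (⊥ : Ideal R₁).primeCompl) (Ideal.primeCompl_le_nonZeroDivisors _)
    have : IsFractionRing R₁ Fr := by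
      have : (⊥ : Ideal R₁).primeCompl = nonZeroDivisors R₁ := by
        ext z; simp [mem_nonZeroDivisors_iff_ne_zero]
      exact (this ▸ (inferInstance : IsLocalization (⊥ : Ideal R₁).primeCompl Fr) : IsLocalization (nonZeroDivisors R₁) Fr)
    let _ : Field Fr := IsFractionRing.toField R₁
    let jF : Fr →+* L := IsFractionRing.lift hinj₁
    let K₀ := FractionRing A'
    have hA'Fr : Function.Injective (algebraMap A' Fr) := by
      rw [IsScalarTower.algebraMap_eq A' R₁ Fr]; exact hFrinj.comp he₀
    let _ : Algebra K₀ Fr := (IsFractionRing.lift hA'Fr : K₀ →+* Fr).toAlgebra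
    have : IsScalarTower A' K₀ Fr :=
      IsScalarTower.of_algebraMap_eq fun a => (IsFractionRing.lift_algebraMap hA'Fr a).symm
    have : Algebra.QuasiFinite K₀ Fr := Algebra.QuasiFinite.of_restrictScalars A' K₀ Fr
    have : Module.Finite K₀ Fr := Module.Finite.of_quasiFinite
    have halg : IsAlgebraic A' (algebraMap R₁ Fr z) :=
      (IsFractionRing.isAlgebraic_iff A' K₀ Fr).mpr (Algebra.IsAlgebraic.isAlgebraic _)
    let φ : Fr →ₐ[A'] L :=
      { jF with
        commutes' := fun a => by
          show jF (algebraMap A' Fr a) = _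
          rw [IsScalarTower.algebraMap_apply A' R₁ Fr, IsFractionRing.lift_algebraMap hinj₁, hinst]
          rfl }
    have hz : φ (algebraMap R₁ Fr z) = algebraMap R₁ L z := IsFractionRing.lift_algebraMap hinj₁ z
    rw [← hz]
    exact halg.algHom φ

end Groth.Agent.LimSch.CurveTest
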