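import Groth.Agent.DVRDom.Criterion
import Groth.Agent.LimSch.ClosureRange

/-! DVR valuative criteria tested on a dominant morphism to the source. -/

universe u

set_option backward.isDefEq.respectTransparency false

namespace Groth.Agent.LimSch

open CategoryTheory CategoryTheory.Limits AlgebraicGeometry IsLocalRing
open Groth.Agent.DVRDom

theorem isSeparated_of_dense_dvr {X S U : Scheme.{u}} [IsLocallyNoetherian S] (f : X ⟶ S)
    [LocallyOfFiniteType f] (h : U ⟶ X) [LocallyOfFiniteType h] [QuasiCompact h] (hd : DenseRange h.base)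
    (H : ∀ (A : Type u) [CommRing A] [IsDomain A] [IsDiscreteValuationRing A]
      (u : Spec (CommRingCat.of (FractionRing A)) ⟶ U) (y : Spec (CommRingCat.of A) ⟶ S),
      u ≫ h ≫ f = Spec.map (CommRingCat.ofHom (algebraMap A (FractionRing A))) ≫ y →
        ∀ l₁ l₂ : Spec (CommRingCat.of A) ⟶ X, l₁ ≫ f = y →
          Spec.map (CommRingCat.ofHom (algebraMap A (FractionRing A))) ≫ l₁ = u ≫ h →
          l₂ ≫ f = y → Spec.map (CommRingCat.ofHom (algebraMap A (FractionRing A))) ≫ l₂ = u ≫ h →
          l₁ = l₂) :
    IsSeparated f := by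
  have : IsLocallyNoetherian X := LocallyOfFiniteType.isLocallyNoetherian f
  have : IsLocallyNoetherian (pullback f f) :=
    LocallyOfFiniteType.isLocallyNoetherian (pullback.fst f f)
  let d := h ≫ pullback.diagonal f
  suffices hcl : IsClosed (Set.range (pullback.diagonal f)) from
    ⟨.of_isPreimmersion _ hcl⟩
  refine isClosed_of_closure_subset fun z hz => ?_
  have hz' : z ∈ closure (Set.range d) := by
    refine closure_minimal ?_ isClosed_closure hz
    have : Set.range d = (pullback.diagonal f) '' Set.range h := by
      rw [← Set.range_comp]; rfl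
    rw [this, ← Set.image_univ, ← hd.closure_range]
    exact image_closure_subset_closure_image (pullback.diagonal f).continuous
  obtain ⟨η, hη⟩ := exists_specializes_of_mem_closure_range d hz'
  rcases eq_or_ne z (d η) with rfl | hne
  · exact ⟨h η, rfl⟩
  obtain ⟨A, g, hA, hg, hcomm⟩ := exists_dvr_through_specialization d η z hη hne
  let e : U.residueField η ≃ₐ[A] FractionRing A := (FractionRing.algEquiv A (U.residueField η)).symm
  have he : CommRingCat.ofHom A.subtype ≫ CommRingCat.ofHom (e : U.residueField η →+* FractionRing A) =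
      CommRingCat.ofHom (algebraMap A (FractionRing A)) :=
    CommRingCat.hom_ext (RingHom.ext fun a => e.commutes a)
  let u : Spec (.of (FractionRing A)) ⟶ U :=
    Spec.map (CommRingCat.ofHom (e : U.residueField η →+* FractionRing A)) ≫ U.fromSpecResidueField η
  have hu : Spec.map (CommRingCat.ofHom (algebraMap A (FractionRing A))) ≫ g =
      u ≫ h ≫ pullback.diagonal f := by
    rw [← he, Spec.map_comp, Category.assoc, hcomm, Category.assoc]
  have h₁ : Spec.map (CommRingCat.ofHom (algebraMap A (FractionRing A))) ≫ g ≫ pullback.fst f f = u ≫ h := by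
    rw [reassoc_of% hu, pullback.diagonal_fst, Category.comp_id]
  have h₂ : Spec.map (CommRingCat.ofHom (algebraMap A (FractionRing A))) ≫ g ≫ pullback.snd f f = u ≫ h := by
    rw [reassoc_of% hu, pullback.diagonal_snd, Category.comp_id]
  have heq := H A u ((g ≫ pullback.fst f f) ≫ f) (by rw [← reassoc_of% h₁]; simp)
    _ _ rfl h₁ (by simp [pullback.condition]) h₂
  have hgd : g = (g ≫ pullback.fst f f) ≫ pullback.diagonal f := by
    apply pullback.hom_ext
    · simp
    · simp [heq]
  refine ⟨(g ≫ pullback.fst f f) (closedPoint A), ?_⟩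
  rw [← Scheme.Hom.comp_apply, ← hgd, hg]

end Groth.Agent.LimSch
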