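import Groth.Agent.LimSch.DVRProper
import Groth.Agent.LimSch.DVRDense

/-! DVR criteria tested at the generic points of the source. -/

universe u

set_option backward.isDefEq.respectTransparency false

namespace Groth.Agent.LimSch

open CategoryTheory CategoryTheory.Limits AlgebraicGeometry IsLocalRing
open Groth.Agent.DVRDom

lemma isMaxPt_of_mem_irreducibleComponents {X : Scheme.{u}} {η : X}
    (h : closure {η} ∈ irreducibleComponents (X : Type u)) : IsMaxPt η := by
  intro z hz
  have hle : closure {η} ⊆ closure {z} :=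
    closure_minimal (Set.singleton_subset_iff.mpr hz.mem_closure) isClosed_closure
  exact ((specializes_iff_mem_closure.mpr (h.2 isIrreducible_singleton.closure hle (subset_closure rfl))).antisymm hz).eq.symm

lemma closure_mem_irreducibleComponents {X : Scheme.{u}} {η : X} (h : IsMaxPt η) :
    closure {η} ∈ irreducibleComponents (X : Type u) := by
  obtain ⟨T, hT, hle⟩ := exists_mem_irreducibleComponents_subset_of_isIrreducible _
    (isIrreducible_singleton (x := η)).closure
  obtain ⟨z, hz⟩ := QuasiSober.sober hT.1 (isClosed_of_mem_irreducibleComponents T hT)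
  have hzη : z ⤳ η := specializes_iff_mem_closure.mpr ((hz.def : closure {z} = T) ▸ hle (subset_closure rfl))
  rw [← h z hzη, hz.def]
  exact hT

theorem isSeparated_of_generic_dvr {X S : Scheme.{u}} [IsLocallyNoetherian S] (f : X ⟶ S)
    [LocallyOfFiniteType f]
    (H : ∀ η : X, IsMaxPt η → ∀ (A : ValuationSubring (X.residueField η)), IsDiscreteValuationRing A →
        ∀ l₁ l₂ : Spec (CommRingCat.of A) ⟶ X, l₁ ≫ f = l₂ ≫ f →
          Spec.map (CommRingCat.ofHom A.subtype) ≫ l₁ = X.fromSpecResidueField η →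
          Spec.map (CommRingCat.ofHom A.subtype) ≫ l₂ = X.fromSpecResidueField η → l₁ = l₂) :
    IsSeparated f := by
  have : IsLocallyNoetherian X := LocallyOfFiniteType.isLocallyNoetherian f
  have : IsLocallyNoetherian (pullback f f) :=
    LocallyOfFiniteType.isLocallyNoetherian (pullback.fst f f)
  let d := pullback.diagonal f
  suffices hcl : IsClosed (Set.range d) from ⟨.of_isPreimmersion _ hcl⟩
  refine isClosed_of_closure_subset fun z hz => ?_
  obtain ⟨w, hw⟩ := exists_specializes_of_mem_closure_range d hz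
  obtain ⟨η, hη, hηw⟩ := exists_isMaxPt_specializes w
  have hsp : d η ⤳ z := (hηw.map d.continuous).trans hw
  rcases eq_or_ne z (d η) with rfl | hne
  · exact ⟨η, rfl⟩
  obtain ⟨A, g, hA, hg, hcomm⟩ := exists_dvr_through_specialization d η z hsp hne
  have heq := H η hη A hA (g ≫ pullback.fst f f) (g ≫ pullback.snd f f) (by simp [pullback.condition])
    (by rw [reassoc_of% hcomm, pullback.diagonal_fst, Category.comp_id])
    (by rw [reassoc_of% hcomm, pullback.diagonal_snd, Category.comp_id])
  have hgd : g = (g ≫ pullback.fst f f) ≫ pullback.diagonal f := by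
    apply pullback.hom_ext
    · simp
    · simp [heq]
  refine ⟨(g ≫ pullback.fst f f) (closedPoint A), ?_⟩
  rw [← Scheme.Hom.comp_apply, ← hgd, hg]

/-- The existence hypothesis at generic points. -/
def GenericDVRExistence {X S : Scheme.{u}} (f : X ⟶ S) : Prop :=
  ∀ η : X, IsMaxPt η → ∀ (A : ValuationSubring (X.residueField η)), IsDiscreteValuationRing A →
    ∀ y : Spec (CommRingCat.of A) ⟶ S,
      Spec.map (CommRingCat.ofHom A.subtype) ≫ y = X.fromSpecResidueField η ≫ f →
      ∃ l : Spec (CommRingCat.of A) ⟶ X,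
        l ≫ f = y ∧ Spec.map (CommRingCat.ofHom A.subtype) ≫ l = X.fromSpecResidueField η

theorem GenericDVRExistence.hasCenter {X S V : Scheme.{u}} {f : X ⟶ S} (H : GenericDVRExistence f)
    (g : V ⟶ S) [IsOpenImmersion g]
    {Z : Scheme.{u}} [IsIntegral Z] (ι : Z ⟶ pullback f g) [IsClosedImmersion ι]
    (hmax : IsMaxPt (ι (genericPoint Z)))
    (R : ValuationSubring Z.functionField) (hR : IsDiscreteValuationRing R)
    (hm : LiesOver (ι ≫ pullback.snd f g) R) : HasCenter R := by
  obtain ⟨m, hm⟩ := hm
  let j := pullback.fst f g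
  let jK : Spec (CommRingCat.of Z.functionField) ⟶ Z := Z.fromSpecStalk (genericPoint Z)
  let pt : Spec (CommRingCat.of Z.functionField) := closedPoint Z.functionField
  let η : X := (jK ≫ ι ≫ j) pt
  have hη : IsMaxPt η := by
    have he : η = j (ι (genericPoint Z)) := congrArg (fun w => j (ι w)) Scheme.fromSpecStalk_closedPoint
    intro z hz
    rw [he] at hz ⊢
    obtain ⟨z', rfl⟩ := hz.mem_open j.isOpenEmbedding.isOpen_range ⟨_, rfl⟩
    rw [hmax z' (j.isOpenEmbedding.toIsEmbedding.isInducing.specializes_iff.mp hz)]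
  let φ : X.residueField η ⟶ CommRingCat.of Z.functionField :=
    X.descResidueField (Scheme.stalkClosedPointTo (jK ≫ ι ≫ j))
  have hφ : Spec.map φ ≫ X.fromSpecResidueField η = jK ≫ ι ≫ j :=
    X.descResidueField_stalkClosedPointTo_fromSpecResidueField _ (jK ≫ ι ≫ j)
  have hsurj : Function.Surjective φ.hom := by
    intro k
    obtain ⟨a, ha⟩ := ((ConcreteCategory.bijective_of_isIso (stalkClosedPointIso (CommRingCat.of Z.functionField)).hom).2.comp
      ((jK ≫ ι ≫ j).stalkMap_surjective pt)) k
    exact ⟨X.residue η a, ha⟩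
  let A : ValuationSubring (X.residueField η) := R.comap φ.hom
  let e : A ≃+* R := RingEquiv.ofBijective
    ((φ.hom.comp A.subtype).codRestrict R.toSubring fun a => a.2)
    ⟨fun a b h => Subtype.ext (φ.hom.injective (congrArg Subtype.val h)), fun r => by
      obtain ⟨a, ha⟩ := hsurj r.1
      exact ⟨⟨a, show φ.hom a ∈ R from ha.symm ▸ r.2⟩, Subtype.ext ha⟩⟩
  have hA : IsDiscreteValuationRing A := IsDiscreteValuationRing.RingEquivClass.isDiscreteValuationRing e.symm
  let es : Spec (CommRingCat.of R) ⟶ Spec (CommRingCat.of A) := Spec.map (CommRingCat.ofHom e.toRingHom)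
  let es' : Spec (CommRingCat.of A) ⟶ Spec (CommRingCat.of R) := Spec.map (CommRingCat.ofHom e.symm.toRingHom)
  have hes : Spec.map φ ≫ Spec.map (CommRingCat.ofHom A.subtype) =
      Spec.map (CommRingCat.ofHom R.subtype) ≫ es := by
    rw [← Spec.map_comp, ← Spec.map_comp]; rfl
  have hiso : es ≫ es' = 𝟙 _ := by
    rw [← Spec.map_comp, ← Spec.map_id]
    exact congrArg Spec.map (CommRingCat.hom_ext (RingHom.ext fun r => e.apply_symm_apply r))
  have : Epi (Spec.map φ) := by
    have : IsIso φ := (ConcreteCategory.isIso_iff_bijective φ).mpr ⟨φ.hom.injective, hsurj⟩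
    infer_instance
  obtain ⟨l, hlf, hl⟩ := H η hη A hA (es' ≫ m ≫ g) (by
    rw [← cancel_epi (Spec.map φ), reassoc_of% hes, reassoc_of% hiso, reassoc_of% hm, reassoc_of% hφ,
      pullback.condition])
  let lV : Spec (CommRingCat.of R) ⟶ pullback f g :=
    pullback.lift (es ≫ l) m (by rw [Category.assoc, hlf, reassoc_of% hiso])
  have hlV : Spec.map (CommRingCat.ofHom R.subtype) ≫ lV = jK ≫ ι := by
    rw [← cancel_mono j, Category.assoc, pullback.lift_fst, ← reassoc_of% hes, hl, hφ, Category.assoc]
  obtain ⟨l', hl'⟩ := exists_lift_of_range_subset ι lV (by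
    rintro _ ⟨q, rfl⟩
    have hq : Spec.map (CommRingCat.ofHom R.subtype) pt ⤳ q := by
      refine (PrimeSpectrum.le_iff_specializes _ q).mp ?_
      change Ideal.comap R.subtype (maximalIdeal Z.functionField) ≤ q.asIdeal
      rw [IsLocalRing.maximalIdeal_eq_bot (R := Z.functionField),
        show Ideal.comap R.subtype ⊥ = ⊥ from Ideal.comap_bot_of_injective _ Subtype.val_injective]
      exact bot_le
    refine (hq.map lV.continuous).mem_closed ι.isClosedEmbedding.isClosed_range ?_
    rw [← Scheme.Hom.comp_apply, hlV, Scheme.Hom.comp_apply]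
    exact ⟨_, rfl⟩)
  refine ⟨l', ?_⟩
  rw [← cancel_mono ι, Category.assoc, hl', hlV]

theorem existence_of_components {X S : Scheme.{u}} [IsLocallyNoetherian S] [S.IsSeparated] (f : X ⟶ S)
    [IsSeparated f] [LocallyOfFiniteType f] [QuasiCompact f]
    (H : ∀ {Z : Scheme.{u}} [IsIntegral Z] (ι : Z ⟶ X) [IsClosedImmersion ι], IsMaxPt (ι (genericPoint Z)) →
      ∀ R : ValuationSubring Z.functionField, IsDiscreteValuationRing R → LiesOver (ι ≫ f) R → HasCenter R) :
    ValuativeCriterion.Existence f := by
  intro S'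
  let pt : Spec (CommRingCat.of S'.K) := closedPoint S'.K
  obtain ⟨ξ, hξmax, hξx⟩ := exists_isMaxPt_specializes (S'.i₁ pt)
  let I := Scheme.IdealSheafData.vanishingIdeal ⟨closure {ξ}, isClosed_closure⟩
  let Z := I.subscheme
  let ι : Z ⟶ X := I.subschemeι
  have hrange : Set.range ι = closure {ξ} := by
    rw [Scheme.IdealSheafData.range_subschemeι, Scheme.IdealSheafData.coe_support_vanishingIdeal]
    rfl
  have hirr : IrreducibleSpace Z := by
    have : IrreducibleSpace (closure ({ξ} : Set X)) :=
      Subtype.irreducibleSpace isIrreducible_singleton.closure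
    let e : Z ≃ₜ closure ({ξ} : Set X) :=
      ι.isClosedEmbedding.toIsEmbedding.toHomeomorph.trans (Homeomorph.setCongr hrange)
    have h1 := IsIrreducible.image (IrreducibleSpace.isIrreducible_univ (closure ({ξ} : Set X))) e.symm
      e.symm.continuous.continuousOn
    rw [Set.image_univ, e.symm.surjective.range_eq] at h1
    exact irreducibleSpace_def _ |>.mpr h1
  have : IsIntegral Z := isIntegral_of_irreducibleSpace_of_isReduced Z
  have hζ : ι (genericPoint Z) = ξ := by
    refine hξmax _ ?_
    obtain ⟨z, hz⟩ : ξ ∈ Set.range ι := hrange ▸ subset_closure rfl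
    rw [← hz]
    exact ((genericPoint_spec Z).specializes trivial).map ι.continuous
  have : IsSeparated (ι ≫ f) := inferInstance
  have : Z.IsSeparated := ⟨by rw [← terminal.comp_from (ι ≫ f)]; infer_instance⟩
  have hE : ValuativeCriterion.Existence (ι ≫ f) :=
    existence_of_hasCenter (ι ≫ f) fun V hV => hasCenter_of_forall_dvr (ι ≫ f)
      (fun R hR hm => H ι (by rw [hζ]; exact hξmax) R hR hm) V hV
  obtain ⟨i₁', hi₁'⟩ := exists_lift_of_range_subset ι S'.i₁ (by
    rintro _ ⟨q, rfl⟩
    rw [hrange, ← specializes_iff_mem_closure, Subsingleton.elim q pt]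
    exact hξx)
  obtain ⟨⟨⟨l, hl₁, hl₂⟩⟩⟩ := hE ⟨S'.R, S'.K, i₁', S'.i₂,
    ⟨by rw [← Category.assoc, hi₁', S'.commSq.w]⟩⟩
  exact ⟨⟨⟨l ≫ ι, by rw [← Category.assoc, hl₁, hi₁'], by rw [Category.assoc]; exact hl₂⟩⟩⟩

theorem GenericDVRExistence.universallyClosed {X S : Scheme.{u}} [IsLocallyNoetherian S] {f : X ⟶ S}
    [IsSeparated f] [LocallyOfFiniteType f] [QuasiCompact f] (H : GenericDVRExistence f) :
    UniversallyClosed f := by
  rw [IsZariskiLocalAtTarget.iff_of_openCover (P := @UniversallyClosed) S.affineCover]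
  intro i
  change UniversallyClosed (pullback.snd f (S.affineCover.f i))
  have : IsLocallyNoetherian (S.affineCover.X i) :=
    isLocallyNoetherian_of_isOpenImmersion (S.affineCover.f i)
  exact UniversallyClosed.of_valuativeCriterion _
    (existence_of_components _ fun ι _ hmax R hR hm => H.hasCenter (S.affineCover.f i) ι hmax R hR hm)

end Groth.Agent.LimSch
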