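import Groth.Agent.LimSch.DescendsCores
import Mathlib.AlgebraicGeometry.Morphisms.FinitePresentation
import Mathlib.AlgebraicGeometry.Limits
import Mathlib.AlgebraicGeometry.Morphisms.QuasiSeparated

/-!
Models at a stage of schemes over a cofiltered limit: gluing two models along an open.
-/

set_option autoImplicit false
universe u

open CategoryTheory Limits AlgebraicGeometry TopologicalSpace

namespace Groth.Agent.LimSch

/-- `f` is the base change of a finitely presented morphism at some stage. -/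
def HasModel {I : Type u} [SmallCategory I] (D : I ⥤ Scheme.{u}) (c : Cone D) {X : Scheme.{u}}
    (f : X ⟶ c.pt) : Prop :=
  ∃ (i : I) (Xi : Scheme.{u}) (fi : Xi ⟶ D.obj i) (g : X ⟶ Xi),
    LocallyOfFinitePresentation fi ∧ QuasiCompact fi ∧ QuasiSeparated fi ∧ IsPullback g f fi (c.π.app i)

variable {I : Type u} [SmallCategory I] {D : I ⥤ Scheme.{u}} {c : Cone D}

theorem HasModel.of_iso {X Y : Scheme.{u}} {f : X ⟶ c.pt} (e : Y ≅ X) (h : HasModel D c f) :
    HasModel D c (e.hom ≫ f) := by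
  obtain ⟨i, Xi, fi, g, h1, h2, h3, hg⟩ := h
  refine ⟨i, Xi, fi, e.hom ≫ g, h1, h2, h3, IsPullback.of_iso hg e.symm (Iso.refl _) (Iso.refl _) (Iso.refl _) ?_ ?_ ?_ ?_⟩
  all_goals simp

theorem quasiSeparatedSpace_of_two {P : Scheme.{u}} (A B : P.Opens) (hAB : A ⊔ B = ⊤)
    [QuasiSeparatedSpace A.toScheme] [QuasiSeparatedSpace B.toScheme] [CompactSpace A.toScheme]
    [CompactSpace B.toScheme] (hcap : IsCompact ((A : Set P) ∩ B)) : QuasiSeparatedSpace P := by
  have hA : IsCompact (A : Set P) := isCompact_iff_compactSpace.mpr ‹_›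
  have hB : IsCompact (B : Set P) := isCompact_iff_compactSpace.mpr ‹_›
  have hAq : IsQuasiSeparated (A : Set P) := (isQuasiSeparated_iff_quasiSeparatedSpace _ A.2).mpr ‹_›
  have hBq : IsQuasiSeparated (B : Set P) := (isQuasiSeparated_iff_quasiSeparatedSpace _ B.2).mpr ‹_›
  have hret : ∀ (A B : P.Opens), A ⊔ B = ⊤ → IsCompact (A : Set P) → IsCompact ((A : Set P) ∩ B) →
      IsQuasiSeparated (A : Set P) → IsQuasiSeparated (B : Set P) → IsRetrocompact (A : Set P) := by
    intro A B hAB hA hcap hAq hBq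
    intro U hUc hU
    obtain ⟨s, hs, hUs⟩ := (isCompact_iff_finite_and_eq_biUnion_affineOpens (U := (⟨U, hU⟩ : P.Opens))).mp hUc
    have key : ∀ x ∈ (⟨U, hU⟩ : P.Opens), ∃ V : P.affineOpens, x ∈ V.1 ∧ (V.1 : Set P) ⊆ U ∧
        (V.1 ≤ A ∨ V.1 ≤ B) := by
      intro x hx
      have : x ∈ A ⊔ B := hAB ▸ trivial
      rcases this with hxA | hxB
      · obtain ⟨V, hV, hxV, hVA⟩ := exists_isAffineOpen_mem_and_subset (U := (⟨U, hU⟩ : P.Opens) ⊓ A) ⟨hx, hxA⟩
        exact ⟨⟨V, hV⟩, hxV, fun y hy => (hVA hy).1, Or.inl fun y hy => (hVA hy).2⟩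
      · obtain ⟨V, hV, hxV, hVB⟩ := exists_isAffineOpen_mem_and_subset (U := (⟨U, hU⟩ : P.Opens) ⊓ B) ⟨hx, hxB⟩
        exact ⟨⟨V, hV⟩, hxV, fun y hy => (hVB hy).1, Or.inr fun y hy => (hVB hy).2⟩
    choose V hxV hVU hV using key
    obtain ⟨t, ht⟩ := hUc.elim_finite_subcover (fun x : U => ((V x.1 x.2).1 : Set P))
      (fun x => (V x.1 x.2).1.2) (fun x hx => Set.mem_iUnion.mpr ⟨⟨x, hx⟩, hxV x hx⟩)
    have : (A : Set P) ∩ U = ⋃ x ∈ t, (A : Set P) ∩ (V x.1 x.2).1 := by
      refine Set.Subset.antisymm (fun y hy => ?_) (Set.iUnion₂_subset fun x _ y hy => ⟨hy.1, hVU _ _ hy.2⟩)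
      obtain ⟨x, hx, hyx⟩ := Set.mem_iUnion₂.mp (ht hy.2)
      exact Set.mem_iUnion₂.mpr ⟨x, hx, hy.1, hyx⟩
    rw [this]
    refine t.finite_toSet.isCompact_biUnion fun x _ => ?_
    rcases hV x.1 x.2 with h | h
    · rw [Set.inter_eq_right.mpr h]; exact (V x.1 x.2).2.isCompact
    · rw [show (A : Set P) ∩ (V x.1 x.2).1 = ((A : Set P) ∩ B) ∩ (V x.1 x.2).1 from by
        rw [Set.inter_assoc, Set.inter_eq_right.mpr (show ((V x.1 x.2).1 : Set P) ⊆ B from h)]]
      exact hBq _ _ Set.inter_subset_right (A.2.inter B.2) hcap h (V x.1 x.2).1.2 (V x.1 x.2).2.isCompact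
  refine QuasiSeparatedSpace.of_isOpenCover (U := fun b : Bool => cond b A B) ?_ ?_ ?_
  · rw [IsOpenCover, eq_top_iff, ← hAB]
    exact sup_le (le_iSup (fun b : Bool => cond b A B) true) (le_iSup (fun b : Bool => cond b A B) false)
  · rintro (_ | _)
    · exact hret B A (sup_comm A B ▸ hAB) hB (Set.inter_comm (A : Set P) B ▸ hcap) hBq hAq
    · exact hret A B hAB hA hcap hAq hBq
  · rintro (_ | _)
    exacts [hBq, hAq]

theorem hasModel_glue {l : I} [CompactSpace (D.obj l)] [QuasiSeparatedSpace (D.obj l)] {X : Scheme.{u}}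
    (f : X ⟶ c.pt) (V W : X.Opens) (hVW : V ⊔ W = ⊤) {Vl Wl Ol : Scheme.{u}} (vl : Vl ⟶ D.obj l)
    (wl : Wl ⟶ D.obj l) [LocallyOfFinitePresentation vl] [QuasiCompact vl] [QuasiSeparated vl]
    [LocallyOfFinitePresentation wl] [QuasiCompact wl] [QuasiSeparated wl]
    (a : Ol ⟶ Vl) (b : Ol ⟶ Wl) [IsOpenImmersion a] [IsOpenImmersion b] [CompactSpace Ol]
    (hab : a ≫ vl = b ≫ wl) (qV : V.toScheme ⟶ Vl) (qW : W.toScheme ⟶ Wl)
    (hV : IsPullback qV (V.ι ≫ f) vl (c.π.app l)) (hW : IsPullback qW (W.ι ≫ f) wl (c.π.app l))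
    (qO : (V ⊓ W).toScheme ⟶ Ol) (hOa : qO ≫ a = X.homOfLE inf_le_left ≫ qV)
    (hOb : qO ≫ b = X.homOfLE inf_le_right ≫ qW)
    (hOV : ∀ x : V.toScheme, qV x ∈ Set.range a → (x.1 : X) ∈ W)
    (hOW : ∀ x : W.toScheme, qW x ∈ Set.range b → (x.1 : X) ∈ V) : HasModel D c f := by
  let P := pushout a b
  let p : P ⟶ D.obj l := pushout.desc vl wl hab
  let iA : Vl ⟶ P := pushout.inl a b
  let iB : Wl ⟶ P := pushout.inr a b
  haveI : IsOpenImmersion iA := inferInstanceAs (IsOpenImmersion (colimit.ι (span a b) WalkingSpan.left))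
  haveI : IsOpenImmersion iB := inferInstanceAs (IsOpenImmersion (colimit.ι (span a b) WalkingSpan.right))
  have hsurj : ∀ x : P, x ∈ Set.range iA ∨ x ∈ Set.range iB := by
    intro x
    obtain ⟨i, xi, rfl⟩ := Scheme.IsLocallyDirected.ι_jointly_surjective (span a b) x
    obtain (_ | (_ | _)) := i
    · refine Or.inl ⟨a xi, ?_⟩
      show (a ≫ colimit.ι (span a b) WalkingSpan.left) xi = _
      exact congr($(colimit.w (span a b) WalkingSpan.Hom.fst) xi)
    · exact Or.inl ⟨xi, rfl⟩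
    · exact Or.inr ⟨xi, rfl⟩
  have hinter : ∀ x y, iA x = iB y → ∃ z, a z = x ∧ b z = y := by
    intro x y h
    obtain ⟨k, fi, fj, z, hz1, hz2⟩ := (Scheme.IsLocallyDirected.ι_eq_ι_iff (F := span a b)
      (i := WalkingSpan.left) (j := WalkingSpan.right)).mp h
    obtain (_ | (_ | _)) := k
    · obtain rfl : fi = WalkingSpan.Hom.fst := Subsingleton.elim _ _
      obtain rfl : fj = WalkingSpan.Hom.snd := Subsingleton.elim _ _
      exact ⟨z, hz1, hz2⟩
    · nomatch fj
    · nomatch fi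
  -- the source is quasi-compact and quasi-separated
  haveI : CompactSpace Vl := QuasiCompact.compactSpace_of_compactSpace vl
  haveI : CompactSpace Wl := QuasiCompact.compactSpace_of_compactSpace wl
  haveI : QuasiSeparatedSpace Vl := quasiSeparatedSpace_of_quasiSeparated vl
  haveI : QuasiSeparatedSpace Wl := quasiSeparatedSpace_of_quasiSeparated wl
  have htop : iA.opensRange ⊔ iB.opensRange = ⊤ := top_le_iff.mp fun x _ => hsurj x
  haveI : CompactSpace P := ⟨by
    rw [show (Set.univ : Set P) = Set.range iA ∪ Set.range iB from Set.ext fun x => by simpa using hsurj x]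
    exact (isCompact_range iA.continuous).union (isCompact_range iB.continuous)⟩
  haveI : QuasiSeparatedSpace P := by
    haveI : CompactSpace iA.opensRange.toScheme := (Scheme.homeoOfIso iA.isoOpensRange).compactSpace
    haveI : CompactSpace iB.opensRange.toScheme := (Scheme.homeoOfIso iB.isoOpensRange).compactSpace
    haveI : QuasiSeparatedSpace iA.opensRange.toScheme :=
      QuasiSeparatedSpace.of_isOpenEmbedding (Scheme.homeoOfIso iA.isoOpensRange.symm).isOpenEmbedding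
    haveI : QuasiSeparatedSpace iB.opensRange.toScheme :=
      QuasiSeparatedSpace.of_isOpenEmbedding (Scheme.homeoOfIso iB.isoOpensRange.symm).isOpenEmbedding
    refine quasiSeparatedSpace_of_two iA.opensRange iB.opensRange htop ?_
    have : (iA.opensRange : Set P) ∩ iB.opensRange = Set.range (a ≫ iA) := by
      ext z
      constructor
      · rintro ⟨⟨x, rfl⟩, y, hy⟩
        obtain ⟨w, rfl, -⟩ := hinter x y hy.symm
        exact ⟨w, rfl⟩
      · rintro ⟨w, rfl⟩
        exact ⟨⟨a w, rfl⟩, b w, congr($(pushout.condition (f := a) (g := b)) w).symm⟩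
    rw [this]
    exact isCompact_range (a ≫ iA).continuous
  haveI : QuasiCompact p := QuasiCompact.of_comp p (terminal.from (D.obj l))
  haveI : QuasiSeparated p := QuasiSeparated.of_comp p (terminal.from (D.obj l))
  haveI : LocallyOfFinitePresentation p := by
    rw [IsZariskiLocalAtSource.iff_of_iSup_eq_top (P := @LocallyOfFinitePresentation)
      (fun t : Bool => cond t iA.opensRange iB.opensRange) (by rw [iSup_bool_eq]; exact htop)]
    rintro (_ | _)
    · rw [← MorphismProperty.cancel_left_of_respectsIso @LocallyOfFinitePresentation iB.isoOpensRange.hom,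
        ← Category.assoc]
      show LocallyOfFinitePresentation ((iB.isoOpensRange.hom ≫ iB.opensRange.ι) ≫ p)
      rw [Scheme.Hom.isoOpensRange_hom_ι, pushout.inr_desc]
      infer_instance
    · rw [← MorphismProperty.cancel_left_of_respectsIso @LocallyOfFinitePresentation iA.isoOpensRange.hom,
        ← Category.assoc]
      show LocallyOfFinitePresentation ((iA.isoOpensRange.hom ≫ iA.opensRange.ι) ≫ p)
      rw [Scheme.Hom.isoOpensRange_hom_ι, pushout.inl_desc]
      infer_instance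
  -- the comparison map
  obtain ⟨g, hgV, hgW⟩ : ∃ g : X ⟶ P, V.ι ≫ g = qV ≫ iA ∧ W.ι ≫ g = qW ≫ iB := by
    let 𝒰 : X.OpenCover := X.openCoverOfIsOpenCover (fun t : ULift.{u} Bool => cond t.down V W) (by
      rw [IsOpenCover, eq_top_iff, ← hVW]
      exact sup_le (le_iSup (fun t : ULift.{u} Bool => cond t.down V W) ⟨true⟩)
        (le_iSup (fun t : ULift.{u} Bool => cond t.down V W) ⟨false⟩))
    let h' : ∀ t : ULift.{u} Bool, 𝒰.X t ⟶ P := fun t => match t with
      | ⟨true⟩ => qV ≫ iA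
      | ⟨false⟩ => qW ≫ iB
    have key : pullback.fst V.ι W.ι ≫ qV ≫ iA = pullback.snd V.ι W.ι ≫ qW ≫ iB := by
      let m : pullback V.ι W.ι ⟶ (V ⊓ W).toScheme := IsOpenImmersion.lift (V ⊓ W).ι (pullback.fst _ _ ≫ V.ι) (by
        rintro _ ⟨z, rfl⟩
        rw [Scheme.Opens.range_ι]
        refine ⟨(pullback.fst V.ι W.ι z).2, ?_⟩
        show (pullback.fst V.ι W.ι ≫ V.ι) z ∈ W
        rw [pullback.condition]
        exact (pullback.snd V.ι W.ι z).2)
      have hm1 : m ≫ X.homOfLE inf_le_left = pullback.fst _ _ := by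
        rw [← cancel_mono V.ι, Category.assoc, Scheme.homOfLE_ι, IsOpenImmersion.lift_fac]
      have hm2 : m ≫ X.homOfLE inf_le_right = pullback.snd _ _ := by
        rw [← cancel_mono W.ι, Category.assoc, Scheme.homOfLE_ι, IsOpenImmersion.lift_fac, pullback.condition]
      rw [← hm1, ← hm2, Category.assoc, Category.assoc, ← reassoc_of% hOa, ← reassoc_of% hOb, pushout.condition]
    refine ⟨𝒰.glueMorphisms h' ?_, 𝒰.ι_glueMorphisms h' _ ⟨true⟩, 𝒰.ι_glueMorphisms h' _ ⟨false⟩⟩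
    rintro ⟨_ | _⟩ ⟨_ | _⟩
    · show pullback.fst W.ι W.ι ≫ _ = pullback.snd W.ι W.ι ≫ _
      rw [fst_eq_snd_of_mono_eq]
    · show pullback.fst W.ι V.ι ≫ qW ≫ iB = pullback.snd W.ι V.ι ≫ qV ≫ iA
      have := congrArg ((pullbackSymmetry W.ι V.ι).hom ≫ ·) key
      simpa using this.symm
    · exact key
    · show pullback.fst V.ι V.ι ≫ _ = pullback.snd V.ι V.ι ≫ _
      rw [fst_eq_snd_of_mono_eq]
  have hgf : g ≫ p = f ≫ c.π.app l := by
    refine Scheme.Cover.hom_ext (X.openCoverOfIsOpenCover (fun t : ULift.{u} Bool => cond t.down V W) (by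
      rw [IsOpenCover, eq_top_iff, ← hVW]
      exact sup_le (le_iSup (fun t : ULift.{u} Bool => cond t.down V W) ⟨true⟩)
        (le_iSup (fun t : ULift.{u} Bool => cond t.down V W) ⟨false⟩))) _ _ ?_
    rintro ⟨_ | _⟩
    · show W.ι ≫ g ≫ p = W.ι ≫ f ≫ c.π.app l
      rw [reassoc_of% hgW, pushout.inr_desc, hW.w, Category.assoc]
    · show V.ι ≫ g ≫ p = V.ι ≫ f ≫ c.π.app l
      rw [reassoc_of% hgV, pushout.inl_desc, hV.w, Category.assoc]
  let m : X ⟶ pullback p (c.π.app l) := pullback.lift g f hgf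
  refine ⟨l, P, p, g, inferInstance, inferInstance, inferInstance, ?_⟩
  suffices IsIso m from IsPullback.of_iso (IsPullback.of_hasPullback p (c.π.app l)) (asIso m).symm
    (Iso.refl _) (Iso.refl _) (Iso.refl _) (by simp [m]; exact pullback.lift_fst _ _ _) (by simp [m]; exact pullback.lift_snd _ _ _) (by simp) (by simp)
  -- `m` is an isomorphism over both members of the cover
  let fstP := pullback.fst p (c.π.app l)
  have hpiece : ∀ {T : Scheme.{u}} (iT : T ⟶ P) [IsOpenImmersion iT] (U : X.Opens) (q : U.toScheme ⟶ T),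
      IsPullback q (U.ι ≫ f) (iT ≫ p) (c.π.app l) → U.ι ≫ g = q ≫ iT → m ⁻¹ᵁ (fstP ⁻¹ᵁ iT.opensRange) = U →
      IsIso (m ∣_ (fstP ⁻¹ᵁ iT.opensRange)) := by
    intro T iT _ U q hq hgT hpre
    have h1 : IsPullback q (U.ι ≫ m) iT fstP := by
      refine IsPullback.of_bot ?_ (by rw [Category.assoc, pullback.lift_fst, hgT]) (IsPullback.of_hasPullback p (c.π.app l))
      rw [Category.assoc, pullback.lift_snd]
      exact hq
    haveI : IsOpenImmersion (U.ι ≫ m) := MorphismProperty.of_isPullback h1 ‹IsOpenImmersion iT›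
    have h2 : Set.range (U.ι ≫ m) = Set.range (fstP ⁻¹ᵁ iT.opensRange).ι := by
      rw [Scheme.Opens.range_ι]
      ext z
      constructor
      · rintro ⟨u, rfl⟩
        exact ⟨q u, congr($(h1.w) u)⟩
      · rintro ⟨t, ht⟩
        obtain ⟨u, hu, -⟩ := Scheme.exists_preimage_of_isPullback h1.flip z t ht.symm
        exact ⟨u, hu⟩
    let O := fstP ⁻¹ᵁ iT.opensRange
    have : m ∣_ O = (X.isoOfEq hpre).hom ≫ (IsOpenImmersion.isoOfRangeEq (U.ι ≫ m) O.ι h2).hom := by
      rw [← cancel_mono O.ι, Category.assoc, IsOpenImmersion.isoOfRangeEq_hom_fac, morphismRestrict_ι,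
        Scheme.isoOfEq_hom_ι_assoc]
    rw [this]
    infer_instance
  have hpreV : m ⁻¹ᵁ (fstP ⁻¹ᵁ iA.opensRange) = V := by
    rw [← Scheme.Hom.comp_preimage, pullback.lift_fst]
    ext x
    constructor
    · rintro ⟨t, ht⟩
      have : x ∈ V ⊔ W := hVW ▸ trivial
      rcases this with hx | hx
      · exact hx
      · have h1 : iB (qW ⟨x, hx⟩) = iA t := ht.symm ▸ congr($(hgW.symm) ⟨x, hx⟩)
        obtain ⟨z, -, hz⟩ := hinter t _ h1.symm
        exact hOW ⟨x, hx⟩ ⟨z, hz⟩
    · intro hx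
      exact ⟨qV ⟨x, hx⟩, congr($(hgV.symm) ⟨x, hx⟩)⟩
  have hpreW : m ⁻¹ᵁ (fstP ⁻¹ᵁ iB.opensRange) = W := by
    rw [← Scheme.Hom.comp_preimage, pullback.lift_fst]
    ext x
    constructor
    · rintro ⟨t, ht⟩
      have : x ∈ V ⊔ W := hVW ▸ trivial
      rcases this with hx | hx
      · have h1 : iA (qV ⟨x, hx⟩) = iB t := ht.symm ▸ congr($(hgV.symm) ⟨x, hx⟩)
        obtain ⟨z, hz, -⟩ := hinter _ t h1
        exact hOV ⟨x, hx⟩ ⟨z, hz⟩
      · exact hx
    · intro hx
      exact ⟨qW ⟨x, hx⟩, congr($(hgW.symm) ⟨x, hx⟩)⟩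
  show MorphismProperty.isomorphisms Scheme m
  rw [IsZariskiLocalAtTarget.iff_of_iSup_eq_top (P := MorphismProperty.isomorphisms Scheme)
    (fun t : Bool => cond t (fstP ⁻¹ᵁ iA.opensRange) (fstP ⁻¹ᵁ iB.opensRange))
    (by rw [iSup_bool_eq]; show fstP ⁻¹ᵁ _ ⊔ fstP ⁻¹ᵁ _ = ⊤; rw [← Scheme.Hom.preimage_sup, htop]; rfl)]
  rintro (_ | _)
  · exact hpiece iB W qW (by rw [pushout.inr_desc]; exact hW) hgW hpreW
  · exact hpiece iA V qV (by rw [pushout.inl_desc]; exact hV) hgV hpreV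

end Groth.Agent.LimSch
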