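import Groth.Agent.LimSch.DescendGlue
import Groth.Agent.LimSch.DescendsHom
import Groth.Agent.LimSch.Sections
import Groth.Agent.AlgSpc.LfpCancel
import Mathlib.RingTheory.FinitePresentation

/-!
Schemes of finite presentation over a cofiltered limit come from a stage (EGA IV 8.8.2 (ii)).
-/

set_option autoImplicit false
universe u

open CategoryTheory Limits AlgebraicGeometry TopologicalSpace

namespace Groth.Agent.LimSch

/-- Base change of the quotient of a polynomial ring by lifted relations. -/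
theorem isPushout_model {R A C : CommRingCat.{u}} (ρ : R ⟶ A) (σ : A ⟶ C) {n : ℕ}
    (π : MvPolynomial (Fin n) A →+* C) (hπσ : π.comp MvPolynomial.C = σ.hom) (hπ : Function.Surjective π)
    {κ : Type*} (t : κ → MvPolynomial (Fin n) R)
    (hker : RingHom.ker π = Ideal.span (Set.range fun k => MvPolynomial.map ρ.hom (t k))) :
    ∃ θ : (CommRingCat.of (MvPolynomial (Fin n) R ⧸ Ideal.span (Set.range t))) ⟶ C,
      IsPushout ρ (CommRingCat.ofHom (algebraMap R (MvPolynomial (Fin n) R ⧸ Ideal.span (Set.range t)))) σ θ := by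
  let J := Ideal.span (Set.range t)
  let θ₀ : MvPolynomial (Fin n) R ⧸ J →+* C := Ideal.Quotient.lift J (π.comp (MvPolynomial.map ρ.hom)) (by
    intro p hp
    refine RingHom.mem_ker.mp ((Ideal.span_le.mpr ?_ : J ≤ RingHom.ker (π.comp (MvPolynomial.map ρ.hom))) hp)
    rintro _ ⟨k, rfl⟩
    exact hker.ge (Ideal.subset_span ⟨k, rfl⟩))
  have hθ : ∀ r : R, θ₀ (algebraMap R _ r) = σ (ρ r) := fun r => by
    show π (MvPolynomial.map ρ.hom (MvPolynomial.C r)) = _
    rw [MvPolynomial.map_C]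
    exact RingHom.congr_fun hπσ (ρ r)
  refine ⟨CommRingCat.ofHom θ₀, ⟨⟨CommRingCat.hom_ext (RingHom.ext fun r => (hθ r).symm)⟩, ⟨?_⟩⟩⟩
  refine PushoutCocone.IsColimit.mk _ (fun s => CommRingCat.ofHom (RingHom.liftOfSurjective π hπ
    ⟨MvPolynomial.eval₂Hom s.inl.hom (fun i => s.inr.hom (Ideal.Quotient.mk J (MvPolynomial.X i))), ?_⟩))
    (fun s => ?_) (fun s => ?_) (fun s m hm₁ hm₂ => ?_)
  · rw [hker, Ideal.span_le]
    rintro _ ⟨k, rfl⟩
    rw [SetLike.mem_coe, RingHom.mem_ker]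
    have key : (MvPolynomial.eval₂Hom s.inl.hom (fun i => s.inr.hom (Ideal.Quotient.mk J (MvPolynomial.X i)))).comp
        (MvPolynomial.map ρ.hom) = s.inr.hom.comp (Ideal.Quotient.mk J) := by
      refine MvPolynomial.ringHom_ext (fun r => ?_) (fun i => ?_)
      · simp only [RingHom.comp_apply, MvPolynomial.map_C, MvPolynomial.eval₂Hom_C]
        exact congr($(s.condition) r)
      · simp
    have := RingHom.congr_fun key (t k)
    simp only [RingHom.comp_apply] at this
    rw [this, Ideal.Quotient.eq_zero_iff_mem.mpr (Ideal.subset_span (Set.mem_range_self k))]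
    exact map_zero _
  · refine CommRingCat.hom_ext (RingHom.ext fun x => ?_)
    simp only [CommRingCat.hom_comp, RingHom.comp_apply, CommRingCat.hom_ofHom]
    rw [← hπσ, RingHom.comp_apply, RingHom.liftOfRightInverse_comp_apply, MvPolynomial.eval₂Hom_C]
  · refine CommRingCat.hom_ext (RingHom.ext fun x => ?_)
    obtain ⟨p, rfl⟩ := Ideal.Quotient.mk_surjective x
    simp only [CommRingCat.hom_comp, RingHom.comp_apply, CommRingCat.hom_ofHom]
    refine (RingHom.liftOfRightInverse_comp_apply π _ _ _ (MvPolynomial.map ρ.hom p)).trans ?_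
    induction p using MvPolynomial.induction_on with
    | C r =>
      rw [MvPolynomial.map_C, MvPolynomial.eval₂Hom_C]
      exact congr($(s.condition) r)
    | add p q hp hq => simp only [map_add, hp, hq]
    | mul_X p i hp =>
      simp only [map_mul, hp, MvPolynomial.map_X, MvPolynomial.eval₂Hom_X']
      rfl
  · refine CommRingCat.hom_ext (RingHom.ext fun x => ?_)
    obtain ⟨p, rfl⟩ := hπ x
    simp only [CommRingCat.hom_ofHom]
    rw [RingHom.liftOfRightInverse_comp_apply]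
    induction p using MvPolynomial.induction_on with
    | C a =>
      rw [MvPolynomial.eval₂Hom_C, show π (MvPolynomial.C a) = σ a from RingHom.congr_fun hπσ a]
      exact congr($hm₁ a)
    | add p q hp hq => simp only [map_add, hp, hq]
    | mul_X p i hp =>
      rw [map_mul, map_mul, map_mul, hp, MvPolynomial.eval₂Hom_X']
      congr 1
      have := congr($hm₂ (Ideal.Quotient.mk J (MvPolynomial.X i)))
      rw [show π (MvPolynomial.X i) = θ₀ (Ideal.Quotient.mk J (MvPolynomial.X i)) by simp [θ₀]]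
      exact this

variable {I : Type u} [SmallCategory I] [IsCofiltered I] {D : I ⥤ Scheme.{u}} {c : Cone D} (hc : IsLimit c)
  [∀ (i j : I) (f : i ⟶ j), IsAffineHom (D.map f)] [∀ i, CompactSpace (D.obj i)]
  [∀ i, QuasiSeparatedSpace (D.obj i)]

include hc in
/-- Affine schemes over an affine open of a stage. -/
theorem hasModel_of_isAffine {X : Scheme.{u}} [IsAffine X] (f : X ⟶ c.pt) [LocallyOfFinitePresentation f]
    {i : I} (U : (D.obj i).Opens) (hU : IsAffineOpen U) (hfU : ∀ x, c.π.app i (f x) ∈ U) : HasModel D c f := by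
  classical
  have : ∀ {i j : I} (f : i ⟶ j), IsAffineHom (D.map f) := fun f => inferInstance
  let W : c.pt.Opens := c.π.app i ⁻¹ᵁ U
  have hW : IsAffineOpen W := @IsAffineOpen.preimage _ _ _ hU (c.π.app i) (isAffineHom_π_app D c hc i)
  have e : (⊤ : X.Opens) ≤ f ⁻¹ᵁ W := fun x _ => hfU x
  have hfp := f.finitePresentation_appLE hW (isAffineOpen_top X) e
  let σ := f.appLE W ⊤ e
  obtain ⟨n, π₀, hπ, hsurj, K, hK⟩ : ∃ (n : ℕ) (π : MvPolynomial (Fin n) Γ(c.pt, W) →+* Γ(X, ⊤)),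
      π.comp MvPolynomial.C = σ.hom ∧ Function.Surjective π ∧ (RingHom.ker π).FG := by
    algebraize [σ.hom]
    obtain ⟨n, π, hπ, hfg⟩ := (show Algebra.FinitePresentation Γ(c.pt, W) Γ(X, ⊤) from hfp)
    exact ⟨n, π.toRingHom, RingHom.ext fun a => π.commutes a, hπ, hfg⟩
  -- coefficients at a stage
  haveI : CompactSpace U.toScheme := isCompact_iff_compactSpace.mp hU.isCompact
  haveI : IsAffine U.toScheme := hU
  obtain ⟨j, φ, hj⟩ := exists_stage_forall (i := i) (K.biUnion fun p => p.coeffs)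
    (fun a j φ => ∃ t, (c.π.app j).appLE (D.map φ ⁻¹ᵁ U) W (π_preimage_eq φ U).ge t = a)
    (fun a j k φ ψ ⟨t, ht⟩ => by
      refine ⟨(D.map ψ).appLE (D.map φ ⁻¹ᵁ U) (D.map (ψ ≫ φ) ⁻¹ᵁ U)
        (by rw [← Scheme.Hom.comp_preimage, ← D.map_comp]) t, ?_⟩
      rw [← CommRingCat.comp_apply, ← ht]
      exact congr($(appLE_comp' (g := c.π.app k) (f := D.map ψ) (c.w ψ) _ _ _) t))
    (fun a _ => by
      obtain ⟨j, φ, t, ht⟩ := exists_appLE_eq hc (i := i) (U := U) a
      exact ⟨j, φ, t, ht⟩)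
  let Uj := D.map φ ⁻¹ᵁ U
  have hUj : IsAffineOpen Uj := hU.preimage (D.map φ)
  let ρ := (c.π.app j).appLE Uj W (π_preimage_eq φ U).ge
  have hlift : ∀ p : K, ∃ t : MvPolynomial (Fin n) Γ(D.obj j, Uj), MvPolynomial.map ρ.hom t = p.1 := by
    intro p
    apply (MvPolynomial.mem_range_map_iff_coeffs_subset (f := ρ.hom)).mpr
    intro a ha
    obtain ⟨t, ht⟩ := hj a (Finset.mem_biUnion.mpr ⟨p.1, p.2, ha⟩)
    exact ⟨t, ht⟩
  choose t ht using hlift
  obtain ⟨θ, hθ⟩ := isPushout_model ρ σ π₀ hπ hsurj t (by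
    rw [← hK, show (fun k => MvPolynomial.map ρ.hom (t k)) = Subtype.val from funext ht, Subtype.range_coe]
    rfl)
  let C₀ := MvPolynomial (Fin n) Γ(D.obj j, Uj) ⧸ Ideal.span (Set.range t)
  let a₀ : Γ(D.obj j, Uj) ⟶ CommRingCat.of C₀ := CommRingCat.ofHom (algebraMap _ _)
  have h1 := (isPullback_SpecMap_of_isPushout _ _ _ _ hθ).flip
  have h2 : IsPullback (Spec.map ρ) hW.fromSpec hUj.fromSpec (c.π.app j) := by
    refine IsOpenImmersion.isPullback _ _ _ _ ?_ ?_
    · exact (hUj.SpecMap_appLE_fromSpec (c.π.app j) hW (π_preimage_eq φ U).ge).symm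
    · rw [hW.opensRange_fromSpec, hUj.opensRange_fromSpec]
      exact π_preimage_eq φ U
  have h3 := h1.paste_vert h2
  let fi : Spec (CommRingCat.of C₀) ⟶ D.obj j := Spec.map a₀ ≫ hUj.fromSpec
  haveI : Algebra.FinitePresentation Γ(D.obj j, Uj) C₀ :=
    Algebra.FinitePresentation.quotient (Submodule.fg_span (Set.finite_range t))
  haveI : LocallyOfFinitePresentation (Spec.map a₀) :=
    (HasRingHomProperty.Spec_iff (P := @LocallyOfFinitePresentation)).mpr
      (RingHom.finitePresentation_algebraMap.mpr ‹_›)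
  refine ⟨j, _, fi, X.isoSpec.hom ≫ Spec.map θ, inferInstance,
    QuasiCompact.of_comp fi (terminal.from (D.obj j)), QuasiSeparated.of_comp fi (terminal.from (D.obj j)), ?_⟩
  refine IsPullback.of_iso h3 X.isoSpec.symm (Iso.refl _) (Iso.refl _) (Iso.refl _) ?_ ?_ ?_ ?_
  · simp
  · simp only [Iso.refl_hom, Category.comp_id, Iso.symm_hom]
    rw [show Spec.map σ ≫ hW.fromSpec = (isAffineOpen_top X).fromSpec ≫ f from
      hW.SpecMap_appLE_fromSpec f (isAffineOpen_top X) e, IsAffineOpen.fromSpec_top]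
  · simp [fi, a₀]
  · simp

include hc in
theorem exists_stage_open {i : I} {X Xi : Scheme.{u}} {f : X ⟶ c.pt} {fi : Xi ⟶ D.obj i} [QuasiCompact fi]
    {q : X ⟶ Xi} (h : IsPullback q f fi (c.π.app i)) (O : X.Opens) (hO : IsCompact (O : Set X)) :
    ∃ (j : I) (φ : j ⟶ i) (O' : (pullback fi (D.map φ)).Opens), IsCompact (O' : Set ↥(pullback fi (D.map φ))) ∧
      ∀ q' : X ⟶ pullback fi (D.map φ), q' ≫ pullback.fst _ _ = q → q' ≫ pullback.snd _ _ = f ≫ c.π.app j →
        q' ⁻¹ᵁ O' = O := by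
  have : ∀ {a b : Over i} (u : a ⟶ b), IsAffineHom ((bcDiag D i fi).map u) := fun u => inferInstance
  obtain ⟨l, V, hV, hVO⟩ := exists_preimage_eq (bcDiag D i fi) _ (isLimitBcCone D c i fi hc f q h.flip) O hO
  refine ⟨l.left, l.hom, (pullbackSymmetry fi (D.map l.hom)).hom ⁻¹ᵁ V,
    (pullbackSymmetry fi (D.map l.hom)).hom.isCompact_preimage hV, fun q' h1 h2 => ?_⟩
  refine Eq.trans ?_ hVO
  rw [← Scheme.Hom.comp_preimage]
  refine congrArg (fun g : X ⟶ _ => g ⁻¹ᵁ V) ?_
  apply pullback.hom_ext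
  · simp [bcCone, h2]
    exact (pullback.lift_fst _ _ _).symm
  · simp [bcCone, h1]
    exact (pullback.lift_snd _ _ _).symm

include hc in
/-- Two models glue. -/
theorem hasModel_of_cover {X : Scheme.{u}} (f : X ⟶ c.pt) [QuasiSeparated f] (V W : X.Opens) (hVW : V ⊔ W = ⊤)
    (hV : HasModel D c (V.ι ≫ f)) (hW : HasModel D c (W.ι ≫ f)) : HasModel D c f := by
  have : ∀ {i j : I} (f : i ⟶ j), IsAffineHom (D.map f) := fun f => inferInstance
  obtain ⟨i₁, V₁, v₁, qV₁, _, _, _, hV₁⟩ := hV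
  obtain ⟨i₂, W₂, w₂, qW₂, _, _, _, hW₂⟩ := hW
  obtain ⟨i, a₁, a₂, -⟩ : ∃ (i : I) (_ : i ⟶ i₁) (_ : i ⟶ i₂), True :=
    ⟨_, IsCofiltered.minToLeft i₁ i₂, IsCofiltered.minToRight i₁ i₂, trivial⟩
  obtain ⟨qVi, hVi⟩ := isPullback_stage D c hc hV₁ a₁
  obtain ⟨qWi, hWi⟩ := isPullback_stage D c hc hW₂ a₂
  -- compactness of the overlap
  haveI := isAffineHom_π_app D c hc i
  haveI : CompactSpace c.pt := QuasiCompact.compactSpace_of_compactSpace (c.π.app i)
  haveI : QuasiSeparatedSpace c.pt := quasiSeparatedSpace_of_quasiSeparated (c.π.app i)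
  haveI : QuasiSeparatedSpace X := quasiSeparatedSpace_of_quasiSeparated f
  haveI : QuasiCompact (V.ι ≫ f) := MorphismProperty.of_isPullback hV₁ ‹QuasiCompact v₁›
  haveI : QuasiCompact (W.ι ≫ f) := MorphismProperty.of_isPullback hW₂ ‹QuasiCompact w₂›
  have hVc : IsCompact (V : Set X) :=
    isCompact_iff_compactSpace.mpr (QuasiCompact.compactSpace_of_compactSpace (V.ι ≫ f))
  have hWc : IsCompact (W : Set X) :=
    isCompact_iff_compactSpace.mpr (QuasiCompact.compactSpace_of_compactSpace (W.ι ≫ f))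
  have hcap : ∀ (A B : X.Opens), IsCompact (A : Set X) → IsCompact (B : Set X) →
      IsCompact ((A.ι ⁻¹ᵁ B : A.toScheme.Opens) : Set A.toScheme) := by
    intro A B hA hB
    rw [A.ι.isOpenEmbedding.isInducing.isCompact_iff]
    show IsCompact (A.ι '' (A.ι ⁻¹' (B : Set X)))
    rw [Set.image_preimage_eq_inter_range, Scheme.Opens.range_ι]
    exact hB.inter_of_isOpen hA B.2 A.2
  -- the overlap in the model of `V`
  obtain ⟨j, φ, O₁, hO₁, hO₁eq⟩ := exists_stage_open hc hVi (V.ι ⁻¹ᵁ W) (hcap V W hVc hWc)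
  obtain ⟨qWj, hWj⟩ := isPullback_stage D c hc hWi φ
  obtain ⟨k, ψ, OW, hOW, hOWeq⟩ := exists_stage_open hc hWj (W.ι ⁻¹ᵁ V) (hcap W V hWc hVc)
  let vi := pullback.snd v₁ (D.map a₁)
  let vj := pullback.snd vi (D.map φ)
  let vk := pullback.snd vj (D.map ψ)
  let wk := pullback.snd (pullback.snd (pullback.snd w₂ (D.map a₂)) (D.map φ)) (D.map ψ)
  let qVj : V.toScheme ⟶ pullback vi (D.map φ) := pullback.lift qVi ((V.ι ≫ f) ≫ c.π.app j)
    (by rw [Category.assoc _ (c.π.app j), c.w]; exact hVi.w)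
  have hVj : IsPullback qVj (V.ι ≫ f) vj (c.π.app j) := by
    refine IsPullback.of_right ?_ (pullback.lift_snd _ _ _) (IsPullback.of_hasPullback vi (D.map φ))
    rw [pullback.lift_fst, c.w]; exact hVi
  let qVk : V.toScheme ⟶ pullback vj (D.map ψ) := pullback.lift qVj ((V.ι ≫ f) ≫ c.π.app k)
    (by rw [Category.assoc _ (c.π.app k), c.w]; exact hVj.w)
  have hVk : IsPullback qVk (V.ι ≫ f) vk (c.π.app k) := by
    refine IsPullback.of_right ?_ (pullback.lift_snd _ _ _) (IsPullback.of_hasPullback vj (D.map ψ))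
    rw [pullback.lift_fst, c.w]; exact hVj
  let qWk : W.toScheme ⟶ pullback (pullback.snd (pullback.snd w₂ (D.map a₂)) (D.map φ)) (D.map ψ) :=
    pullback.lift qWj ((W.ι ≫ f) ≫ c.π.app k) (by rw [Category.assoc _ (c.π.app k), c.w]; exact hWj.w)
  have hWk : IsPullback qWk (W.ι ≫ f) wk (c.π.app k) := by
    refine IsPullback.of_right ?_ (pullback.lift_snd _ _ _) (IsPullback.of_hasPullback _ (D.map ψ))
    rw [pullback.lift_fst, c.w]; exact hWj
  have hOWk : qWk ⁻¹ᵁ OW = W.ι ⁻¹ᵁ V := hOWeq qWk (pullback.lift_fst _ _ _) (pullback.lift_snd _ _ _)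
  let OV : (pullback vj (D.map ψ)).Opens := pullback.fst vj (D.map ψ) ⁻¹ᵁ O₁
  have hOV : IsCompact (OV : Set ↥(pullback vj (D.map ψ))) := (pullback.fst vj (D.map ψ)).isCompact_preimage hO₁
  have hOVk : qVk ⁻¹ᵁ OV = V.ι ⁻¹ᵁ W := by
    rw [← Scheme.Hom.comp_preimage, pullback.lift_fst]
    exact hO₁eq qVj (pullback.lift_fst _ _ _) (pullback.lift_snd _ _ _)
  -- the two models of the overlap
  let Z := (V ⊓ W).toScheme
  let fZ : Z ⟶ c.pt := (V ⊓ W).ι ≫ f
  have restr : ∀ (A B : X.Opens) (T : Scheme.{u}) (t : T ⟶ D.obj k) (q : A.toScheme ⟶ T) (O : T.Opens)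
      (hA : IsPullback q (A.ι ≫ f) t (c.π.app k)) (hO : q ⁻¹ᵁ O = A.ι ⁻¹ᵁ B) (hle : A ⊓ B = V ⊓ W),
      ∃ qZ : Z ⟶ O.toScheme, IsPullback qZ fZ (O.ι ≫ t) (c.π.app k) ∧
        qZ ≫ O.ι = X.homOfLE (hle ▸ inf_le_left : V ⊓ W ≤ A) ≫ q := by
    intro A B T t q O hA hO hle
    have h1 := (isPullback_morphismRestrict q O).paste_vert hA
    let e := IsOpenImmersion.isoOfRangeEq (V ⊓ W).ι ((q ⁻¹ᵁ O).ι ≫ A.ι) (by
      show _ = Set.range (⇑A.ι ∘ ⇑(q ⁻¹ᵁ O).ι)
      rw [Set.range_comp, Scheme.Opens.range_ι, Scheme.Opens.range_ι, hO, ← hle]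
      show (A : Set X) ∩ B = A.ι '' (A.ι ⁻¹' (B : Set X))
      rw [Set.image_preimage_eq_inter_range, Scheme.Opens.range_ι, Set.inter_comm])
    refine ⟨e.hom ≫ (q ∣_ O), ?_, ?_⟩
    · refine IsPullback.of_iso h1 e.symm (Iso.refl _) (Iso.refl _) (Iso.refl _) ?_ ?_ ?_ ?_
      · simp
      · simp [fZ, e, IsOpenImmersion.isoOfRangeEq_inv_fac_assoc]
      · simp
      · simp
    · rw [Category.assoc, morphismRestrict_ι, ← Category.assoc]
      congr 1
      rw [← cancel_mono A.ι, Category.assoc, Scheme.homOfLE_ι]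
      exact IsOpenImmersion.isoOfRangeEq_hom_fac _ _ _
  obtain ⟨qA, hA, hAι⟩ := restr V W _ vk qVk OV hVk hOVk rfl
  obtain ⟨qB, hB, hBι⟩ := restr W V _ wk qWk OW hWk hOWk (inf_comm W V)
  haveI : CompactSpace OV.toScheme := isCompact_iff_compactSpace.mp hOV
  haveI : CompactSpace OW.toScheme := isCompact_iff_compactSpace.mp hOW
  haveI : QuasiCompact (OV.ι ≫ vk) := QuasiCompact.of_comp _ (terminal.from (D.obj k))
  haveI : QuasiSeparatedSpace OV.toScheme := quasiSeparatedSpace_of_quasiSeparated (OV.ι ≫ vk)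
  haveI : QuasiCompact (OW.ι ≫ wk) := QuasiCompact.of_comp _ (terminal.from (D.obj k))
  obtain ⟨j', φ', g, hg, hglift⟩ := exists_hom_stage D c hc hA (yi := OW.ι ≫ wk) qB hB.w
  let ov' := pullback.snd (OV.ι ≫ vk) (D.map φ')
  let ow' := pullback.snd (OW.ι ≫ wk) (D.map φ')
  let qA' : Z ⟶ pullback (OV.ι ≫ vk) (D.map φ') := pullback.lift qA (fZ ≫ c.π.app j')
    (by rw [Category.assoc, c.w]; exact hA.w)
  let qB' : Z ⟶ pullback (OW.ι ≫ wk) (D.map φ') := pullback.lift qB (fZ ≫ c.π.app j')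
    (by rw [Category.assoc, c.w]; exact hB.w)
  have hA' : IsPullback qA' fZ ov' (c.π.app j') := by
    refine IsPullback.of_right ?_ (pullback.lift_snd _ _ _) (IsPullback.of_hasPullback _ (D.map φ'))
    rw [pullback.lift_fst, c.w]; exact hA
  have hB' : IsPullback qB' fZ ow' (c.π.app j') := by
    refine IsPullback.of_right ?_ (pullback.lift_snd _ _ _) (IsPullback.of_hasPullback _ (D.map φ'))
    rw [pullback.lift_fst, c.w]; exact hB
  let g' : pullback (OV.ι ≫ vk) (D.map φ') ⟶ pullback (OW.ι ≫ wk) (D.map φ') :=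
    pullback.lift g (pullback.snd _ _) hg
  have hg' : g' ≫ ow' = ov' := pullback.lift_snd _ _ _
  have hid : IsPullback qA' (𝟙 Z) g' qB' := by
    refine IsPullback.of_bot ?_ ?_ hB'
    · rw [hg', Category.id_comp]; exact hA'
    · rw [Category.id_comp]
      apply pullback.hom_ext
      · rw [Category.assoc, pullback.lift_fst, hglift, pullback.lift_fst]
      · rw [Category.assoc, pullback.lift_snd, pullback.lift_snd, pullback.lift_snd]
  haveI : LocallyOfFinitePresentation g' := by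
    haveI : LocallyOfFinitePresentation (g' ≫ ow') := by rw [hg']; infer_instance
    exact Groth.Agent.AlgSpc.lfp_of_comp g' ow'
  haveI : QuasiCompact g' := by
    haveI : QuasiCompact (g' ≫ ow') := by rw [hg']; infer_instance
    exact QuasiCompact.of_comp g' ow'
  haveI : QuasiSeparated g' := by
    haveI : QuasiSeparated (g' ≫ ow') := by rw [hg']; infer_instance
    exact QuasiSeparated.of_comp g' ow'
  haveI : CompactSpace ↥(pullback (OW.ι ≫ wk) (D.map φ')) := QuasiCompact.compactSpace_of_compactSpace ow'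
  obtain ⟨l, χ, Xi, Yi, fi, gi, pY, pX, h1, h2, hfi⟩ :=
    Descends.over D c hc j' g' ow' (𝟙 Z) fZ qB' qA' hB' hid descends_isomorphisms.{u} ‹_›
      (MorphismProperty.isomorphisms.infer_property _)
  haveI : IsIso fi := hfi
  -- the models at stage `l`
  let ξ : l ⟶ k := χ ≫ φ'
  have hX : IsPullback (pX ≫ pullback.fst (OV.ι ≫ vk) (D.map φ')) (fi ≫ gi) (OV.ι ≫ vk) (D.map ξ) := by
    have h3 := h2.paste_vert h1
    rw [hg'] at h3
    have h4 := h3.paste_horiz (IsPullback.of_hasPullback (OV.ι ≫ vk) (D.map φ'))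
    rwa [← D.map_comp] at h4
  have hY : IsPullback (pY ≫ pullback.fst (OW.ι ≫ wk) (D.map φ')) gi (OW.ι ≫ wk) (D.map ξ) := by
    have h4 := h1.paste_horiz (IsPullback.of_hasPullback (OW.ι ≫ wk) (D.map φ'))
    rwa [← D.map_comp] at h4
  let a : Xi ⟶ pullback vk (D.map ξ) := pullback.lift ((pX ≫ pullback.fst _ _) ≫ OV.ι) (fi ≫ gi)
    (by rw [Category.assoc _ OV.ι vk]; exact hX.w)
  have haP : IsPullback (pX ≫ pullback.fst _ _) a OV.ι (pullback.fst vk (D.map ξ)) :=
    IsPullback.of_bot (by rw [pullback.lift_snd]; exact hX) (pullback.lift_fst _ _ _).symm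
      (IsPullback.of_hasPullback vk (D.map ξ))
  haveI : IsOpenImmersion a := MorphismProperty.of_isPullback haP inferInstance
  let b₀ : Yi ⟶ pullback wk (D.map ξ) := pullback.lift ((pY ≫ pullback.fst _ _) ≫ OW.ι) gi
    (by rw [Category.assoc _ OW.ι wk]; exact hY.w)
  have hbP : IsPullback (pY ≫ pullback.fst _ _) b₀ OW.ι (pullback.fst wk (D.map ξ)) :=
    IsPullback.of_bot (by rw [pullback.lift_snd]; exact hY) (pullback.lift_fst _ _ _).symm
      (IsPullback.of_hasPullback wk (D.map ξ))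
  haveI : IsOpenImmersion b₀ := MorphismProperty.of_isPullback hbP inferInstance
  haveI : QuasiCompact (pX ≫ pullback.fst (OV.ι ≫ vk) (D.map φ')) := MorphismProperty.of_isPullback hX.flip inferInstance
  haveI : CompactSpace Xi := QuasiCompact.compactSpace_of_compactSpace (pX ≫ pullback.fst (OV.ι ≫ vk) (D.map φ'))
  let qVl : V.toScheme ⟶ pullback vk (D.map ξ) := pullback.lift qVk ((V.ι ≫ f) ≫ c.π.app l)
    (by rw [Category.assoc _ (c.π.app l), c.w]; exact hVk.w)
  let qWl : W.toScheme ⟶ pullback wk (D.map ξ) := pullback.lift qWk ((W.ι ≫ f) ≫ c.π.app l)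
    (by rw [Category.assoc _ (c.π.app l), c.w]; exact hWk.w)
  let qO : Z ⟶ Xi := hX.lift qA (fZ ≫ c.π.app l) (by rw [Category.assoc, c.w]; exact hA.w)
  refine hasModel_glue (l := l) f V W hVW (pullback.snd vk (D.map ξ)) (pullback.snd wk (D.map ξ)) a (fi ≫ b₀)
    ?_ qVl qWl ?_ ?_ qO ?_ ?_ ?_ ?_
  · rw [pullback.lift_snd, Category.assoc, pullback.lift_snd]
  · refine IsPullback.of_right ?_ (pullback.lift_snd _ _ _) (IsPullback.of_hasPullback vk (D.map ξ))
    rw [pullback.lift_fst, c.w]; exact hVk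
  · refine IsPullback.of_right ?_ (pullback.lift_snd _ _ _) (IsPullback.of_hasPullback wk (D.map ξ))
    rw [pullback.lift_fst, c.w]; exact hWk
  · apply pullback.hom_ext
    · rw [Category.assoc, pullback.lift_fst, ← Category.assoc, hX.lift_fst, Category.assoc, pullback.lift_fst, hAι]
    · simp only [Category.assoc, a, qVl, pullback.lift_snd]
      rw [hX.lift_snd]
      simp [fZ]
  · apply pullback.hom_ext
    · have e1 : fi ≫ pY ≫ pullback.fst (OW.ι ≫ wk) (D.map φ') = pX ≫ g := by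
        rw [← reassoc_of% h2.w, pullback.lift_fst]
      have e2 : qO ≫ pX = qA' := by
        apply pullback.hom_ext
        · rw [Category.assoc, hX.lift_fst, pullback.lift_fst]
        · rw [Category.assoc, pullback.lift_snd,
            show pX ≫ pullback.snd (OV.ι ≫ vk) (D.map φ') = (fi ≫ gi) ≫ D.map χ from by
              rw [Category.assoc, ← h1.w, show pullback.snd (OV.ι ≫ vk) (D.map φ') = g' ≫ ow' from hg'.symm,
                ← Category.assoc, h2.w, Category.assoc],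
            ← Category.assoc, hX.lift_snd, Category.assoc, c.w]
      simp only [Category.assoc, b₀, pullback.lift_fst, qWl]
      rw [reassoc_of% e1, reassoc_of% e2, reassoc_of% hglift, hBι]
    · simp only [Category.assoc, b₀, pullback.lift_snd, qWl]
      rw [hX.lift_snd]
      simp [fZ]
  · intro x ⟨z, hz⟩
    have h5 : qVk x ∈ OV := by
      have h6 : qVk x = pullback.fst vk (D.map ξ) (qVl x) := by rw [← Scheme.Hom.comp_apply, pullback.lift_fst]
      rw [h6, ← hz, ← Scheme.Hom.comp_apply, pullback.lift_fst]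
      exact ((pX ≫ pullback.fst _ _) z).2
    exact (SetLike.ext_iff.mp hOVk x).mp h5
  · intro x ⟨z, hz⟩
    have h5 : qWk x ∈ OW := by
      have h6 : qWk x = pullback.fst wk (D.map ξ) (qWl x) := by rw [← Scheme.Hom.comp_apply, pullback.lift_fst]
      rw [h6, ← hz, ← Scheme.Hom.comp_apply, Category.assoc, pullback.lift_fst]
      exact ((pY ≫ pullback.fst _ _) (fi z)).2
    exact (SetLike.ext_iff.mp hOWk x).mp h5

include hc in
/-- Schemes of finite presentation over the limit come from a stage. -/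
theorem exists_model {X : Scheme.{u}} (f : X ⟶ c.pt) [LocallyOfFinitePresentation f] [QuasiCompact f]
    [QuasiSeparated f] : HasModel D c f := by
  classical
  obtain ⟨i₀⟩ := IsCofiltered.nonempty (C := I)
  haveI := isAffineHom_π_app D c hc i₀
  haveI : CompactSpace c.pt := QuasiCompact.compactSpace_of_compactSpace (c.π.app i₀)
  haveI : QuasiSeparatedSpace c.pt := quasiSeparatedSpace_of_quasiSeparated (c.π.app i₀)
  haveI : CompactSpace X := QuasiCompact.compactSpace_of_compactSpace f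
  haveI : QuasiSeparatedSpace X := quasiSeparatedSpace_of_quasiSeparated f
  have hch : ∀ x : X, ∃ V : X.affineOpens, x ∈ V.1 ∧ ∃ U : (D.obj i₀).affineOpens,
      ∀ y ∈ V.1, c.π.app i₀ (f y) ∈ U.1 := by
    intro x
    obtain ⟨U, hU, hxU, -⟩ := exists_isAffineOpen_mem_and_subset (U := (⊤ : (D.obj i₀).Opens))
      (x := c.π.app i₀ (f x)) trivial
    obtain ⟨V, hV, hxV, hVU⟩ := exists_isAffineOpen_mem_and_subset (U := (f ≫ c.π.app i₀) ⁻¹ᵁ U)
      (show x ∈ (f ≫ c.π.app i₀) ⁻¹ᵁ U from hxU)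
    exact ⟨⟨V, hV⟩, hxV, ⟨U, hU⟩, fun y hy => hVU hy⟩
  choose V hxV U hVU using hch
  obtain ⟨T, hT⟩ := isCompact_univ.elim_finite_subcover (fun x => ((V x).1 : Set X)) (fun x => (V x).1.2)
    (fun x _ => Set.mem_iUnion.mpr ⟨x, hxV x⟩)
  have haff : ∀ x, HasModel D c ((V x).1.ι ≫ f) := fun x => by
    haveI : IsAffine (V x).1.toScheme := (V x).2
    exact hasModel_of_isAffine hc _ (U x).1 (U x).2 fun y => hVU x y.1 y.2
  have hqsub : ∀ A : X.Opens, IsCompact (A : Set X) → QuasiSeparated (A.ι ≫ f) := fun A hA => inferInstance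
  suffices key : ∀ s : Finset X, s.Nonempty → IsCompact ((s.sup fun x => (V x).1 : X.Opens) : Set X) ∧
      HasModel D c ((s.sup fun x => (V x).1).ι ≫ f) by
    rcases T.eq_empty_or_nonempty with hE | hne
    · haveI : IsEmpty X := ⟨fun x => by simpa [hE] using hT (Set.mem_univ x)⟩
      haveI : IsAffine X := isAffine_of_isEmpty
      exact hasModel_of_isAffine hc f (i := i₀) ⊥ (isAffineOpen_bot _) fun x => isEmptyElim x
    · obtain ⟨-, h⟩ := key T hne
      have htop : (T.sup fun x => (V x).1) = ⊤ := top_le_iff.mp fun x _ => by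
        rw [Finset.sup_eq_iSup]
        simpa using hT (Set.mem_univ x)
      rw [htop] at h
      have := h.of_iso X.topIso.symm
      rwa [show X.topIso.symm.hom ≫ (⊤ : X.Opens).ι ≫ f = f from by simp] at this
  intro s hs
  induction hs using Finset.Nonempty.cons_induction with
  | singleton x => rw [Finset.sup_singleton]; exact ⟨(V x).2.isCompact, haff x⟩
  | cons x s hx hs ih =>
    rw [Finset.sup_cons]
    obtain ⟨ihc, ih⟩ := ih
    let A := (V x).1
    let B := s.sup fun x => (V x).1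
    refine ⟨(V x).2.isCompact.union ihc, ?_⟩
    let Y := (A ⊔ B).toScheme
    have cast : ∀ (A' : X.Opens), A' ≤ A ⊔ B → HasModel D c (A'.ι ≫ f) →
        HasModel D c (((A ⊔ B).ι ⁻¹ᵁ A').ι ≫ (A ⊔ B).ι ≫ f) := by
      intro A' hle h
      let e : ((A ⊔ B).ι ⁻¹ᵁ A').toScheme ≅ A'.toScheme :=
        IsOpenImmersion.isoOfRangeEq (((A ⊔ B).ι ⁻¹ᵁ A').ι ≫ (A ⊔ B).ι) A'.ι (by
          show Set.range (⇑(A ⊔ B).ι ∘ ⇑((A ⊔ B).ι ⁻¹ᵁ A').ι) = _
          rw [Set.range_comp, Scheme.Opens.range_ι, Scheme.Opens.range_ι]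
          show (A ⊔ B).ι '' ((A ⊔ B).ι ⁻¹' (A' : Set X)) = _
          rw [Set.image_preimage_eq_inter_range, Scheme.Opens.range_ι]
          exact Set.inter_eq_left.mpr hle)
      have := h.of_iso e
      rwa [← Category.assoc, IsOpenImmersion.isoOfRangeEq_hom_fac, Category.assoc] at this
    haveI : QuasiSeparated ((A ⊔ B).ι ≫ f) := inferInstance
    exact hasModel_of_cover hc _ _ _ (by rw [← Scheme.Hom.preimage_sup, Scheme.Opens.ι_preimage_self])
      (cast A le_sup_left (haff x)) (cast B le_sup_right ih)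

end Groth.Agent.LimSch
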