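import Groth.Agent.ConstrFib.Descend
import Groth.Agent.FibreDimChart.BaseChange
import Groth.Agent.FibreDimChart.Basic
import Groth.Agent.FibreDimChart.Constr
import Groth.Agent.RectDepth.GeomConstr

/-! # Bounds on relative dimension descend along limits -/

set_option autoImplicit false
set_option backward.isDefEq.respectTransparency false
universe u
open CategoryTheory Limits AlgebraicGeometry Topology

namespace Groth.Agent.LimSch

/-- A pointwise fibre condition with constructible or open locus descends. -/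
theorem descends_of_pointwise (H : MorphismProperty Scheme.{u})
    (Φ : ∀ {X S : Scheme.{u}}, (X ⟶ S) → X → Prop)
    (hH : ∀ {X S : Scheme.{u}} (f : X ⟶ S), H f → LocallyOfFiniteType f)
    (hbc : ∀ {X S X' S' : Scheme.{u}} (f : X ⟶ S) (g : S' ⟶ S) (g' : X' ⟶ X) (f' : X' ⟶ S'),
      LocallyOfFiniteType f → IsPullback g' f' f g → ∀ x', (Φ f' x' ↔ Φ f (g' x')))
    (hlocus : ∀ {X S : Scheme.{u}} (f : X ⟶ S), H f →
      IsOpen {x | Φ f x} ∨ IsLocallyConstructible {x : X | ¬ Φ f x}) :
    Descends.{u} (fun _ _ f => ∀ x, Φ f x) H := by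
  intro I _ _ D c hc _ i _ X₀ f₀ _ _ h X q f hsq hf
  have hlft : LocallyOfFiniteType f₀ := hH f₀ h
  have : CompactSpace X₀ := QuasiCompact.compactSpace_of_compactSpace f₀
  let o : Over i := Over.mk (𝟙 i)
  have : IsIso (pullback.snd (D.map o.hom) f₀) := by
    have : IsIso (D.map o.hom) := by dsimp [o]; infer_instance
    infer_instance
  have : CompactSpace ((bcDiag D i f₀).obj o) :=
    (Scheme.homeoOfIso (asIso (pullback.snd (D.map o.hom) f₀))).symm.compactSpace
  have hsq' : (bcCone D c i f₀ f q hsq.flip).π.app o ≫ (bcSnd D i f₀).app o = q :=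
    pullback.lift_snd _ _ _
  have hq : ∀ x, Φ f₀ (((bcCone D c i f₀ f q hsq.flip).π.app o ≫ (bcSnd D i f₀).app o) x) := by
    intro x
    rw [hsq']
    exact (hbc f₀ _ q f hlft hsq x).mp (hf x)
  obtain ⟨l, e, he⟩ : ∃ (l : Over i) (e : l ⟶ o), ∀ w, Φ f₀ ((bcSnd D i f₀).app o ((bcDiag D i f₀).map e w)) := by
    rcases hlocus f₀ h with ho | hZ
    · obtain ⟨l, e, he⟩ := exists_map_eq_top (bcDiag D i f₀) _
        (isLimitBcCone D c i f₀ hc f q hsq.flip) (i := o)
        ((bcSnd D i f₀).app o ⁻¹ᵁ ⟨_, ho⟩) (eq_top_iff.mpr fun x _ => hq x)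
      exact ⟨l, e, fun w => (he.ge (show w ∈ (⊤ : ((bcDiag D i f₀).obj l).Opens) from trivial) :)⟩
    · have hZ' : IsLocallyConstructible (⇑((bcSnd D i f₀).app o) ⁻¹' {x | ¬ Φ f₀ x}) :=
        Groth.Agent.LimSch.isLocallyConstructible_preimage _ hZ
      obtain ⟨l, e, he⟩ := exists_stage_subset (D := bcDiag D i f₀)
        (c := bcCone D c i f₀ f q hsq.flip) (isLimitBcCone D c i f₀ hc f q hsq.flip) o hZ'
        isCompact_univ isOpen_univ (V := ∅) isOpen_empty (by
          rintro x ⟨hx, -⟩
          exact hx (hq x))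
      exact ⟨l, e, fun w => by_contra fun hn => he (a := w) ⟨hn, Set.mem_univ _⟩⟩
  refine ⟨l.left, l.hom, fun z => ?_⟩
  rw [hbc f₀ _ _ _ hlft (IsPullback.of_hasPullback f₀ (D.map l.hom)) z]
  have h2 : (bcDiag D i f₀).map e ≫ (bcSnd D i f₀).app o = pullback.snd _ _ := pullback.lift_snd _ _ _
  have h1 := he ((pullbackSymmetry f₀ (D.map l.hom)).hom z)
  change Φ f₀ (((bcDiag D i f₀).map e ≫ (bcSnd D i f₀).app o) ((pullbackSymmetry f₀ (D.map l.hom)).hom z)) at h1
  rw [h2] at h1
  exact congr($(pullbackSymmetry_hom_comp_snd f₀ (D.map l.hom)) z) ▸ h1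

/-- `fibreDimAt ≤ d` descends. -/
theorem descends_fibreDimAt_le (d : ℕ) : Descends.{u}
    (fun _ _ f => ∀ x, FlatMor.fibreDimAt f x ≤ (d : WithBot ℕ∞)) @LocallyOfFiniteType :=
  descends_of_pointwise @LocallyOfFiniteType (fun {_ _} f x => FlatMor.fibreDimAt f x ≤ (d : WithBot ℕ∞))
    (fun _ h => h)
    (fun f g g' f' _ hsq x' => by rw [FibreDimChart.fibreDimAt_of_isPullback f g g' f' hsq x'])
    (fun f h => Or.inl (by
      have : LocallyOfFiniteType f := h
      exact FibreDimChart.isOpen_fibreDimAt_le f d))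

/-- Being of relative dimension `d` descends. -/
theorem descends_fibreDimAt_eq (d : ℕ) : Descends.{u}
    (fun _ _ f => ∀ x, FlatMor.fibreDimAt f x = (d : WithBot ℕ∞)) @LocallyOfFinitePresentation :=
  descends_of_pointwise @LocallyOfFinitePresentation
    (fun {_ _} f x => FlatMor.fibreDimAt f x = (d : WithBot ℕ∞))
    (fun f h => by have : LocallyOfFinitePresentation f := h; infer_instance)
    (fun f g g' f' _ hsq x' => by rw [FibreDimChart.fibreDimAt_of_isPullback f g g' f' hsq x'])
    (fun {X S} f h => Or.inr (by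
      have : LocallyOfFinitePresentation f := h
      apply Groth.Agent.LimSch.isLocallyConstructible_compl
      have hle : ∀ n : ℕ, IsLocallyConstructible {x : X | FlatMor.fibreDimAt f x ≤ (n : WithBot ℕ∞)} :=
        fun n => FibreDimChart.isLocallyConstructible_fibreDimAt_le f n
      rcases d with _ | k
      · convert hle 0 using 1
        ext x
        refine ⟨fun h => le_of_eq h, fun h => le_antisymm h ?_⟩
        obtain ⟨a, b, -, -, hab⟩ := RectDepth.exists_dh f x
        rw [hab]; exact_mod_cast Nat.zero_le _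
      · convert (hle (k + 1)).inter (Groth.Agent.LimSch.isLocallyConstructible_compl (hle k)) using 1
        ext x
        show FlatMor.fibreDimAt f x = ((k + 1 : ℕ) : WithBot ℕ∞) ↔
          FlatMor.fibreDimAt f x ≤ ((k + 1 : ℕ) : WithBot ℕ∞) ∧ ¬ FlatMor.fibreDimAt f x ≤ (k : WithBot ℕ∞)
        obtain ⟨a, b, -, -, hab⟩ := RectDepth.exists_dh f x
        rw [hab]
        constructor
        · intro h
          have h' : a + b = k + 1 := by exact_mod_cast h
          exact ⟨by exact_mod_cast h'.le, fun hk => by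
            have hk' : a + b ≤ k := by exact_mod_cast hk
            omega⟩
        · rintro ⟨h1, h2⟩
          have h1' : a + b ≤ k + 1 := by exact_mod_cast h1
          have h2' : ¬ a + b ≤ k := fun hk => h2 (by exact_mod_cast hk)
          exact_mod_cast (show a + b = k + 1 by omega)))

end Groth.Agent.LimSch
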