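import Groth.Agent.LimSch.DescendsCores
import Groth.Agent.LimSch.Constructible
import Groth.Agent.AlgSpc.LfpCancel
import Mathlib.AlgebraicGeometry.Morphisms.Immersion
import Mathlib.AlgebraicGeometry.Morphisms.FormallyUnramified

/-!
Descent along limits: open immersions, immersions, unramified morphisms.
-/

set_option autoImplicit false
set_option backward.isDefEq.respectTransparency false

universe u

open CategoryTheory Limits AlgebraicGeometry

namespace Groth.Agent.LimSch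

variable {P H : MorphismProperty Scheme.{u}} {I : Type u} [SmallCategory I] [IsCofiltered I]
  (D : I ⥤ Scheme.{u}) (c : Cone D) (hc : IsLimit c) [∀ (i j : I) (f : i ⟶ j), IsAffineHom (D.map f)]

omit [IsCofiltered I] [∀ (i j : I) (f : i ⟶ j), IsAffineHom (D.map f)] in
/-- Transitivity of base change to stages. -/
lemma trans_stage [P.RespectsIso] {i : I} {X₀ : Scheme.{u}} {f₀ : X₀ ⟶ D.obj i} {j k : I} {φ : j ⟶ i}
    {ψ : k ⟶ j} (h : P (pullback.snd (pullback.snd f₀ (D.map φ)) (D.map ψ))) :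
    P (pullback.snd f₀ (D.map (ψ ≫ φ))) := by
  have sq := (IsPullback.of_hasPullback (pullback.snd f₀ (D.map φ)) (D.map ψ)).paste_horiz
    (IsPullback.of_hasPullback f₀ (D.map φ))
  rw [← D.map_comp] at sq
  rw [← sq.isoPullback_inv_snd]
  exact MorphismProperty.RespectsIso.precomp P _ _ h

include hc in
/-- If the limit morphism factors through the preimage of an open of the stage, so does some stage. -/
lemma exists_stage_preimage_eq_top {i : I} {X₀ X : Scheme.{u}} [CompactSpace X₀] {f₀ : X₀ ⟶ D.obj i}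
    {q : X ⟶ X₀} {f : X ⟶ c.pt} (hsq : IsPullback q f f₀ (c.π.app i)) (U : (D.obj i).Opens)
    (hU : Set.range f ⊆ ⇑(c.π.app i) ⁻¹' (U : Set (D.obj i))) :
    ∃ (k : I) (φ : k ⟶ i), pullback.snd f₀ (D.map φ) ⁻¹ᵁ (D.map φ ⁻¹ᵁ U) = ⊤ := by
  have : ∀ {a b : Over i} (u : a ⟶ b), IsAffineHom ((bcDiag D i f₀).map u) := fun u => inferInstance
  let o : Over i := Over.mk (𝟙 i)
  have hV : (bcCone D c i f₀ f q hsq.flip).π.app o ⁻¹ᵁ
      (((bcSnd D i f₀).app o ≫ f₀) ⁻¹ᵁ U) = ⊤ := by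
    refine eq_top_iff.mpr fun x _ => ?_
    show ((bcCone D c i f₀ f q hsq.flip).π.app o ≫ (bcSnd D i f₀).app o ≫ f₀) x ∈ U
    have : (bcCone D c i f₀ f q hsq.flip).π.app o ≫ (bcSnd D i f₀).app o = q := pullback.lift_snd _ _ _
    rw [reassoc_of% this, hsq.w]
    exact hU ⟨x, rfl⟩
  obtain ⟨l, e, he⟩ := exists_map_eq_top (bcDiag D i f₀) _
    (isLimitBcCone D c i f₀ hc f q hsq.flip) (i := o) _ hV
  refine ⟨l.left, l.hom, eq_top_iff.mpr fun x _ => ?_⟩
  have hx : (pullbackSymmetry f₀ (D.map l.hom)).hom x ∈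
      (bcDiag D i f₀).map e ⁻¹ᵁ (((bcSnd D i f₀).app o ≫ f₀) ⁻¹ᵁ U) := by rw [he]; trivial
  change ((pullbackSymmetry f₀ (D.map l.hom)).hom ≫ (bcDiag D i f₀).map e ≫ (bcSnd D i f₀).app o ≫ f₀) x ∈ U at hx
  have : (bcDiag D i f₀).map e ≫ (bcSnd D i f₀).app o = pullback.snd _ _ := pullback.lift_snd _ _ _
  rw [reassoc_of% this, pullbackSymmetry_hom_comp_snd_assoc, pullback.condition] at hx
  exact hx

include hc in
/-- Descent of `P` followed by an open immersion, when the open is given at the stage. -/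
lemma exists_comp_openImmersion [P.RespectsIso] [H.RespectsIso] (hP : Descends P H) {i : I}
    {X₀ X : Scheme.{u}} {f₀ : X₀ ⟶ D.obj i} [QuasiCompact f₀] [QuasiSeparated f₀]
    {q : X ⟶ X₀} {f : X ⟶ c.pt} (hsq : IsPullback q f f₀ (c.π.app i)) (U : (D.obj i).Opens)
    (hUc : IsCompact (U : Set (D.obj i))) (hU : f₀ ⁻¹ᵁ U = ⊤)
    (hH : ∀ g : X₀ ⟶ U, g ≫ U.ι = f₀ → H g)
    (hf : ∀ g : X ⟶ (c.π.app i ⁻¹ᵁ U : c.pt.Opens), g ≫ (c.π.app i ⁻¹ᵁ U).ι = f → P g) :
    ∃ (k : I) (φ : k ⟶ i) (Y : Scheme.{u}) (a : pullback f₀ (D.map φ) ⟶ Y) (b : Y ⟶ D.obj k),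
      P a ∧ IsOpenImmersion b ∧ a ≫ b = pullback.snd f₀ (D.map φ) := by
  have : CompactSpace (U : Scheme.{u}) := isCompact_iff_compactSpace.mp hUc
  let g₀ : X₀ ⟶ U := IsOpenImmersion.lift U.ι f₀ (by
    rintro _ ⟨x, rfl⟩
    rw [Scheme.Opens.range_ι]
    exact hU.ge (show x ∈ ⊤ from trivial))
  have hg₀ : g₀ ≫ U.ι = f₀ := IsOpenImmersion.lift_fac _ _ _
  let g : X ⟶ (c.π.app i ⁻¹ᵁ U : c.pt.Opens) := IsOpenImmersion.lift (c.π.app i ⁻¹ᵁ U).ι f (by
    rintro _ ⟨x, rfl⟩
    rw [Scheme.Opens.range_ι]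
    show (f ≫ c.π.app i) x ∈ U
    rw [← hsq.w]
    exact hU.ge (show q x ∈ ⊤ from trivial))
  have hg : g ≫ (c.π.app i ⁻¹ᵁ U).ι = f := IsOpenImmersion.lift_fac _ _ _
  have : QuasiCompact (g₀ ≫ U.ι) := by rw [hg₀]; infer_instance
  have : QuasiSeparated (g₀ ≫ U.ι) := by rw [hg₀]; infer_instance
  have : QuasiCompact g₀ := QuasiCompact.of_comp g₀ U.ι
  have : QuasiSeparated g₀ := QuasiSeparated.of_comp g₀ U.ι
  have hY : IsPullback (c.π.app i ∣_ U) (c.π.app i ⁻¹ᵁ U).ι U.ι (c.π.app i) := isPullback_morphismRestrict _ _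
  have hX : IsPullback q g g₀ (c.π.app i ∣_ U) := by
    refine IsPullback.of_bot (by rw [hg, hg₀]; exact hsq) ?_ hY
    rw [← cancel_mono U.ι, Category.assoc, hg₀, Category.assoc, morphismRestrict_ι, reassoc_of% hg]
    exact hsq.w
  obtain ⟨k, φ, Xi, Yi, fi, gi, pY, pX, h1, h2, hfi⟩ :=
    hP.over D c hc i g₀ U.ι g _ _ q hY hX (hH g₀ hg₀) (hf g hg)
  have h3 := h2.paste_vert h1
  rw [hg₀] at h3
  refine ⟨k, φ, Yi, h3.isoPullback.inv ≫ fi, gi, MorphismProperty.RespectsIso.precomp P _ _ hfi,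
    MorphismProperty.of_isPullback h1 inferInstance, ?_⟩
  rw [Category.assoc, h3.isoPullback_inv_snd]

/-- Open immersions descend, for morphisms locally of finite presentation. -/
theorem descendsAff_isOpenImmersion : DescendsAff.{u} @IsOpenImmersion @LocallyOfFinitePresentation := by
  intro I _ _ D c hc _ _ i X₀ f₀ _ _ hlfp X q f hsq hf
  have : LocallyOfFinitePresentation f₀ := hlfp
  have := isAffine_pt D c hc i
  have : QuasiCompact f := MorphismProperty.of_isPullback hsq inferInstance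
  have : CompactSpace X := QuasiCompact.compactSpace_of_compactSpace f
  have haff : ∀ {a b : I} (e : a ⟶ b), IsAffineHom (D.map e) := fun e => inferInstance
  obtain ⟨j₀, V, hVc, hV⟩ := exists_preimage_eq D c hc f.opensRange
    (show IsCompact (Set.range f) from isCompact_range f.continuous)
  obtain ⟨j, φ, ψ₀, -⟩ : ∃ (j : I) (_ : j ⟶ i) (_ : j ⟶ j₀), True :=
    ⟨_, IsCofiltered.minToLeft i j₀, IsCofiltered.minToRight i j₀, trivial⟩
  let U := D.map ψ₀ ⁻¹ᵁ V
  obtain ⟨q₁, hsq₁⟩ := isPullback_stage D c hc hsq φ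
  have : CompactSpace (pullback f₀ (D.map φ) : Scheme.{u}) :=
    QuasiCompact.compactSpace_of_compactSpace (pullback.snd f₀ (D.map φ))
  have hU : c.π.app j ⁻¹ᵁ U = f.opensRange := by
    rw [← Scheme.Hom.comp_preimage, c.w, hV]
  obtain ⟨k, ψ, hk⟩ := exists_stage_preimage_eq_top D c hc hsq₁ U (by
    intro y hy
    exact (congrArg (fun W : c.pt.Opens => y ∈ W) hU).mpr hy)
  obtain ⟨q₂, hsq₂⟩ := isPullback_stage D c hc hsq₁ ψ
  obtain ⟨l, θ, Y, a, b, ha, hb, hab⟩ := exists_comp_openImmersion (P := MorphismProperty.isomorphisms Scheme.{u})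
    D c hc descends_isomorphisms hsq₂ (D.map ψ ⁻¹ᵁ U)
    (QuasiCompact.isCompact_preimage (f := D.map ψ) _ U.2
      (QuasiCompact.isCompact_preimage (f := D.map ψ₀) _ V.2 hVc))
    hk (fun g hg => by
      have : LocallyOfFinitePresentation (g ≫ (D.map ψ ⁻¹ᵁ U).ι) := by rw [hg]; infer_instance
      exact Groth.Agent.AlgSpc.lfp_of_comp g (D.map ψ ⁻¹ᵁ U).ι)
    (fun g hg => by
      have : IsOpenImmersion (g ≫ (c.π.app k ⁻¹ᵁ (D.map ψ ⁻¹ᵁ U)).ι) := by rw [hg]; exact hf
      have : IsOpenImmersion g := IsOpenImmersion.of_comp g (c.π.app k ⁻¹ᵁ (D.map ψ ⁻¹ᵁ U)).ι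
      have : Surjective g := ⟨fun y => by
        have hy : (c.π.app k ⁻¹ᵁ (D.map ψ ⁻¹ᵁ U)).ι y ∈ f.opensRange := by
          rw [← hU, ← c.w ψ]
          exact y.2
        obtain ⟨x, hx⟩ := hy
        refine ⟨x, (c.π.app k ⁻¹ᵁ (D.map ψ ⁻¹ᵁ U)).ι.isOpenEmbedding.injective ?_⟩
        exact (congrArg (fun m : X ⟶ c.pt => m x) hg).trans hx⟩
      exact (isIso_iff_isOpenImmersion_and_surjective g).mpr ⟨inferInstance, inferInstance⟩)
  have : IsIso a := ha
  refine ⟨l, (θ ≫ ψ) ≫ φ, trans_stage (P := @IsOpenImmersion) D (trans_stage (P := @IsOpenImmersion) D ?_)⟩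
  rw [← hab]; infer_instance

theorem descends_isOpenImmersion : Descends.{u} @IsOpenImmersion @LocallyOfFinitePresentation :=
  descendsAff_isOpenImmersion.descends

/-- Immersions descend, for morphisms locally of finite type. -/
theorem descendsAff_isImmersion : DescendsAff.{u} @IsImmersion @LocallyOfFiniteType := by
  intro I _ _ D c hc _ _ i X₀ f₀ _ _ hlft X q f hsq hf
  have : LocallyOfFiniteType f₀ := hlft
  have := isAffine_pt D c hc i
  have : QuasiCompact f := MorphismProperty.of_isPullback hsq inferInstance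
  have : CompactSpace X := QuasiCompact.compactSpace_of_compactSpace f
  obtain ⟨j, φ, V, hVc, hVf, hVO, -⟩ := exists_compact_open_between hc i
    (W := Set.range f) (O := (f.coborderRange : Set c.pt)) (isCompact_range f.continuous)
    f.coborderRange.2 subset_coborder (K := Set.univ) isOpen_univ (fun _ _ => trivial)
  obtain ⟨q₁, hsq₁⟩ := isPullback_stage D c hc hsq φ
  have : CompactSpace (pullback f₀ (D.map φ) : Scheme.{u}) :=
    QuasiCompact.compactSpace_of_compactSpace (pullback.snd f₀ (D.map φ))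
  obtain ⟨k, ψ, hk⟩ := exists_stage_preimage_eq_top D c hc hsq₁ V hVf
  obtain ⟨q₂, hsq₂⟩ := isPullback_stage D c hc hsq₁ ψ
  obtain ⟨l, θ, Y, a, b, ha, hb, hab⟩ := exists_comp_openImmersion (P := @IsClosedImmersion)
    D c hc descends_isClosedImmersion hsq₂ (D.map ψ ⁻¹ᵁ V)
    (QuasiCompact.isCompact_preimage (f := D.map ψ) _ V.2 hVc) hk
    (fun g hg => by
      have : LocallyOfFiniteType (g ≫ (D.map ψ ⁻¹ᵁ V).ι) := by rw [hg]; infer_instance
      exact locallyOfFiniteType_of_comp g (D.map ψ ⁻¹ᵁ V).ι)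
    (fun g hg => by
      have hle : (c.π.app k ⁻¹ᵁ (D.map ψ ⁻¹ᵁ V)) ≤ f.coborderRange := fun y hy => by
        apply hVO
        show c.π.app j y ∈ V
        rw [← c.w ψ]
        exact hy
      have : g ≫ c.pt.homOfLE hle = f.liftCoborder := by
        rw [← cancel_mono f.coborderRange.ι, Category.assoc, Scheme.homOfLE_ι, hg, f.liftCoborder_ι]
      have : IsClosedImmersion (g ≫ c.pt.homOfLE hle) := by rw [this]; infer_instance
      exact IsClosedImmersion.of_comp g (c.pt.homOfLE hle))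
  have : IsClosedImmersion a := ha
  refine ⟨l, (θ ≫ ψ) ≫ φ, trans_stage (P := @IsImmersion) D (trans_stage (P := @IsImmersion) D ?_)⟩
  rw [← hab]; infer_instance

theorem descends_isImmersion : Descends.{u} @IsImmersion @LocallyOfFiniteType :=
  descendsAff_isImmersion.descends

/-- Unramifiedness descends, in the form of open diagonals, for morphisms locally of finite type. -/
theorem descends_isOpenImmersion_diagonal :
    Descends.{u} (MorphismProperty.diagonal @IsOpenImmersion) @LocallyOfFiniteType :=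
  Descends.diagonal (P := @IsOpenImmersion) (H := @LocallyOfFinitePresentation)
    @descends_isOpenImmersion.{u} fun f hf => by
      have : LocallyOfFiniteType f := hf
      have : LocallyOfFinitePresentation (pullback.diagonal f ≫ pullback.fst f f) := by
        rw [pullback.diagonal_fst]; infer_instance
      exact Groth.Agent.AlgSpc.lfp_of_comp (pullback.diagonal f) (pullback.fst f f)

end Groth.Agent.LimSch
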