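import Groth.Agent.LimSch.DescendsFlat
import Groth.Agent.LimSch.DescendsImm
import Groth.Prelude.Def_Mor2
import Mathlib.AlgebraicGeometry.Morphisms.FlatRank

/-!
Descent of finite locally free morphisms of a given degree.
-/

set_option autoImplicit false
set_option backward.isDefEq.respectTransparency false

universe u

open CategoryTheory Limits AlgebraicGeometry

namespace Groth.Agent.LimSch

/-- finite locally free of degree `d`, as a property of morphisms -/
def finLocFreeDeg (d : ℕ) : MorphismProperty Scheme.{u} := fun _ _ f => Mor2.IsFinLocFreeOfDeg d f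

theorem descends_finLocFreeDeg (d : ℕ) : Descends.{u} (finLocFreeDeg d) @LocallyOfFinitePresentation := by
  intro I _ _ D c hc _ i _ X₀ f₀ _ _ hlfp X q f hsq hf
  obtain ⟨⟨hfin, hflat, -⟩, hrank⟩ := hf
  haveI : LocallyOfFinitePresentation f₀ := hlfp
  obtain ⟨j₁, φ₁, h₁⟩ := descends_isFinite D c hc i f₀ (inferInstance : LocallyOfFiniteType f₀) q f hsq hfin
  haveI : IsAffineHom (D.map φ₁) := inferInstance
  haveI : CompactSpace (D.obj j₁) := QuasiCompact.compactSpace_of_compactSpace (D.map φ₁)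
  obtain ⟨q₁, hq₁⟩ := isPullback_stage D c hc hsq φ₁
  obtain ⟨j₂, φ₂, h₂⟩ := descends_flat D c hc j₁ (pullback.snd f₀ (D.map φ₁)) inferInstance q₁ f hq₁ hflat
  haveI := h₁
  have hflat₂ : Flat (pullback.snd f₀ (D.map (φ₂ ≫ φ₁))) := trans_stage D (P := @Flat) h₂
  have hfin₂ : IsFinite (pullback.snd f₀ (D.map (φ₂ ≫ φ₁))) :=
    trans_stage D (P := @IsFinite) (MorphismProperty.pullback_snd _ _ h₁)
  let φ := φ₂ ≫ φ₁
  let p := pullback.snd f₀ (D.map φ)
  haveI : Flat p := hflat₂
  haveI : IsFinite p := hfin₂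
  obtain ⟨q₂, hq₂⟩ := isPullback_stage D c hc hsq φ
  let W : (D.obj j₂).Opens := ⟨p.finrank ⁻¹' {d}, (Scheme.Hom.isLocallyConstant_finrank p).isOpen_fiber d⟩
  haveI : IsAffineHom (D.map φ) := inferInstance
  haveI : CompactSpace (D.obj j₂) := QuasiCompact.compactSpace_of_compactSpace (D.map φ)
  haveI : ∀ {a b : I} (g : a ⟶ b), IsAffineHom (D.map g) := fun g => inferInstance
  obtain ⟨k, ψ, hk⟩ := exists_map_preimage_le_map_preimage D c hc (i := j₂) (U := ⊤) (V := W) isCompact_univ
    (fun y _ => by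
      show p.finrank (c.π.app j₂ y) = d
      exact (Scheme.Hom.finrank_of_isPullback q₂ f p (c.π.app j₂) hq₂ y).symm.trans (hrank y))
  refine ⟨k, ψ ≫ φ, ⟨?_, ?_, inferInstance⟩, fun y => ?_⟩
  · exact trans_stage D (P := @IsFinite) (MorphismProperty.pullback_snd _ _ hfin₂)
  · exact trans_stage D (P := @Flat) (MorphismProperty.pullback_snd _ _ hflat₂)
  · have hsq' : IsPullback (pullback.lift (pullback.fst f₀ (D.map (ψ ≫ φ))) (pullback.snd f₀ _ ≫ D.map ψ)
        (by rw [Category.assoc, ← D.map_comp]; exact pullback.condition))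
        (pullback.snd f₀ (D.map (ψ ≫ φ))) p (D.map ψ) :=
      IsPullback.of_right (by
        rw [pullback.lift_fst, ← D.map_comp]
        exact IsPullback.of_hasPullback _ _) (pullback.lift_snd _ _ _) (IsPullback.of_hasPullback f₀ (D.map φ))
    rw [Scheme.Hom.finrank_of_isPullback _ _ p (D.map ψ) hsq' y]
    exact hk (show y ∈ D.map ψ ⁻¹ᵁ ⊤ from trivial)

end Groth.Agent.LimSch
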