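import Groth.Agent.LimSch.DescendsSmooth
import Groth.Agent.AlgSpc.LfpCancel

/-!
A property holds on the limit iff it holds at some stage: global and pointwise versions, relative to a scheme
locally of finite presentation over a stage.
-/

set_option autoImplicit false
set_option backward.isDefEq.respectTransparency false

universe u

open CategoryTheory Limits AlgebraicGeometry

namespace Groth.Agent.LimSch

variable {I : Type u} [SmallCategory I] [IsCofiltered I] {P : MorphismProperty Scheme.{u}}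
  (D : I ⥤ Scheme.{u}) (c : Cone D) (hc : IsLimit c)
  [∀ (i j : I) (f : i ⟶ j), IsAffineHom (D.map f)]

omit [IsCofiltered I] [∀ (i j : I) (f : i ⟶ j), IsAffineHom (D.map f)] in
/-- The projection from the limit to a stage, relative to `Y₀`. -/
lemma exists_stage_proj {i₀ : I} {X₀ Y₀ X Y : Scheme.{u}} {f₀ : X₀ ⟶ Y₀} {g₀ : Y₀ ⟶ D.obj i₀}
    {f : X ⟶ Y} {g : Y ⟶ c.pt} {qY : Y ⟶ Y₀} {qX : X ⟶ X₀}
    (hY : IsPullback qY g g₀ (c.π.app i₀)) (hX : IsPullback qX f f₀ qY) {j : I} {φ : j ⟶ i₀}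
    {Xj Yj : Scheme.{u}} {fj : Xj ⟶ Yj} {gj : Yj ⟶ D.obj j} {pY : Yj ⟶ Y₀} {pX : Xj ⟶ X₀}
    (h1 : IsPullback pY gj g₀ (D.map φ)) (h2 : IsPullback pX fj f₀ pY) :
    ∃ (q : Y ⟶ Yj) (r : X ⟶ Xj), q ≫ pY = qY ∧ q ≫ gj = g ≫ c.π.app j ∧
      IsPullback q g gj (c.π.app j) ∧ IsPullback r f fj q ∧ r ≫ pX = qX := by
  let q : Y ⟶ Yj := h1.lift qY (g ≫ c.π.app j) (by rw [Category.assoc, c.w]; exact hY.w)
  have hq1 : q ≫ pY = qY := h1.lift_fst _ _ _
  have hq2 : q ≫ gj = g ≫ c.π.app j := h1.lift_snd _ _ _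
  let r : X ⟶ Xj := h2.lift qX (f ≫ q) (by rw [Category.assoc, hq1]; exact hX.w)
  have hr1 : r ≫ pX = qX := h2.lift_fst _ _ _
  have hr2 : r ≫ fj = f ≫ q := h2.lift_snd _ _ _
  refine ⟨q, r, hq1, hq2, IsPullback.of_right ?_ hq2 h1, IsPullback.of_right ?_ hr2 h2, hr1⟩
  · rw [hq1, c.w]; exact hY
  · rw [hr1, hq1]; exact hX

variable [IsZariskiLocalAtSource P] [P.IsStableUnderBaseChange] [P.IsStableUnderComposition]

include hc in
/-- Descent for a quasi-compact source. -/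
theorem exists_stage_of_descendsAff (hD : DescendsAff.{u} P @LocallyOfFinitePresentation)
    (hoi : ∀ {A B : Scheme.{u}} (j : A ⟶ B), IsOpenImmersion j → P j) (i₀ : I)
    {X₀ Y₀ : Scheme.{u}} (f₀ : X₀ ⟶ Y₀) (g₀ : Y₀ ⟶ D.obj i₀)
    [LocallyOfFinitePresentation g₀] [LocallyOfFinitePresentation (f₀ ≫ g₀)] [CompactSpace X₀]
    {X Y : Scheme.{u}} (f : X ⟶ Y) (g : Y ⟶ c.pt) (qY : Y ⟶ Y₀) (qX : X ⟶ X₀)
    (hY : IsPullback qY g g₀ (c.π.app i₀)) (hX : IsPullback qX f f₀ qY) (hf : P f) :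
    ∃ (k : I) (φ : k ⟶ i₀), P (pullback.snd f₀ (pullback.fst g₀ (D.map φ))) := by
  classical
  have : LocallyOfFinitePresentation f₀ := Groth.Agent.AlgSpc.lfp_of_comp f₀ g₀
  have key : ∀ (V : Y₀.affineOpens) (U : X₀.affineOpens), U.1 ≤ f₀ ⁻¹ᵁ V.1 →
      ∃ (k : I) (φ : k ⟶ i₀), P (pullback.snd (U.1.ι ≫ f₀) (pullback.fst g₀ (D.map φ))) := by
    intro V U e
    have : IsAffine (V.1 : Scheme.{u}) := V.2
    have : IsAffine (U.1 : Scheme.{u}) := U.2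
    let f₁ : (U.1 : Scheme.{u}) ⟶ V.1 := f₀.resLE V.1 U.1 e
    have hf₁ : f₁ ≫ V.1.ι = U.1.ι ≫ f₀ := Scheme.Hom.resLE_comp_ι _ _
    have : LocallyOfFinitePresentation (f₁ ≫ V.1.ι) := by rw [hf₁]; infer_instance
    have : LocallyOfFinitePresentation f₁ := Groth.Agent.AlgSpc.lfp_of_comp f₁ V.1.ι
    have e' : qX ⁻¹ᵁ U.1 ≤ f ⁻¹ᵁ (qY ⁻¹ᵁ V.1) := by
      rw [← Scheme.Hom.comp_preimage, ← hX.w, Scheme.Hom.comp_preimage]
      exact fun x hx => e hx
    let f' := f.resLE (qY ⁻¹ᵁ V.1) (qX ⁻¹ᵁ U.1) e'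
    have hf' : f' ≫ (qY ⁻¹ᵁ V.1).ι = (qX ⁻¹ᵁ U.1).ι ≫ f := Scheme.Hom.resLE_comp_ι _ _
    have hY' : IsPullback (qY ∣_ V.1) ((qY ⁻¹ᵁ V.1).ι ≫ g) (V.1.ι ≫ g₀) (c.π.app i₀) :=
      (isPullback_morphismRestrict qY V.1).paste_vert hY
    have hsq : IsPullback (qX ∣_ U.1) (f' ≫ (qY ⁻¹ᵁ V.1).ι) (f₁ ≫ V.1.ι) qY := by
      rw [hf', hf₁]; exact (isPullback_morphismRestrict qX U.1).paste_vert hX
    have hX' : IsPullback (qX ∣_ U.1) f' f₁ (qY ∣_ V.1) := by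
      refine IsPullback.of_bot hsq ?_ (isPullback_morphismRestrict qY V.1)
      rw [← cancel_mono V.1.ι, Category.assoc, hf₁, Category.assoc, morphismRestrict_ι, reassoc_of% hf',
        morphismRestrict_ι_assoc, hX.w]
    have hPf' : P f' := by
      have hmono : IsPullback (𝟙 _) f' (f' ≫ (qY ⁻¹ᵁ V.1).ι) (qY ⁻¹ᵁ V.1).ι := by
        simpa using (IsPullback.of_id_fst (f := f')).paste_vert (IsKernelPair.id_of_mono (qY ⁻¹ᵁ V.1).ι)
      refine MorphismProperty.of_isPullback hmono ?_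
      rw [hf']
      exact IsZariskiLocalAtSource.comp hf _
    obtain ⟨k, φ, Xi, Yi, fi, gi, pY, pX, h1, h2, hfi⟩ := hD.over D c hc i₀ f₁ (V.1.ι ≫ g₀) f'
      ((qY ⁻¹ᵁ V.1).ι ≫ g) (qY ∣_ V.1) (qX ∣_ U.1) hY' hX' inferInstance hPf'
    refine ⟨k, φ, ?_⟩
    let u : Yi ⟶ pullback g₀ (D.map φ) := pullback.lift (pY ≫ V.1.ι) gi (by rw [Category.assoc]; exact h1.w)
    have hu : IsPullback pY u V.1.ι (pullback.fst g₀ (D.map φ)) :=
      IsPullback.of_bot (v₂₁ := pullback.snd g₀ (D.map φ)) (v₂₂ := g₀)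
        (by simpa [u] using h1) (pullback.lift_fst _ _ _).symm (IsPullback.of_hasPullback g₀ (D.map φ))
    have hbig : IsPullback pX (fi ≫ u) (U.1.ι ≫ f₀) (pullback.fst g₀ (D.map φ)) := by
      rw [← hf₁]; exact h2.paste_vert hu
    have hPu : P (fi ≫ u) := MorphismProperty.comp_mem _ _ _ hfi
      (hoi u (MorphismProperty.of_isPullback hu inferInstance))
    rw [← hbig.isoPullback_inv_snd]
    exact (MorphismProperty.cancel_left_of_respectsIso P _ _).2 hPu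
  have hsub : ∀ x : X₀, ∃ (V : Y₀.affineOpens) (U : X₀.affineOpens), x ∈ U.1 ∧ U.1 ≤ f₀ ⁻¹ᵁ V.1 := fun x => by
    obtain ⟨V, hV, hxV, -⟩ := exists_isAffineOpen_mem_and_subset (x := f₀ x) (U := ⊤) trivial
    obtain ⟨U, hU, hxU, hle⟩ := exists_isAffineOpen_mem_and_subset (x := x) (U := f₀ ⁻¹ᵁ V) hxV
    exact ⟨⟨V, hV⟩, ⟨U, hU⟩, hxU, hle⟩
  choose V U hxU hle using hsub
  obtain ⟨t, ht⟩ := isCompact_univ.elim_finite_subcover (fun x : X₀ => ((U x).1 : Set X₀)) (fun x => (U x).1.2)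
    fun x _ => Set.mem_iUnion.2 ⟨x, hxU x⟩
  obtain ⟨k, φ, hk⟩ := exists_stage_forall (i := i₀) t
    (fun x j φ => P (pullback.snd ((U x).1.ι ≫ f₀) (pullback.fst g₀ (D.map φ))))
    (fun x j k φ ψ h => of_isPullback_comp (IsPullback.of_hasPullback ((U x).1.ι ≫ f₀) (pullback.fst g₀ (D.map φ)))
      (pullback.lift (pullback.fst g₀ (D.map (ψ ≫ φ))) (pullback.snd _ _ ≫ D.map ψ)
        (by rw [Category.assoc, ← D.map_comp]; exact pullback.condition))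
      (a' := pullback.fst _ _) (by rw [pullback.lift_fst]; exact IsPullback.of_hasPullback _ _) h)
    (fun x _ => key (V x) (U x) (hle x))
  refine ⟨k, φ, (IsZariskiLocalAtSource.iff_of_iSup_eq_top
    (fun x : t => pullback.fst f₀ (pullback.fst g₀ (D.map φ)) ⁻¹ᵁ (U x.1).1) ?_).2 fun x => ?_⟩
  · rw [← Scheme.Hom.preimage_iSup]
    have : (⨆ x : t, (U x.1).1) = ⊤ := top_le_iff.1 fun y _ => by
      obtain ⟨x, hx⟩ := Set.mem_iUnion.1 (ht (Set.mem_univ y))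
      obtain ⟨hxt, hy⟩ := Set.mem_iUnion.1 hx
      exact TopologicalSpace.Opens.mem_iSup.2 ⟨⟨x, hxt⟩, hy⟩
    rw [this]; rfl
  · have h := (isPullback_morphismRestrict (pullback.fst f₀ (pullback.fst g₀ (D.map φ))) (U x.1).1).paste_vert
      (IsPullback.of_hasPullback f₀ (pullback.fst g₀ (D.map φ)))
    rw [← h.isoPullback_hom_snd]
    exact (MorphismProperty.cancel_left_of_respectsIso P _ _).2 (hk x.1 x.2)

include hc in
/-- The property holds on the limit iff it holds at some stage. -/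
theorem iff_eventually (hD : DescendsAff.{u} P @LocallyOfFinitePresentation)
    (hoi : ∀ {A B : Scheme.{u}} (j : A ⟶ B), IsOpenImmersion j → P j) (i₀ : I)
    {X₀ Y₀ : Scheme.{u}} (f₀ : X₀ ⟶ Y₀) (g₀ : Y₀ ⟶ D.obj i₀)
    [LocallyOfFinitePresentation g₀] [LocallyOfFinitePresentation (f₀ ≫ g₀)] [CompactSpace X₀]
    {X Y : Scheme.{u}} (f : X ⟶ Y) (g : Y ⟶ c.pt) (qY : Y ⟶ Y₀) (qX : X ⟶ X₀)
    (hY : IsPullback qY g g₀ (c.π.app i₀)) (hX : IsPullback qX f f₀ qY) :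
    P f ↔ ∃ (j : I) (φ : j ⟶ i₀) (Xj Yj : Scheme.{u}) (fj : Xj ⟶ Yj) (gj : Yj ⟶ D.obj j) (pY : Yj ⟶ Y₀)
      (pX : Xj ⟶ X₀), IsPullback pY gj g₀ (D.map φ) ∧ IsPullback pX fj f₀ pY ∧ P fj := by
  constructor
  · intro hf
    obtain ⟨k, φ, hk⟩ := exists_stage_of_descendsAff D c hc hD hoi i₀ f₀ g₀ f g qY qX hY hX hf
    exact ⟨k, φ, _, _, _, pullback.snd _ _, _, pullback.fst _ _, IsPullback.of_hasPullback _ _,
      IsPullback.of_hasPullback _ _, hk⟩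
  · rintro ⟨j, φ, Xj, Yj, fj, gj, pY, pX, h1, h2, hfj⟩
    obtain ⟨q, r, -, -, -, hr, -⟩ := exists_stage_proj D c hY hX h1 h2
    exact MorphismProperty.of_isPullback hr hfj

include hc in
/-- Pointwise version. -/
theorem nhd_iff_eventually (hD : DescendsAff.{u} P @LocallyOfFinitePresentation)
    (hoi : ∀ {A B : Scheme.{u}} (j : A ⟶ B), IsOpenImmersion j → P j) (i₀ : I)
    {X₀ Y₀ : Scheme.{u}} (f₀ : X₀ ⟶ Y₀) (g₀ : Y₀ ⟶ D.obj i₀)
    [LocallyOfFinitePresentation g₀] [LocallyOfFinitePresentation (f₀ ≫ g₀)]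
    {X Y : Scheme.{u}} (f : X ⟶ Y) (g : Y ⟶ c.pt) (qY : Y ⟶ Y₀) (qX : X ⟶ X₀)
    (hY : IsPullback qY g g₀ (c.π.app i₀)) (hX : IsPullback qX f f₀ qY) (x : X) :
    (∃ U : X.Opens, x ∈ U ∧ P (U.ι ≫ f)) ↔
      ∃ (j : I) (φ : j ⟶ i₀) (Xj Yj : Scheme.{u}) (fj : Xj ⟶ Yj) (gj : Yj ⟶ D.obj j) (pY : Yj ⟶ Y₀)
        (pX : Xj ⟶ X₀) (rX : X ⟶ Xj), IsPullback pY gj g₀ (D.map φ) ∧ IsPullback pX fj f₀ pY ∧
          rX ≫ pX = qX ∧ rX ≫ fj ≫ gj = f ≫ g ≫ c.π.app j ∧ ∃ V : Xj.Opens, rX.base x ∈ V ∧ P (V.ι ≫ fj) := by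
  constructor
  · rintro ⟨U, hxU, hU⟩
    obtain ⟨U', hU'a, hxU', hU'⟩ := exists_isAffineOpen_mem_and_subset (U := U) hxU
    have hXc : IsPullback (f ≫ g) qX (c.π.app i₀) (f₀ ≫ g₀) := (hX.paste_vert hY).flip
    have haff : ∀ {a b : Over i₀} (e : a ⟶ b), IsAffineHom ((bcDiag D i₀ (f₀ ≫ g₀)).map e) := fun e => inferInstance
    obtain ⟨j, W, hWc, hW⟩ := exists_preimage_eq (bcDiag D i₀ (f₀ ≫ g₀)) _
      (isLimitBcCone D c i₀ (f₀ ≫ g₀) hc _ _ hXc) U' hU'a.isCompact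
    let gj : pullback g₀ (D.map j.hom) ⟶ D.obj j.left := pullback.snd _ _
    let pYj : pullback g₀ (D.map j.hom) ⟶ Y₀ := pullback.fst _ _
    let fj : pullback (D.map j.hom) (f₀ ≫ g₀) ⟶ pullback g₀ (D.map j.hom) :=
      pullback.lift (pullback.snd _ _ ≫ f₀) (pullback.fst _ _)
        (by rw [Category.assoc]; exact pullback.condition.symm)
    have hfj : IsPullback (pullback.snd (D.map j.hom) (f₀ ≫ g₀)) fj f₀ pYj := by
      refine IsPullback.of_bot ?_ (pullback.lift_fst _ _ _).symm (IsPullback.of_hasPullback g₀ (D.map j.hom))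
      simp only [fj, pullback.lift_snd]
      exact (IsPullback.of_hasPullback (D.map j.hom) (f₀ ≫ g₀)).flip
    obtain ⟨q, r, hq1, hq2, hq, hr, hr1⟩ := exists_stage_proj D c hY hX (IsPullback.of_hasPullback g₀ (D.map j.hom)) hfj
    have hπ : r = (bcCone D c i₀ (f₀ ≫ g₀) (f ≫ g) qX hXc).π.app j := by
      apply pullback.hom_ext
      · have hsnd : r ≫ fj ≫ gj = r ≫ pullback.fst _ _ := by simp [fj, gj]
        change _ = pullback.lift _ qX _ ≫ _
        rw [← hsnd, reassoc_of% hr.w, pullback.lift_fst, Category.assoc]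
        exact congrArg (f ≫ ·) hq2
      · change _ = pullback.lift _ qX _ ≫ _
        rw [pullback.lift_snd]; exact hr1
    subst hπ
    let W' : (pullback (D.map j.hom) (f₀ ≫ g₀)).Opens := W
    have : CompactSpace (W' : Scheme.{u}) := isCompact_iff_compactSpace.mp hWc
    have : LocallyOfFinitePresentation gj := inferInstanceAs (LocallyOfFinitePresentation (pullback.snd _ _))
    have : LocallyOfFinitePresentation ((W'.ι ≫ fj) ≫ gj) := by
      simp only [fj, gj, Category.assoc, pullback.lift_snd]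
      infer_instance
    have hle : (bcCone D c i₀ (f₀ ≫ g₀) (f ≫ g) qX hXc).π.app j ⁻¹ᵁ W' ≤ U := le_of_eq_of_le hW hU'
    have hPf : P (((bcCone D c i₀ (f₀ ≫ g₀) (f ≫ g) qX hXc).π.app j ⁻¹ᵁ W').ι ≫ f) := by
      rw [← Scheme.homOfLE_ι X hle, Category.assoc]
      exact IsZariskiLocalAtSource.comp hU _
    obtain ⟨k, φ, hk⟩ := exists_stage_of_descendsAff D c hc hD hoi j.left (W'.ι ≫ fj) gj
      (((bcCone D c i₀ (f₀ ≫ g₀) (f ≫ g) qX hXc).π.app j ⁻¹ᵁ W').ι ≫ f) g q _ hq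
      ((isPullback_morphismRestrict _ W').paste_vert hr) hPf
    have h1 : IsPullback (pullback.fst gj (D.map φ)) (pullback.snd gj (D.map φ)) gj (D.map φ) :=
      IsPullback.of_hasPullback _ _
    obtain ⟨qk, rk, hqk1, hqk2, -, hrk, hrk1⟩ := exists_stage_proj D c hq hr h1
      (IsPullback.of_hasPullback fj (pullback.fst gj (D.map φ)))
    refine ⟨k, φ ≫ j.hom, _, _, pullback.snd fj (pullback.fst gj (D.map φ)), pullback.snd gj (D.map φ),
      pullback.fst gj (D.map φ) ≫ pYj, pullback.fst fj _ ≫ pullback.snd (D.map j.hom) (f₀ ≫ g₀), rk,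
      by rw [D.map_comp]; exact h1.paste_horiz (IsPullback.of_hasPullback g₀ (D.map j.hom)),
      (IsPullback.of_hasPullback _ _).paste_horiz hfj, ?_, ?_,
      pullback.fst fj (pullback.fst gj (D.map φ)) ⁻¹ᵁ W', ?_, ?_⟩
    · rw [reassoc_of% hrk1]; exact hr1
    · rw [reassoc_of% hrk.w, hqk2]
    · show pullback.fst fj _ (rk x) ∈ W'
      rw [← Scheme.Hom.comp_apply, hrk1]
      exact hW.ge hxU'
    · have h := (isPullback_morphismRestrict (pullback.fst fj (pullback.fst gj (D.map φ))) W').paste_vert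
        (IsPullback.of_hasPullback fj (pullback.fst gj (D.map φ)))
      rw [← h.isoPullback_hom_snd]
      exact (MorphismProperty.cancel_left_of_respectsIso P _ _).2 hk
  · rintro ⟨j, φ, Xj, Yj, fj, gj, pY, pX, rX, h1, h2, hrX, hrX', V, hxV, hV⟩
    obtain ⟨q, r, hq1, hq2, -, hr, hr1⟩ := exists_stage_proj D c hY hX h1 h2
    have : rX = r := h2.hom_ext (hrX.trans hr1.symm) (h1.hom_ext (by
        simp only [Category.assoc]
        rw [← h2.w, reassoc_of% hrX, reassoc_of% hr1])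
      (by
        simp only [Category.assoc]
        rw [hrX', reassoc_of% hr.w, hq2]))
    subst this
    exact ⟨rX ⁻¹ᵁ V, hxV, MorphismProperty.of_isPullback ((isPullback_morphismRestrict rX V).paste_vert hr) hV⟩

end Groth.Agent.LimSch
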