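import Mathlib.AlgebraicGeometry.AffineTransitionLimit
import Mathlib.AlgebraicGeometry.Sites.Representability
import Mathlib.CategoryTheory.Sites.Limits
import Mathlib.CategoryTheory.Limits.Shapes.Pullback.Connected

/-!
Existence of cofiltered limits of schemes with affine transition maps.
-/

set_option autoImplicit false
set_option backward.isDefEq.respectTransparency false

universe u

open CategoryTheory Limits AlgebraicGeometry Opposite

namespace Groth.Agent.LimSch

theorem exists_limit_of_affine {J : Type u} [SmallCategory J] (F : J ⥤ Scheme.{u}) [∀ j, IsAffine (F.obj j)] :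
    Nonempty (LimitCone F) := by
  let e : F ⟶ (F ⋙ Scheme.Γ.rightOp) ⋙ Scheme.Spec := Functor.whiskerLeft F ΓSpec.adjunction.unit
  have (i : _) : IsIso (e.app i) := IsAffine.affine
  have : IsIso e := NatIso.isIso_of_isIso_app e
  exact ⟨⟨_, (IsLimit.postcomposeInvEquiv (asIso e) _).symm
    (isLimitOfPreserves Scheme.Spec (limit.isLimit (F ⋙ Scheme.Γ.rightOp)))⟩⟩

theorem isPullback_resLE {A B : Scheme.{u}} (f : A ⟶ B) (U : B.Opens) :
    IsPullback (f ⁻¹ᵁ U).ι (f.resLE U _ le_rfl) f U.ι := by
  rw [Scheme.Hom.resLE_eq_morphismRestrict]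
  exact (isPullback_morphismRestrict f U).flip

variable {I : Type u} [SmallCategory I] [IsCofiltered I] (D : I ⥤ Scheme.{u})
  [∀ {i j : I} (f : i ⟶ j), IsAffineHom (D.map f)]

theorem hasLimit_of_isAffineHom_transitions : HasLimit D := by
  obtain ⟨i₀⟩ : Nonempty I := IsCofiltered.nonempty
  let E : Over i₀ ⥤ Scheme.{u} := Over.forget i₀ ⋙ D
  let S : Scheme.{u} := D.obj i₀
  let top : Over i₀ := Over.mk (𝟙 i₀)
  haveI : IsConnected (Over i₀) := isConnected_of_hasTerminal _
  let G := Scheme.zariskiTopology.yoneda (C := Scheme.{u})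
  let Fs : Sheaf Scheme.zariskiTopology.{u} (Type u) := limit (E ⋙ G)
  let cF : Cone (E ⋙ yoneda) := (sheafToPresheaf Scheme.zariskiTopology.{u} (Type u)).mapCone (limit.cone (E ⋙ G))
  let hcF : IsLimit cF := isLimitOfPreserves (sheafToPresheaf _ _) (limit.isLimit (E ⋙ G))
  let π₀ : Fs.obj ⟶ yoneda.obj S := cF.π.app top
  let X : ∀ U : S.affineOpens, LimitCone (opensDiagram D i₀ U.1) := fun U =>
    Classical.choice <| @exists_limit_of_affine (Over i₀) _ (opensDiagram D i₀ U.1) fun j => by
      show IsAffine (D.map j.hom ⁻¹ᵁ U.1 : Scheme.{u})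
      exact U.2.preimage (D.map j.hom)
  have key : ∀ U : S.affineOpens, Nonempty (yoneda.obj (X U).cone.pt ≅ pullback π₀ (yoneda.map U.1.ι)) := by
    intro U
    let cG : Cone (opensDiagram D i₀ U.1 ⋙ yoneda) :=
      { pt := pullback π₀ (yoneda.map U.1.ι)
        π :=
        { app := fun j => (((isPullback_resLE (D.map j.hom) U.1)).map yoneda).lift
              (pullback.fst π₀ _ ≫ cF.π.app j) (pullback.snd π₀ _)
              (by
                rw [Category.assoc, ← pullback.condition]
                congr 1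
                have := cF.w (Over.homMk j.hom (by simp [top]) : j ⟶ top)
                exact this)
          naturality := fun j k f => by
            have : IsOpenImmersion ((D.map k.hom ⁻¹ᵁ U.1).ι) := inferInstance
            rw [← cancel_mono (yoneda.map (D.map k.hom ⁻¹ᵁ U.1).ι)]
            simp only [Functor.const_obj_obj, Functor.const_obj_map, Category.id_comp, Category.assoc,
              IsPullback.lift_fst, Functor.comp_map]
            rw [← Functor.map_comp, opensDiagram_map, Scheme.Hom.resLE_comp_ι, Functor.map_comp,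
              IsPullback.lift_fst_assoc, Category.assoc]
            exact congrArg (pullback.fst π₀ _ ≫ ·) (cF.w f).symm } }
    let α : opensDiagram D i₀ U.1 ⋙ yoneda ⟶ E ⋙ yoneda :=
      Functor.whiskerRight (opensDiagramι D i₀ U.1) yoneda
    have hG : IsLimit cG := isLimitOfIsPullbackOfIsConnected α cG cF
      { hom := pullback.fst π₀ _
        w := fun j => (IsPullback.lift_fst _ _ _ _).symm }
      (fun j => by
        refine IsPullback.of_right (h₁₂ := yoneda.map ((D.map j.hom).resLE U.1 _ le_rfl))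
          (h₂₂ := yoneda.map (D.map j.hom)) (v₁₃ := yoneda.map U.1.ι) ?_ (IsPullback.lift_fst _ _ _ _)
          ((isPullback_resLE (D.map j.hom) U.1).map yoneda).flip
        have hw : cF.π.app j ≫ yoneda.map (D.map j.hom) = π₀ :=
          cF.w (Over.homMk j.hom (by simp [top]) : j ⟶ top)
        rw [hw]
        erw [IsPullback.lift_snd]
        exact (IsPullback.of_hasPullback π₀ _).flip) hcF
    exact ⟨IsLimit.conePointUniqueUpToIso (isLimitOfPreserves yoneda (X U).isLimit) hG⟩
  let f : ∀ U : S.affineOpens, yoneda.obj (X U).cone.pt ⟶ Fs.obj := fun U =>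
    (key U).some.hom ≫ pullback.fst π₀ _
  have hf : ∀ U, IsOpenImmersion.presheaf (f U) := fun U => by
    haveI : MorphismProperty.IsStableUnderBaseChange (IsOpenImmersion.presheaf : MorphismProperty (Scheme.{u}ᵒᵖ ⥤ Type u)) :=
      MorphismProperty.relative_isStableUnderBaseChange _
    exact MorphismProperty.RespectsIso.precomp _ (key U).some.hom _
      (MorphismProperty.pullback_fst _ _ (MorphismProperty.relative_map (F := yoneda) (inferInstanceAs (IsOpenImmersion U.1.ι))))
  haveI : Presheaf.IsLocallySurjective Scheme.zariskiTopology.{u} (Sigma.desc f) := ⟨fun {T} a => by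
    let a' : yoneda.obj T ⟶ Fs.obj := yonedaEquiv.symm a
    let t : T ⟶ S := Yoneda.fullyFaithful.preimage (a' ≫ π₀)
    let 𝒰 : T.OpenCover := T.openCoverOfIsOpenCover (fun U : S.affineOpens => t ⁻¹ᵁ U.1) (by
      refine TopologicalSpace.IsOpenCover.mk ?_
      rw [← Scheme.Hom.preimage_iSup, iSup_affineOpens_eq_top, Scheme.Hom.preimage_top])
    refine GrothendieckTopology.superset_covering _ ?_ 𝒰.mem_grothendieckTopology
    rintro V γ ⟨W, b, _, ⟨U⟩, rfl⟩
    let l : yoneda.obj (t ⁻¹ᵁ U.1 : Scheme.{u}) ⟶ pullback π₀ (yoneda.map U.1.ι) :=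
      pullback.lift (yoneda.map (t ⁻¹ᵁ U.1).ι ≫ a') (yoneda.map (t.resLE U.1 _ le_rfl)) (by
        rw [Category.assoc, ← Functor.map_comp, Scheme.Hom.resLE_comp_ι, Functor.map_comp,
          Yoneda.fullyFaithful.map_preimage])
    let s := yoneda.map b ≫ l ≫ (key U).some.inv ≫ Sigma.ι (fun U => yoneda.obj (X U).cone.pt) U
    refine ⟨yonedaEquiv s, ?_⟩
    have e : s ≫ Sigma.desc f = yoneda.map (b ≫ (t ⁻¹ᵁ U.1).ι) ≫ a' := by
      simp [s, f, l]
    rw [← yonedaEquiv_comp, e]
    exact ((yonedaEquiv_naturality a' (b ≫ (t ⁻¹ᵁ U.1).ι)).symm.trans (congrArg _ (yonedaEquiv.apply_symm_apply a)))⟩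
  obtain ⟨P, ⟨hP⟩⟩ := Scheme.LocalRepresentability.isRepresentable (F := Fs) hf
  let e₀ : yoneda.obj P ≅ Fs.obj := Functor.representableByEquiv hP
  let cE : Cone E :=
    { pt := P
      π :=
      { app := fun j => Yoneda.fullyFaithful.preimage (e₀.hom ≫ cF.π.app j)
        naturality := fun j k g => Yoneda.fullyFaithful.map_injective (by
          simp only [Functor.const_obj_obj, Functor.const_obj_map, Category.id_comp, Functor.map_comp,
            Yoneda.fullyFaithful.map_preimage, Category.assoc]
          exact congrArg (e₀.hom ≫ ·) (cF.w g).symm) } }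
  let hE : IsLimit cE := isLimitOfReflects yoneda
    (hcF.ofIsoLimit (Cone.ext e₀ fun j => Yoneda.fullyFaithful.map_preimage _).symm)
  haveI : HasLimit (Over.forget i₀ ⋙ D) := ⟨⟨⟨cE, hE⟩⟩⟩
  exact Functor.Initial.hasLimit_of_comp (Over.forget i₀)

end Groth.Agent.LimSch
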