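import Groth.Agent.LimSch.MaxPoints
import Groth.Agent.LimSch.Stalks
import Mathlib.AlgebraicGeometry.Noetherian
import Mathlib.AlgebraicGeometry.AffineScheme

/-!
Limits along open immersions.
-/

set_option autoImplicit false
set_option backward.isDefEq.respectTransparency false

universe u

open CategoryTheory Limits AlgebraicGeometry Topology

namespace Groth.Agent.LimSch

variable {I : Type u} [SmallCategory I] [IsCofiltered I] {D : I ⥤ Scheme.{u}} {c : Cone D}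
  [∀ (i j : I) (f : i ⟶ j), IsAffineHom (D.map f)]

omit [IsCofiltered I] [∀ (i j : I) (f : i ⟶ j), IsAffineHom (D.map f)] in
lemma app_eq_zero_of_fac {X Y Z : Scheme.{u}} {g : X ⟶ Y} {f : Y ⟶ Z} {h : X ⟶ Z}
    (w : g ≫ f = h) {U : Z.Opens} (s : Γ(Z, U)) (hz : f.app U s = 0) : h.app U s = 0 := by
  subst w
  rw [Scheme.Hom.comp_app, CommRingCat.comp_apply, hz, map_zero]

lemma exists_isReduced_stage (hc : IsLimit c) (i₀ : I) [CompactSpace (D.obj i₀)]
    (hoi : ∀ (i j : I) (φ : i ⟶ j), IsOpenImmersion (D.map φ))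
    (hN : ∀ U : (D.obj i₀).affineOpens, (nilradical Γ(D.obj i₀, U)).FG)
    (hred : IsReduced c.pt) :
    ∃ (i : I) (_ : i ⟶ i₀), ∀ (j : I) (_ : j ⟶ i), IsReduced (D.obj j) := by
  classical
  obtain ⟨s, hs, hsU⟩ :=
    exists_finite_affine_cover (X := D.obj i₀) isCompact_univ isOpen_univ
  have := hs.to_subtype
  choose G hG using fun U : s => hN U.1
  have key : ∀ p : Σ U : s, G U, ∃ (j : I) (φ : j ⟶ i₀), (D.map φ).app p.1.1.1 p.2.1 = 0 := by
    rintro ⟨U, g, hg⟩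
    have hnil : IsNilpotent g := mem_nilradical.mp (hG U ▸ Ideal.subset_span hg)
    have : _root_.IsReduced Γ(((Functor.const I).obj c.pt).obj i₀, c.π.app i₀ ⁻¹ᵁ U.1.1) :=
      hred.component_reduced _
    exact exists_app_eq_zero hc U.1.2.isCompact g ((hnil.map ((c.π.app i₀).app U.1.1).hom).eq_zero)
  choose j φ hφ using key
  obtain ⟨k, ψ, θ, hk⟩ := IsCofiltered.wideCospan φ
  refine ⟨k, ψ, fun l χ => ?_⟩
  have := hoi l i₀ (χ ≫ ψ)
  refine @isReduced_of_isReduced_stalk _ fun y => ?_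
  let F := D.map (χ ≫ ψ)
  obtain ⟨U, hUs, hyU⟩ : ∃ U ∈ s, F y ∈ (U : (D.obj i₀).Opens) := by
    simpa using hsU.le (Set.mem_univ (F y))
  have hbij := ConcreteCategory.bijective_of_isIso (F.stalkMap y)
  suffices hzero : ∀ a : (D.obj i₀).presheaf.stalk (F y), IsNilpotent a → F.stalkMap y a = 0 by
    refine ⟨fun b hb => ?_⟩
    obtain ⟨a, rfl⟩ := hbij.2 b
    obtain ⟨n, hn⟩ := hb
    exact hzero a ⟨n, hbij.1 (by rw [map_pow, hn, map_zero])⟩
  intro a ha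
  let _ : Algebra Γ(D.obj i₀, U.1) ((D.obj i₀).presheaf.stalk (F y)) :=
    ((D.obj i₀).presheaf.germ U.1 (F y) hyU).hom.toAlgebra
  have hloc : IsLocalization.AtPrime ((D.obj i₀).presheaf.stalk (F y))
      (U.2.primeIdealOf ⟨F y, hyU⟩).asIdeal := U.2.isLocalization_stalk ⟨F y, hyU⟩
  set M := (U.2.primeIdealOf ⟨F y, hyU⟩).asIdeal.primeCompl
  obtain ⟨⟨r, t⟩, hrt⟩ := IsLocalization.surj M a
  obtain ⟨n, hn⟩ := ha
  have hrn : algebraMap Γ(D.obj i₀, U.1) ((D.obj i₀).presheaf.stalk (F y)) (r ^ (n + 1)) = 0 := by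
    rw [map_pow, ← hrt, mul_pow, pow_succ a, hn, zero_mul, zero_mul]
  obtain ⟨m, hm⟩ := (IsLocalization.map_eq_zero_iff M _ _).mp hrn
  have hmr : (m : Γ(D.obj i₀, U.1)) * r ∈ nilradical Γ(D.obj i₀, U.1) :=
    mem_nilradical.mpr ⟨n + 1, by rw [mul_pow, pow_succ (m : Γ(D.obj i₀, U.1)), mul_assoc, hm, mul_zero]⟩
  let ev : Γ(D.obj i₀, U.1) →+* (D.obj l).presheaf.stalk y :=
    (F.stalkMap y).hom.comp ((D.obj i₀).presheaf.germ U.1 (F y) hyU).hom
  have hker : nilradical Γ(D.obj i₀, U.1) ≤ RingHom.ker ev := by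
    rw [← hG ⟨U, hUs⟩, Ideal.span_le]
    intro g hg
    change F.stalkMap y ((D.obj i₀).presheaf.germ U.1 (F y) hyU g) = 0
    rw [Scheme.Hom.germ_stalkMap_apply]
    have h1 : F.app U.1 g = 0 := by
      refine app_eq_zero_of_fac (g := D.map (χ ≫ θ ⟨⟨U, hUs⟩, g, hg⟩))
        (f := D.map (φ ⟨⟨U, hUs⟩, g, hg⟩)) ?_ g (hφ ⟨⟨U, hUs⟩, g, hg⟩)
      rw [← D.map_comp, Category.assoc, hk]
    rw [h1, map_zero]
  have h2 : ev m * ev r = 0 := by rw [← map_mul]; exact hker hmr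
  have hm' : IsUnit (ev m) := (IsLocalization.map_units _ m).map (F.stalkMap y).hom
  have ht' : IsUnit (ev t) := (IsLocalization.map_units _ t).map (F.stalkMap y).hom
  have h3 : ev r = 0 := hm'.mul_right_eq_zero.mp h2
  have h4 : F.stalkMap y a * ev t = ev r := by
    have := congr(F.stalkMap y $hrt)
    rwa [map_mul] at this
  exact ht'.mul_left_eq_zero.mp (h4.trans h3)

lemma exists_irreducible_stage (hc : IsLimit c) (i₀ : I) [TopologicalSpace.NoetherianSpace (D.obj i₀)]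
    (hoi : ∀ (i j : I) (φ : i ⟶ j), IsOpenImmersion (D.map φ)) (hirr : IrreducibleSpace c.pt) :
    ∃ (i : I) (_ : i ⟶ i₀), ∀ (j : I) (_ : j ⟶ i), IrreducibleSpace (D.obj j) := by
  classical
  let M := {ξ : D.obj i₀ | IsMaxPt ξ}
  have hfin : Finite M := finite_isMaxPt.to_subtype
  let bad : Set M := {ξ | ξ.1 ∉ Set.range (c.π.app i₀)}
  have key : ∀ ξ : bad, ∃ (j : I) (φ : j ⟶ i₀), ξ.1.1 ∉ Set.range (D.map φ) := by
    intro ξ
    have := ξ.2
    simp only [bad, Set.mem_ofPred_eq, range_π_eq_iInter hc, Set.mem_iInter] at this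
    push Not at this
    exact this
  choose j φ hφ using key
  obtain ⟨k, ψ, θ, hk⟩ := IsCofiltered.wideCospan φ
  refine ⟨k, ψ, fun l χ => ?_⟩
  have := hoi l i₀ (χ ≫ ψ)
  have hF : IsOpenEmbedding ⇑(D.map (χ ≫ ψ)) := (D.map (χ ≫ ψ)).isOpenEmbedding
  have hne : Nonempty (D.obj l) := ⟨c.π.app l (Classical.arbitrary c.pt)⟩
  -- all maximal points in the image of `D.obj l` are equal
  have huniq : ∀ ξ ξ' : D.obj i₀, IsMaxPt ξ → IsMaxPt ξ' → ξ ∈ Set.range (D.map (χ ≫ ψ)) →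
      ξ' ∈ Set.range (D.map (χ ≫ ψ)) → ξ = ξ' := by
    have hgood : ∀ ξ : D.obj i₀, IsMaxPt ξ → ξ ∈ Set.range (D.map (χ ≫ ψ)) →
        ξ = c.π.app i₀ (genericPoint c.pt) := by
      intro ξ hξ hξr
      have hgoodξ : ξ ∈ Set.range (c.π.app i₀) := by
        by_contra hbad
        obtain ⟨y, hy⟩ := hξr
        refine hφ ⟨⟨ξ, hξ⟩, hbad⟩ ⟨D.map (χ ≫ θ ⟨⟨ξ, hξ⟩, hbad⟩) y, ?_⟩
        rw [map_apply, Category.assoc, hk]
        exact hy
      obtain ⟨s, rfl⟩ := hgoodξ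
      exact (hξ _ ((@genericPoint_specializes c.pt _ _ _ s).map (c.π.app i₀).continuous)).symm
    exact fun ξ ξ' h1 h2 h3 h4 => (hgood ξ h1 h3).trans (hgood ξ' h2 h4).symm
  refine @IrreducibleSpace.mk _ _ ⟨?_⟩ hne
  rintro U U' hU hU' ⟨y, -, hy⟩ ⟨y', -, hy'⟩
  obtain ⟨ξ, hξ, hξy⟩ := exists_isMaxPt_specializes (D.map (χ ≫ ψ) y)
  obtain ⟨ξ', hξ', hξy'⟩ := exists_isMaxPt_specializes (D.map (χ ≫ ψ) y')
  have hm := hξy.mem_open (hF.isOpenMap _ hU) ⟨y, hy, rfl⟩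
  have hm' := hξy'.mem_open (hF.isOpenMap _ hU') ⟨y', hy', rfl⟩
  obtain ⟨z, hz, hzξ⟩ := hm
  obtain ⟨z', hz', hzξ'⟩ := hm'
  have := huniq ξ ξ' hξ hξ' ⟨z, hzξ⟩ ⟨z', hzξ'⟩
  exact ⟨z, trivial, hz, hF.injective (hzξ.trans (this.trans hzξ'.symm)) ▸ hz'⟩

lemma isReduced_iff_of_isOpenImmersion (hc : IsLimit c) (i₀ : I) [CompactSpace (D.obj i₀)]
    (hoi : ∀ (i j : I) (φ : i ⟶ j), IsOpenImmersion (D.map φ))
    (hN : ∀ U : (D.obj i₀).affineOpens, (nilradical Γ(D.obj i₀, U)).FG) :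
    IsReduced c.pt ↔ ∃ (i : I) (_ : i ⟶ i₀), ∀ (j : I) (_ : j ⟶ i), IsReduced (D.obj j) := by
  refine ⟨exists_isReduced_stage hc i₀ hoi hN, fun ⟨i, φ, h⟩ => isReduced_of_cofinal hc fun k => ?_⟩
  obtain ⟨j, p, q, -⟩ := IsCofilteredOrEmpty.cone_objs k i
  exact ⟨j, p, h j q⟩

lemma isIntegral_iff_of_isOpenImmersion (hc : IsLimit c) (i₀ : I) [IsNoetherian (D.obj i₀)]
    (hoi : ∀ (i j : I) (φ : i ⟶ j), IsOpenImmersion (D.map φ)) :
    IsIntegral c.pt ↔ ∃ (i : I) (_ : i ⟶ i₀), ∀ (j : I) (_ : j ⟶ i), IsIntegral (D.obj j) := by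
  refine ⟨fun h => ?_, fun ⟨i, φ, h⟩ => ?_⟩
  · obtain ⟨a, α, ha⟩ := exists_isReduced_stage hc i₀ hoi
      (fun U => have := IsLocallyNoetherian.component_noetherian U; IsNoetherian.noetherian _) inferInstance
    obtain ⟨b, β, hb⟩ := exists_irreducible_stage hc i₀ hoi inferInstance
    obtain ⟨k, p, q, hpq⟩ := IsCofiltered.cospan α β
    exact ⟨k, p ≫ α, fun j ψ =>
      have := ha j (ψ ≫ p)
      have := hb j (ψ ≫ q)
      isIntegral_of_irreducibleSpace_of_isReduced _⟩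
  · have : IsReduced c.pt := isReduced_of_cofinal hc fun k => by
      obtain ⟨j, p, q, -⟩ := IsCofilteredOrEmpty.cone_objs k i
      have := h j q
      exact ⟨j, p, inferInstance⟩
    have : ∀ (a b : Over i) (f : a ⟶ b), IsAffineHom ((Over.forget i ⋙ D).map f) :=
      fun a b f => inferInstanceAs (IsAffineHom (D.map f.left))
    let hc' := (Functor.Initial.isLimitWhiskerEquiv (Over.forget i) c).symm hc
    have hd : ∀ (a b : Over i) (f : a ⟶ b), IsDominant ((Over.forget i ⋙ D).map f) := fun a b f => by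
      have := h a.left a.hom
      have := h b.left b.hom
      have := hoi _ _ f.left
      refine ⟨((D.map f.left).isOpenEmbedding.isOpen_range).dense ?_⟩
      exact Set.range_nonempty _
    have : CompactSpace ((Over.forget i ⋙ D).obj (Over.mk (𝟙 i))) :=
      QuasiCompact.compactSpace_of_compactSpace (D.map φ)
    have : IrreducibleSpace c.pt := (irreducibleSpace_iff hd hc' (Over.mk (𝟙 i))).mpr
      ⟨_, 𝟙 _, fun j _ => by have := h j.left j.hom; exact inferInstanceAs (IrreducibleSpace (D.obj j.left))⟩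
    exact isIntegral_of_irreducibleSpace_of_isReduced _

end Groth.Agent.LimSch
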